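import Mathlib
import Cfsg.Prelude.Def_GeometricClasses
import Cfsg.Agent.ClassicalGeometry.SympBasic
set_option linter.all false

/-!
# Basics on `Cfsg.spGL` (helper909)

Membership in matrix form, adjoints, and the decomposition attached to an involution.
-/

set_option autoImplicit false

namespace Cfsg.Agent.H909

open Cfsg Cfsg.Geo Matrix
open Cfsg.Agent.ClassicalGeometry.SympBasic

variable {F : Type*} [Field F] {m : ℕ}

theorem mem_spGL_iff {g : GL (Fin m ⊕ Fin m) F} :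
    g ∈ spGL m F ↔ ∀ u v, sympForm m F ((g : Matrix (Fin m ⊕ Fin m) (Fin m ⊕ Fin m) F) *ᵥ u)
      ((g : Matrix (Fin m ⊕ Fin m) (Fin m ⊕ Fin m) F) *ᵥ v) = sympForm m F u v := Iff.rfl

theorem mem_spGL_iff_symplectic {g : GL (Fin m ⊕ Fin m) F} :
    g ∈ spGL m F ↔ (g : Matrix (Fin m ⊕ Fin m) (Fin m ⊕ Fin m) F) ∈
      Matrix.symplecticGroup (Fin m) F := by
  rw [mem_symplecticGroup_iff, mem_spGL_iff]

theorem mem_spGL_iff_transpose {g : GL (Fin m ⊕ Fin m) F} :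
    g ∈ spGL m F ↔ (g : Matrix (Fin m ⊕ Fin m) (Fin m ⊕ Fin m) F)ᵀ * Matrix.J (Fin m) F *
      (g : Matrix (Fin m ⊕ Fin m) (Fin m ⊕ Fin m) F) = Matrix.J (Fin m) F := by
  rw [mem_spGL_iff_symplectic, SymplecticGroup.mem_iff']

theorem sympForm_inv_right {g : GL (Fin m ⊕ Fin m) F} (hg : g ∈ spGL m F)
    (u v : Fin m ⊕ Fin m → F) :
    sympForm m F ((g : Matrix (Fin m ⊕ Fin m) (Fin m ⊕ Fin m) F) *ᵥ u) v =
      sympForm m F u (((g⁻¹ : GL (Fin m ⊕ Fin m) F) :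
        Matrix (Fin m ⊕ Fin m) (Fin m ⊕ Fin m) F) *ᵥ v) := by
  have h := mem_spGL_iff.1 hg u (((g⁻¹ : GL (Fin m ⊕ Fin m) F) :
        Matrix (Fin m ⊕ Fin m) (Fin m ⊕ Fin m) F) *ᵥ v)
  rw [Matrix.mulVec_mulVec, ← Units.val_mul, mul_inv_cancel, Units.val_one, Matrix.one_mulVec] at h
  exact h

/-- The matrix of the form, seen through `A`. -/
theorem sympForm_mulVec_right (A : Matrix (Fin m ⊕ Fin m) (Fin m ⊕ Fin m) F)
    (u v : Fin m ⊕ Fin m → F) :
    sympForm m F u (A *ᵥ v) = u ⬝ᵥ ((Matrix.J (Fin m) F * A) *ᵥ v) := by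
  rw [sympForm_def, Matrix.mulVec_mulVec]

theorem sympForm_mulVec_left (A : Matrix (Fin m ⊕ Fin m) (Fin m ⊕ Fin m) F)
    (u v : Fin m ⊕ Fin m → F) :
    sympForm m F (A *ᵥ u) v = u ⬝ᵥ ((Aᵀ * Matrix.J (Fin m) F) *ᵥ v) := by
  rw [sympForm_def, Matrix.dotProduct_mulVec, Matrix.dotProduct_mulVec, ← Matrix.vecMul_transpose,
    Matrix.vecMul_vecMul]

/-- Two matrices are adjoint for the form iff `Aᵀ J = J B`. -/
theorem adjoint_iff (A B : Matrix (Fin m ⊕ Fin m) (Fin m ⊕ Fin m) F) :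
    (∀ u v, sympForm m F (A *ᵥ u) v = sympForm m F u (B *ᵥ v)) ↔
      Aᵀ * Matrix.J (Fin m) F = Matrix.J (Fin m) F * B := by
  constructor
  · intro h
    ext i j
    have := h (Pi.single i 1) (Pi.single j 1)
    rw [sympForm_mulVec_left, sympForm_mulVec_right, single_one_dotProduct, single_one_dotProduct,
      Matrix.mulVec_single_one, Matrix.mulVec_single_one] at this
    exact this
  · intro h u v
    rw [sympForm_mulVec_left, sympForm_mulVec_right, h]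

end Cfsg.Agent.H909
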