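import Mathlib
import Cfsg.Prelude.Def_GeometricClasses
import Cfsg.Agent.ClassicalGeometry.SympBasic
import Cfsg.Agent.ClassicalGeometry.TwoFamilies
import Cfsg.Agent.H909.SpBasic
set_option linter.all false

/-!
# The decomposition attached to an involution of `Sp_4` (helper909)
-/

set_option autoImplicit false

namespace Cfsg.Agent.H909

open Cfsg Cfsg.Geo Matrix Module
open Cfsg.Agent.ClassicalGeometry.SympBasic

variable {F : Type*} [Field F] {m : ℕ}

/-- A subspace on which the symplectic form is non-degenerate has even dimension. -/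
theorem finrank_even_of_nondegenerateOn {W : Submodule F (Fin m ⊕ Fin m → F)}
    (hW : IsNondegenerateOn (sympForm m F) W) : ∃ k, finrank F W = k + k := by
  let B : LinearMap.BilinForm F W := (sympBilin m F).compl₁₂ W.subtype W.subtype
  have hA : B.IsAlt := fun v => sympForm_self _
  obtain ⟨k, hk⟩ := Cfsg.Agent.ClassicalGeometry.TwoFamilies.exists_finrank_eq_ker_add B hA
  refine ⟨k, ?_⟩
  have hker : LinearMap.ker B = ⊥ := by
    rw [Submodule.eq_bot_iff]
    intro w hw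
    by_contra hne
    obtain ⟨-, x, hx, hfx⟩ := hW w w.2 (fun h => hne (Subtype.ext h))
    apply hfx
    have := LinearMap.congr_fun (LinearMap.mem_ker.1 hw) ⟨x, hx⟩
    simpa [B] using this
  rw [hk, hker, finrank_bot, zero_add]

/-- The `c`-eigenspace of a matrix. -/
def eig (s : Matrix (Fin m ⊕ Fin m) (Fin m ⊕ Fin m) F) (c : F) :
    Submodule F (Fin m ⊕ Fin m → F) := LinearMap.ker (Matrix.toLin' (s - c • 1))

theorem mem_eig {s : Matrix (Fin m ⊕ Fin m) (Fin m ⊕ Fin m) F} {c : F}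
    {v : Fin m ⊕ Fin m → F} : v ∈ eig s c ↔ s *ᵥ v = c • v := by
  rw [eig, LinearMap.mem_ker, Matrix.toLin'_apply, Matrix.sub_mulVec, Matrix.smul_mulVec,
    Matrix.one_mulVec, sub_eq_zero]

/-- The pair of eigenspaces of an involution. -/
def invD (s : Matrix (Fin m ⊕ Fin m) (Fin m ⊕ Fin m) F) (i : Fin 2) :
    Submodule F (Fin m ⊕ Fin m → F) := eig s (if i = 0 then 1 else -1)

theorem invD_zero (s : Matrix (Fin m ⊕ Fin m) (Fin m ⊕ Fin m) F) : invD s 0 = eig s 1 := rfl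

theorem invD_one (s : Matrix (Fin m ⊕ Fin m) (Fin m ⊕ Fin m) F) : invD s 1 = eig s (-1) := rfl

variable {s : Matrix (Fin m ⊕ Fin m) (Fin m ⊕ Fin m) F}

theorem eig_orth (h2 : (2 : F) ≠ 0)
    (hs : ∀ u v, sympForm m F (s *ᵥ u) (s *ᵥ v) = sympForm m F u v)
    {u v : Fin m ⊕ Fin m → F} (hu : u ∈ eig s 1) (hv : v ∈ eig s (-1)) :
    sympForm m F u v = 0 := by
  have h := hs u v
  rw [mem_eig.1 hu, mem_eig.1 hv, sympForm_smul_left, sympForm_smul_right] at h
  have h' : (2 : F) * sympForm m F u v = 0 := by linear_combination -h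
  exact (mul_eq_zero.1 h').resolve_left h2

theorem eig_disjoint (h2 : (2 : F) ≠ 0) {v : Fin m ⊕ Fin m → F} (hu : v ∈ eig s 1)
    (hv : v ∈ eig s (-1)) : v = 0 := by
  have h := (mem_eig.1 hu).symm.trans (mem_eig.1 hv)
  rw [one_smul, neg_smul, one_smul] at h
  have h' : (2 : F) • v = 0 := by
    rw [two_smul]
    nth_rewrite 1 [h]
    exact neg_add_cancel v
  exact (smul_eq_zero.1 h').resolve_left h2

theorem add_mem_eig (hs2 : s * s = 1) (v : Fin m ⊕ Fin m → F) : v + s *ᵥ v ∈ eig s 1 := by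
  rw [mem_eig, Matrix.mulVec_add, Matrix.mulVec_mulVec, hs2, Matrix.one_mulVec, one_smul, add_comm]

theorem sub_mem_eig (hs2 : s * s = 1) (v : Fin m ⊕ Fin m → F) : v - s *ᵥ v ∈ eig s (-1) := by
  rw [mem_eig, Matrix.mulVec_sub, Matrix.mulVec_mulVec, hs2, Matrix.one_mulVec, neg_smul, one_smul,
    neg_sub]

theorem eig_decomp (h2 : (2 : F) ≠ 0) (hs2 : s * s = 1) (v : Fin m ⊕ Fin m → F) :
    ∃ a ∈ eig s 1, ∃ b ∈ eig s (-1), v = a + b := by
  refine ⟨(2 : F)⁻¹ • (v + s *ᵥ v), Submodule.smul_mem _ _ (add_mem_eig hs2 v),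
    (2 : F)⁻¹ • (v - s *ᵥ v), Submodule.smul_mem _ _ (sub_mem_eig hs2 v), ?_⟩
  rw [← smul_add, add_add_sub_cancel, ← two_smul F v, smul_smul, inv_mul_cancel₀ h2, one_smul]

theorem eig_nondegenerate (h2 : (2 : F) ≠ 0)
    (hs : ∀ u v, sympForm m F (s *ᵥ u) (s *ᵥ v) = sympForm m F u v) (hs2 : s * s = 1) (i : Fin 2) :
    IsNondegenerateOn (sympForm m F) (invD s i) := by
  have key : ∀ w ∈ invD s i, w ≠ 0 → ∃ x ∈ invD s i, sympForm m F x w ≠ 0 := by
    intro w hw hne
    by_contra hcon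
    push Not at hcon
    apply hne
    apply eq_zero_of_forall_sympForm_left
    intro x
    obtain ⟨a, ha, b, hb, rfl⟩ := eig_decomp h2 hs2 x
    rw [sympForm_add_left]
    fin_cases i
    · have h1 := hcon a ha
      have h2' : sympForm m F b w = 0 := by
        rw [sympForm_swap, eig_orth h2 hs (hw : w ∈ eig s 1) hb, neg_zero]
      rw [h1, h2', add_zero]
    · have h1 := hcon b hb
      have h2' : sympForm m F a w = 0 := eig_orth h2 hs ha (hw : w ∈ eig s (-1))
      rw [h1, h2', add_zero]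
  intro w hw hne
  obtain ⟨x, hx, hf⟩ := key w hw hne
  exact ⟨⟨x, hx, hf⟩, x, hx, by rwa [sympForm_swap, neg_ne_zero]⟩

theorem isCompl_eig (h2 : (2 : F) ≠ 0) (hs2 : s * s = 1) : IsCompl (eig s 1) (eig s (-1)) := by
  refine ⟨?_, ?_⟩
  · rw [Submodule.disjoint_def]
    intro v h1 h1'
    exact eig_disjoint h2 h1 h1'
  · rw [codisjoint_iff, eq_top_iff]
    intro v _
    obtain ⟨a, ha, b, hb, rfl⟩ := eig_decomp h2 hs2 v
    exact Submodule.add_mem_sup ha hb

/-- The eigenspaces of a non-central involution of `Sp_4` form a non-degenerate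
`2`-decomposition. -/
theorem invD_isNondegenerate {s : Matrix (Fin 2 ⊕ Fin 2) (Fin 2 ⊕ Fin 2) F} (h2 : (2 : F) ≠ 0)
    (hs : ∀ u v, sympForm 2 F (s *ᵥ u) (s *ᵥ v) = sympForm 2 F u v) (hs2 : s * s = 1)
    (h1 : s ≠ 1) (h1' : s ≠ -1) : IsNondegenerateMDecomposition (sympForm 2 F) 2 (invD s) := by
  have hc := isCompl_eig h2 hs2
  have hadd : finrank F (eig s 1) + finrank F (eig s (-1)) = 4 := by
    rw [Submodule.finrank_add_eq_of_isCompl hc, Module.finrank_fintype_fun_eq_card]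
    rfl
  obtain ⟨k, hk⟩ := finrank_even_of_nondegenerateOn (eig_nondegenerate h2 hs hs2 0)
  obtain ⟨l, hl⟩ := finrank_even_of_nondegenerateOn (eig_nondegenerate h2 hs hs2 1)
  rw [invD_zero] at hk
  rw [invD_one] at hl
  have hk0 : k ≠ 0 := by
    rintro rfl
    apply h1'
    have hb : eig s 1 = ⊥ := Submodule.finrank_eq_zero.1 hk
    have ht : eig s (-1) = ⊤ := by
      rw [eq_top_iff]
      intro v _
      obtain ⟨a, ha, b, hb', rfl⟩ := eig_decomp h2 hs2 v
      rw [hb, Submodule.mem_bot] at ha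
      rwa [ha, zero_add]
    rw [← Matrix.mulVec_injective.eq_iff]
    funext v
    have : v ∈ eig s (-1) := ht ▸ Submodule.mem_top
    rw [mem_eig.1 this, Matrix.neg_mulVec, Matrix.one_mulVec, neg_smul, one_smul]
  have hl0 : l ≠ 0 := by
    rintro rfl
    apply h1
    have hb : eig s (-1) = ⊥ := Submodule.finrank_eq_zero.1 hl
    have ht : eig s 1 = ⊤ := by
      rw [eq_top_iff]
      intro v _
      obtain ⟨a, ha, b, hb', rfl⟩ := eig_decomp h2 hs2 v
      rw [hb, Submodule.mem_bot] at hb'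
      rwa [hb', add_zero]
    rw [← Matrix.mulVec_injective.eq_iff]
    funext v
    have : v ∈ eig s 1 := ht ▸ Submodule.mem_top
    rw [mem_eig.1 this, Matrix.one_mulVec, one_smul]
  refine ⟨⟨le_rfl, two_pos, ?_, ?_, ?_⟩, eig_nondegenerate h2 hs hs2, ?_⟩
  · intro i
    fin_cases i
    · show finrank F (eig s 1) = 2
      omega
    · show finrank F (eig s (-1)) = 2
      omega
  · rw [iSupIndep_pair (i := (0 : Fin 2)) (j := 1) (by decide) (by decide)]
    exact hc.disjoint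
  · rw [eq_top_iff]
    intro v _
    obtain ⟨a, ha, b, hb, rfl⟩ := eig_decomp h2 hs2 v
    exact Submodule.add_mem _ (Submodule.mem_iSup_of_mem 0 ha) (Submodule.mem_iSup_of_mem 1 hb)
  · intro i j hij u hu v hv
    fin_cases i <;> fin_cases j
    · exact absurd rfl hij
    · exact eig_orth h2 hs hu hv
    · rw [sympForm_swap, eig_orth h2 hs hv hu, neg_zero]
    · exact absurd rfl hij

theorem map_eig {g : GL (Fin m ⊕ Fin m) F} {s : Matrix (Fin m ⊕ Fin m) (Fin m ⊕ Fin m) F}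
    {c d : F}
    (h : ∀ v, v ∈ eig s c ↔ (g : Matrix (Fin m ⊕ Fin m) (Fin m ⊕ Fin m) F) *ᵥ v ∈ eig s d) :
    (eig s c).map (Matrix.toLin' (g : Matrix (Fin m ⊕ Fin m) (Fin m ⊕ Fin m) F)) = eig s d := by
  apply le_antisymm
  · rintro _ ⟨v, hv, rfl⟩
    rw [Matrix.toLin'_apply]
    exact (h v).1 hv
  · intro w hw
    refine ⟨((g⁻¹ : GL (Fin m ⊕ Fin m) F) : Matrix (Fin m ⊕ Fin m) (Fin m ⊕ Fin m) F) *ᵥ w, ?_, ?_⟩
    · rw [SetLike.mem_coe, h, Matrix.mulVec_mulVec, ← Units.val_mul, mul_inv_cancel, Units.val_one,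
        Matrix.one_mulVec]
      exact hw
    · rw [Matrix.toLin'_apply, Matrix.mulVec_mulVec, ← Units.val_mul, mul_inv_cancel, Units.val_one,
        Matrix.one_mulVec]

/-- A matrix commuting with the involution up to sign permutes its eigenspaces. -/
theorem mem_stab_invD {g : GL (Fin m ⊕ Fin m) F}
    {s : Matrix (Fin m ⊕ Fin m) (Fin m ⊕ Fin m) F}
    (h : (g : Matrix (Fin m ⊕ Fin m) (Fin m ⊕ Fin m) F) * s = s * g ∨
      (g : Matrix (Fin m ⊕ Fin m) (Fin m ⊕ Fin m) F) * s = - (s * g)) :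
    g ∈ decompositionStabilizer (invD s) := by
  have hinj : Function.Injective
      (fun v => (g : Matrix (Fin m ⊕ Fin m) (Fin m ⊕ Fin m) F) *ᵥ v) := by
    intro v w hvw
    have := congrArg (fun v => ((g⁻¹ : GL (Fin m ⊕ Fin m) F) :
      Matrix (Fin m ⊕ Fin m) (Fin m ⊕ Fin m) F) *ᵥ v) hvw
    simpa [Matrix.mulVec_mulVec, ← Units.val_mul] using this
  rcases h with h | h
  · have key : ∀ (c : F) v, v ∈ eig s c ↔
        (g : Matrix (Fin m ⊕ Fin m) (Fin m ⊕ Fin m) F) *ᵥ v ∈ eig s c := by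
      intro c v
      rw [mem_eig, mem_eig, Matrix.mulVec_mulVec, ← h, ← Matrix.mulVec_mulVec, ← Matrix.mulVec_smul]
      exact hinj.eq_iff.symm
    refine ⟨1, fun i => ?_⟩
    exact map_eig (key _)
  · have key : ∀ (c : F) v, v ∈ eig s c ↔
        (g : Matrix (Fin m ⊕ Fin m) (Fin m ⊕ Fin m) F) *ᵥ v ∈ eig s (-c) := by
      intro c v
      have h' : s * (g : Matrix (Fin m ⊕ Fin m) (Fin m ⊕ Fin m) F) = - (g * s) := by
        rw [h, neg_neg]
      rw [mem_eig, mem_eig, Matrix.mulVec_mulVec, h', Matrix.neg_mulVec, neg_smul, neg_inj,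
        ← Matrix.mulVec_mulVec, ← Matrix.mulVec_smul]
      exact hinj.eq_iff.symm
    refine ⟨Equiv.swap 0 1, fun i => ?_⟩
    fin_cases i
    · show (eig s 1).map _ = invD s (Equiv.swap 0 1 0)
      rw [Equiv.swap_apply_left, invD_one]
      exact map_eig (key 1)
    · show (eig s (-1)).map _ = invD s (Equiv.swap 0 1 1)
      rw [Equiv.swap_apply_right, invD_zero]
      have := map_eig (key (-1))
      rwa [neg_neg] at this

end Cfsg.Agent.H909
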