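import Cfsg.Agent.H392.TD.Count_m3
import Cfsg.Agent.H875.FnIso_m3
import Cfsg.Agent.H948.Ppd.TypeB_m3
import Cfsg.Agent.Nodes.RGDFoldSL
import Cfsg.Agent.OddHalf.LongSL.Tw_m3
import Cfsg.Agent.H48.DsChev
import Cfsg.Agent.Lib.FinFast
import Cfsg.Agent.Nodes.RGDTwNode
import Cfsg.Agent.H249.PPTwD4
import Cfsg.Agent.H927.G2Main
import Cfsg.Agent.S1059
import Cfsg.Agent.SM.Ti.Box
import Cfsg.Agent.S1067
import Cfsg.Agent.H905.MdR
import Cfsg.Agent.H905.Sp4Main
import Cfsg.Agent.H905.MdK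
import Cfsg.Agent.H925.NatTor
import Cfsg.Agent.H62.FrameSL
import Cfsg.Agent.H61.SUCross
import Mathlib.LinearAlgebra.Vandermonde
import Mathlib.LinearAlgebra.Matrix.NonsingularInverse
import Mathlib.LinearAlgebra.Dual.Lemmas
import Cfsg.Agent.H905.MdL
import Cfsg.Agent.S0280
import Mathlib
import Cfsg.Agent.H141.ReeK.Main
import Cfsg.Agent.H708.ReeSix_m3
import Cfsg.Agent.H708.ReeTw
import Cfsg.Agent.FastGrp
import Cfsg.Agent.Prune
set_option linter.all false

section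
prune_inst 0x7ffdfdf89bbcfddfdfff7e7fa6dccffc39931fffe6dff9437fe0e1ef0b9f138009e56b8d0de010fe0ec2601410387853fb7eeeffe06bdc7ffffd5ff41ffbee0fe5f7b50051d488340fbc0ff603f0778a7f3fffffffffffffffffffffffffffbeffbfffffffff

-- part: H744/Ppd/G2Wt
section
prune_inst 0x20203240102200000000008003000020480000000000800000010a000201004000000800000001015828000800000000001000b000000000000004000004000000809000a0080000000010000080400000000000000000000000000000000004000000000
set_option linter.all false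
open scoped Cfsg.Agent.FastGrp

-- part: H744/Ppd/Str
section
/-!
# Strings of weight vectors (helper744)

`R' : SL₂(E) → End V`, `φ` fixed by the lower unipotent group, `v` fixed by the upper one, `h(s) v = j(s)^c v`,
`φ(n v) = 0`, `φ v ≠ 0`, `1 ≤ c ≤ |E| - 1` (`Str`).  The coefficients `cf m` of `x_{-}(t) v = ∑ t^m v_m`:

* `cf_ne` : `v_m ≠ 0` for `m ∈ SS p c`, `1 ≤ m`;
* `dim_str` : `|SS p c| ≤ dim V`;
* `cf_tor` : an element which acts on the lower root group by the scalar `a` and on `v` by `b` acts on `v_m` by `b j(a)^m`;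
* `str_of_rgd` : the strings of a simple module of a root group datum in defining characteristic.
-/

set_option autoImplicit false
set_option linter.unusedSectionVars false
set_option linter.style.haveILetI false

namespace Cfsg.Agent.H744.Ppd

open Matrix Cfsg.Agent.H911.SLTwo Cfsg.Agent.H875.Fn

section str

variable {E : Type*} [Field E] [Fintype E] {k : Type*} [Field k] (j : E →+* k) {V : Type*} [AddCommGroup V] [Module k V]
  (R : _root_.Matrix.SpecialLinearGroup (Fin 2) E →* Module.End k V)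

/-- the data of a string -/
structure Str (φ : Module.Dual k V) (v : V) (c : ℕ) : Prop where
  lo : ∀ t x, φ (R (Lo t) x) = φ x
  up : ∀ t, R (U t) v = v
  tor : ∀ s : Eˣ, R (hh s) v = j (s : E) ^ c • v
  ww : φ (R ww v) = 0
  ne : φ v ≠ 0
  one_le : 1 ≤ c
  le : c ≤ Fintype.card E - 1

variable {j R} {φ : Module.Dual k V} {v : V} {c : ℕ}

theorem Str.row (H : Str j R φ v c) (g : _root_.Matrix.SpecialLinearGroup (Fin 2) E) : φ (R g v) = φ v * j (g.1 0 0) ^ c := by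
  by_cases ha : g.1 0 0 = 0
  · have hdet := det_eq g
    rw [ha, zero_mul, zero_sub] at hdet
    have hb : g.1 0 1 ≠ 0 := by
      intro h0
      rw [h0, zero_mul, neg_zero] at hdet
      exact zero_ne_one hdet
    obtain ⟨b, hb'⟩ : ∃ b : Eˣ, (b : E) = g.1 0 1 := ⟨Units.mk0 _ hb, rfl⟩
    have e : g = Cfsg.Agent.H911.SLTwo.ww * hh b⁻¹ * U (-(g.1 0 1 * g.1 1 1)) := by
      have hb0 : (b : E) ≠ 0 := b.ne_zero
      apply ext' <;> simp only [m00, m01, m10, m11, hh00, hh01, hh10, hh11, U00, U01, U10, U11, ww00, ww01, ww10, ww11,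
        inv_inv, Units.val_inv_eq_inv_val, ha, ← hb']
      · simp
      · simp
      · have h1 : g.1 1 0 = -(b : E)⁻¹ := by
          field_simp
          rw [hb']
          linear_combination -hdet
        rw [h1]; ring
      · field_simp
        ring
    rw [e, map_mul, map_mul, Module.End.mul_apply, Module.End.mul_apply, H.up, H.tor, map_smul, map_smul, H.ww]
    rw [← e, ha, map_zero, zero_pow (by have := H.one_le; omega), mul_zero, smul_zero]
  · obtain ⟨a, ha'⟩ : ∃ a : Eˣ, (a : E) = g.1 0 0 := ⟨Units.mk0 _ ha, rfl⟩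
    have hdet := det_eq g
    have e : g = Lo (g.1 1 0 * (g.1 0 0)⁻¹) * hh a * U ((g.1 0 0)⁻¹ * g.1 0 1) := by
      apply ext' <;> simp only [m00, m01, m10, m11, hh00, hh01, hh10, hh11, U00, U01, U10, U11, Lo00, Lo01, Lo10, Lo11,
        Units.val_inv_eq_inv_val, ha'] <;> field_simp <;> (try ring1)
      linear_combination hdet
    have e2 : R g v = R (Lo (g.1 1 0 * (g.1 0 0)⁻¹)) (R (hh a) (R (U ((g.1 0 0)⁻¹ * g.1 0 1)) v)) := by
      conv_lhs => rw [e]
      rw [map_mul, map_mul, Module.End.mul_apply, Module.End.mul_apply]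
    rw [e2, H.lo, H.up, H.tor, map_smul, ha', smul_eq_mul, mul_comm]

theorem Str.emb_eq (H : Str j R φ v c) : emb R φ v = φ v • pw j c (1, 0) := by
  funext x
  rw [Pi.smul_apply, smul_eq_mul]
  by_cases hx : x = 0
  · rw [hx, emb_zero]
    unfold pw
    have := H.one_le
    simp only [Prod.fst_zero, Prod.snd_zero, zero_mul, add_zero, map_zero]
    rw [zero_pow (by omega), mul_zero]
  · obtain ⟨g, rfl⟩ := exists_row x hx
    rw [emb_row H.lo, H.row]
    unfold pw Cfsg.Agent.H875.Fn.row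
    simp

variable (j R) in
/-- the coefficient of `t^m` in `x₋(t) v` (up to sign) -/
def cf (v : V) (m : ℕ) : V := ∑ t : E, (j t ^ (Fintype.card E - 1 - m)) • R (Lo t) v

theorem sum_coeff {M : Type*} [AddCommGroup M] [Module k M] (j : E →+* k) {r : ℕ} (hr : r ≤ Fintype.card E - 1)
    (c : ℕ → M) {m : ℕ} (hm0 : m ≠ 0) (hm : m ≤ r) :
    ∑ t : E, (j t ^ (Fintype.card E - 1 - m)) • ∑ i ∈ Finset.range (r + 1), (j t ^ i) • c i = - c m := by
  have hq := two_le_card (E := E)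
  simp only [Finset.smul_sum, smul_smul, ← pow_add]
  rw [Finset.sum_comm]
  rw [Finset.sum_eq_single m]
  · rw [← Finset.sum_smul]
    have h3 : Fintype.card E - 1 - m + m = Fintype.card E - 1 := by omega
    rw [h3, sum_map_pow j (by omega), if_pos (dvd_refl _), neg_one_smul]
  · intro i hi hne
    rw [← Finset.sum_smul]
    rw [Finset.mem_range] at hi
    by_cases h0 : Fintype.card E - 1 - m + i = 0
    · rw [h0]
      simp only [pow_zero]
      rw [Finset.sum_const, Finset.card_univ, nsmul_eq_mul, card_cast_zero j, zero_mul, zero_smul]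
    · rw [sum_map_pow j h0, if_neg, zero_smul]
      rintro ⟨d, hd⟩
      have hd1 : d < 2 := by
        by_contra hd2
        have : (Fintype.card E - 1) * 2 ≤ (Fintype.card E - 1) * d := Nat.mul_le_mul_left _ (by omega)
        omega
      interval_cases d
      · omega
      · apply hne; omega
  · intro h3
    exact absurd (Finset.mem_range.2 (by omega)) h3

theorem Str.emb_cf (H : Str j R φ v c) {m : ℕ} (hm0 : m ≠ 0) (hm : m ≤ c) :
    emb R φ (cf j R v m) = -(φ v • wm j c m) := by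
  unfold cf
  rw [map_sum]
  simp only [map_smul, emb_act H.lo, H.emb_eq]
  have h1 := sum_coeff (M := E × E → k) j H.le (fun m => φ v • wm j c m) hm0 hm
  rw [← h1]
  refine Finset.sum_congr rfl fun t _ => ?_
  congr 1
  rw [act_Lo_pw, Finset.smul_sum]
  exact Finset.sum_congr rfl fun i _ => smul_comm _ _ _

variable (p : ℕ) [hp : Fact p.Prime] [CharP k p]

include hp in
theorem Str.cf_ne (H : Str j R φ v c) {m : ℕ} (hm0 : m ≠ 0) (hm : m ∈ SS p c) : cf j R v m ≠ 0 := by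
  intro h0
  have h1 := H.emb_cf hm0 (mem_SS.1 hm).1
  rw [h0, map_zero, eq_comm, neg_eq_zero, smul_eq_zero] at h1
  have h2 := h1.resolve_left H.ne
  unfold wm at h2
  have h3 := congrFun ((smul_eq_zero.1 h2).resolve_left (choose_ne_zero p hm)) (1, 1)
  rw [mono_apply, map_one, one_pow, one_pow, one_mul] at h3
  exact one_ne_zero h3

include hp in
/-- **the dimension of the string** -/
theorem Str.dim_le (H : Str j R φ v c) [FiniteDimensional k V] : (SS p c).card ≤ Module.finrank k V := by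
  have h1 : ∀ m ∈ SS p c, mono j (c - m) m ∈ LinearMap.range (emb R φ) := by
    intro m hm
    refine mono_mem_span_Lo j p H.le (fun t => ?_) hm
    have h2 : act E k (Lo t) (emb R φ v) ∈ LinearMap.range (emb R φ) := by
      rw [← emb_act H.lo]
      exact ⟨_, rfl⟩
    rw [H.emb_eq, map_smul] at h2
    have h3 := Submodule.smul_mem _ (φ v)⁻¹ h2
    rwa [smul_smul, inv_mul_cancel₀ H.ne, one_smul] at h3
  have h2 : L j c ≤ LinearMap.range (emb R φ) := by
    rw [L_eq_span j p H.le, Submodule.span_le]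
    rintro _ ⟨m, hm, rfl⟩
    exact h1 m hm
  rw [← finrank_L j p H.le]
  exact (Submodule.finrank_mono h2).trans (LinearMap.finrank_range_le _)

/-- **the torus acts on the coefficients** -/
theorem cf_tor (f : Module.End k V) {a : E} (ha : a ≠ 0) {b : k}
    (hf : ∀ t, f * R (Lo t) = R (Lo (a * t)) * f) (hv : f v = b • v) {m : ℕ} (hm : m ≤ Fintype.card E - 1) :
    f (cf j R v m) = (b * j a ^ m) • cf j R v m := by
  unfold cf
  rw [map_sum, Finset.smul_sum]
  have e : ∀ t : E, f ((j t ^ (Fintype.card E - 1 - m)) • R (Lo t) v) =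
      (b * j a ^ m) • ((j (a * t) ^ (Fintype.card E - 1 - m)) • R (Lo (a * t)) v) := by
    intro t
    have h1 : f (R (Lo t) v) = R (Lo (a * t)) (f v) := LinearMap.congr_fun (hf t) v
    rw [map_smul, h1, hv, map_smul, smul_smul, smul_smul, map_mul, mul_pow]
    congr 1
    have h2 : j a ^ m * j a ^ (Fintype.card E - 1 - m) = 1 := by
      rw [← pow_add, Nat.add_sub_cancel' hm, map_pow_card_sub_one j ha]
    linear_combination (-(b * j t ^ (Fintype.card E - 1 - m))) * h2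
  rw [Finset.sum_congr rfl fun t _ => e t]
  exact (Equiv.sum_comp (Equiv.mulLeft₀ a ha) (fun t => (b * j a ^ m) • ((j t ^ (Fintype.card E - 1 - m)) • R (Lo t) v)))

end str

/-! ### root group data -/

open CoxeterSystem Cfsg.Agent.ChevalleyStructure.CoxeterGeom Cfsg.Agent.Tits.Roots Cfsg.Agent.Tits.Core
  Cfsg.Agent.Tits.Exchange Cfsg.Agent.Nodes.Reps Cfsg.Agent.Nodes.BNOf Cfsg.Agent.Nodes.StabComb
  Cfsg.Agent.Nodes.Bruhat Cfsg.Agent.Nodes.OppDec Cfsg.Agent.Nodes.LeviDec Cfsg.Agent.KFacts.RgdOpp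
  Cfsg.Agent.Omega.CR Cfsg.Agent.Omega.FOne.Lift.Sd Cfsg.Agent.H905.Md

section rgd

variable {I W Y : Type*} [Fintype I] [DecidableEq I] [Group W] [Group Y] {M : CoxeterMatrix I}
  {cs : CoxeterSystem M W} {A : I → I → ℤ} {h : IsCartan M A} {p : ℕ} {T : Subgroup Y} {n : I → Y}
  {X : (I → ℤ) → Subgroup Y} {k V : Type*} [Field k] [AddCommGroup V] [Module k V]
  (R : RGD cs h p T n X) [Finite Y] [Finite W] [Fact p.Prime] [CharP k p]
  {ρ : Y →* Module.End k V} [FiniteDimensional k V]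
  (hirr : ∀ L : Submodule k V, Ivt ρ (GG cs h T X) L → L = ⊥ ∨ L = ⊤)

variable {E : Type*} [Field E] [Fintype E] (j : E →+* k)

include R hirr in
/-- **the strings of the extremal vectors** -/
theorem str_of_rgd [Nontrivial V] {w : W} {g : Y} (hg : Rp cs R.nsys w g) {i : I}
    (hpos : 0 ≤ rep cs h w⁻¹ (sr i)) (hw : w⁻¹ * cs.simple i * w ∉ WJ cs (Jx cs h X ρ))
    {σ : _root_.Matrix.SpecialLinearGroup (Fin 2) E →* Y} (hU : ∀ t, σ (U t) ∈ X (sr i)) (hL : ∀ t, σ (Lo t) ∈ X (-sr i))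
    (hn : Rp cs R.nsys (cs.simple i) (σ ww)) {v₀ : V} (hv₀ : v₀ ∈ D cs h X ρ) {φ₀ : Module.Dual k V}
    (hφ₀ : φ₀ ∈ fx ((dualRep ρ :)) (UN cs h X)) (hne : φ₀ v₀ ≠ 0) {c : ℕ} (h1 : 1 ≤ c) (h2 : c ≤ Fintype.card E - 1)
    (htor : ∀ s : Eˣ, ρ (σ (hh s)) (ρ g v₀) = j (s : E) ^ c • ρ g v₀) :
    Str j (ρ.comp σ) (dualRep ρ g φ₀) (ρ g v₀) c := by
  have hroot : IsRoot cs h (rep cs h w⁻¹ (sr i)) := (isRoot_sr cs h i).act _
  refine ⟨fun t x => ?_, fun t => ?_, fun s => htor s, ?_, ?_, h1, h2⟩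
  · rw [dualRep_apply, dualRep_apply, MonoidHom.comp_apply]
    have h3 := R.conj_mem' hg (isRoot_sr cs h i).neg (hL t)
    rw [map_neg] at h3
    have h4 : g⁻¹ * σ (Lo t) * g ∈ UN cs h X := X_le_UN hroot.neg (neg_nonpos.2 hpos) h3
    have h5 := (mem_fx_dual ρ).1 hφ₀ _ h4 (ρ g⁻¹ x)
    rw [← rho_mul]
    rw [← rho_mul] at h5
    rw [← h5]
    congr 3
    group
  · rw [MonoidHom.comp_apply]
    have h3 := R.conj_mem' hg (isRoot_sr cs h i) (hU t)
    have h4 : ρ (g⁻¹ * σ (U t) * g) v₀ = v₀ := hv₀ _ (RGD.le_Sup (S := RGD.Pos cs h) ⟨hroot, hpos⟩ h3)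
    have e : σ (U t) * g = g * (g⁻¹ * σ (U t) * g) := by group
    rw [← rho_mul, e, rho_mul, h4]
  · rw [dualRep_apply, MonoidHom.comp_apply]
    by_contra hne'
    apply hw
    refine mem_WJ_of_pair R hirr hφ₀ ((hg.inv.mul hn).mul hg) hv₀ ?_
    intro h0
    apply hne'
    rw [← h0, ← rho_mul, ← rho_mul]
  · rw [dualRep_apply, rho_inv_rho]
    exact hne

end rgd

end Cfsg.Agent.H744.Ppd
end

-- part: H744/Ppd/Occ
section
/-!
# Weights for the torus of a rank two group (helper744)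

`ss : SL₂(K) → Y` (short root), `sl : SL₂(E) → Y` (long root), `ε : E → K`, `Two` : the torus acts on the root groups with
the Cartan integers `-1` and `-f`.  `IsOcc v a b` : `v` has weight `(a, b)`.

* `IsOcc.refl_s`, `IsOcc.refl_l` : the Weyl group;
* `IsOcc.str_s`, `IsOcc.str_l` : the strings;
* `count` : vectors of different weights and independent vectors of further weights.
-/

set_option autoImplicit false
set_option linter.unusedSectionVars false
set_option linter.style.haveILetI false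

namespace Cfsg.Agent.H744.Ppd

open Matrix (SpecialLinearGroup)
open Cfsg.Agent.H911.SLTwo Cfsg.Agent.H875.Fn

/-! ### independence -/

section lin

variable {k V : Type*} [Field k] [AddCommGroup V] [Module k V] (f g : Module.End k V)

theorem proj {τ : Type*} [DecidableEq τ] (s : Finset τ) {a b : τ → k} {a₀ b₀ : k}
    (hne : ∀ i ∈ s, ¬ (a i = a₀ ∧ b i = b₀)) : ∀ (y : τ → V) (y₀ : V), (∀ i ∈ s, f (y i) = a i • y i) →
    (∀ i ∈ s, g (y i) = b i • y i) → f y₀ = a₀ • y₀ → g y₀ = b₀ • y₀ → ∑ i ∈ s, y i + y₀ = 0 → y₀ = 0 := by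
  induction s using Finset.induction_on with
  | empty =>
    intro y y₀ _ _ _ _ h
    simpa using h
  | insert i s hi ih =>
    intro y y₀ h1 h2 h3 h4 h
    have hne' : ∀ j ∈ s, ¬ (a j = a₀ ∧ b j = b₀) := fun j hj => hne j (Finset.mem_insert_of_mem hj)
    rw [Finset.sum_insert hi] at h
    by_cases ha : a i = a₀
    · have hb : b i ≠ b₀ := fun hb => hne i (Finset.mem_insert_self _ _) ⟨ha, hb⟩
      have h5 := congrArg (fun z => g z - b i • z) h
      simp only [map_add, map_zero, smul_zero, sub_zero, map_sum, smul_add, Finset.smul_sum] at h5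
      rw [h2 i (Finset.mem_insert_self _ _), h4] at h5
      have h6 : ∑ j ∈ s, (b j - b i) • y j + (b₀ - b i) • y₀ = 0 := by
        rw [← h5, Finset.sum_congr rfl (fun j hj => h2 j (Finset.mem_insert_of_mem hj))]
        simp only [sub_smul, Finset.sum_sub_distrib]
        abel
      have h7 := ih hne' (fun j => (b j - b i) • y j) ((b₀ - b i) • y₀)
        (fun j hj => by rw [map_smul, h1 j (Finset.mem_insert_of_mem hj), smul_comm])
        (fun j hj => by rw [map_smul, h2 j (Finset.mem_insert_of_mem hj), smul_comm])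
        (by rw [map_smul, h3, smul_comm]) (by rw [map_smul, h4, smul_comm]) h6
      exact (smul_eq_zero.1 h7).resolve_left (sub_ne_zero.2 (Ne.symm hb))
    · have h5 := congrArg (fun z => f z - a i • z) h
      simp only [map_add, map_zero, smul_zero, sub_zero, map_sum, smul_add, Finset.smul_sum] at h5
      rw [h1 i (Finset.mem_insert_self _ _), h3] at h5
      have h6 : ∑ j ∈ s, (a j - a i) • y j + (a₀ - a i) • y₀ = 0 := by
        rw [← h5, Finset.sum_congr rfl (fun j hj => h1 j (Finset.mem_insert_of_mem hj))]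
        simp only [sub_smul, Finset.sum_sub_distrib]
        abel
      have h7 := ih hne' (fun j => (a j - a i) • y j) ((a₀ - a i) • y₀)
        (fun j hj => by rw [map_smul, h1 j (Finset.mem_insert_of_mem hj), smul_comm])
        (fun j hj => by rw [map_smul, h2 j (Finset.mem_insert_of_mem hj), smul_comm])
        (by rw [map_smul, h3, smul_comm]) (by rw [map_smul, h4, smul_comm]) h6
      exact (smul_eq_zero.1 h7).resolve_left (sub_ne_zero.2 (Ne.symm ha))

/-- a linearly independent family `x` of joint eigenvectors and joint eigenvectors `y` of different and further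
eigenvalues -/
theorem card_le {α β : Type*} [Fintype α] [Fintype β] {x : α → V} (hx : LinearIndependent k x) {y : β → V}
    (hy : ∀ i, y i ≠ 0) {a b : α → k} {c d : β → k} (h1 : ∀ i, f (x i) = a i • x i) (h2 : ∀ i, g (x i) = b i • x i)
    (h3 : ∀ i, f (y i) = c i • y i) (h4 : ∀ i, g (y i) = d i • y i)
    (h5 : ∀ i j, ¬ (a i = c j ∧ b i = d j)) (h6 : ∀ i j, c i = c j → d i = d j → i = j) [FiniteDimensional k V] :
    Fintype.card α + Fintype.card β ≤ Module.finrank k V := by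
  classical
  have h : LinearIndependent k (Sum.elim x y) := by
    rw [Fintype.linearIndependent_iff]
    intro e he
    rw [Fintype.sum_sum_type] at he
    simp only [Sum.elim_inl, Sum.elim_inr] at he
    have key : ∀ j : β, e (Sum.inr j) = 0 := by
      intro j
      have h7 := proj f g (τ := α ⊕ β) ((Finset.univ : Finset (α ⊕ β)).erase (Sum.inr j)) (a := Sum.elim a c)
        (b := Sum.elim b d) (a₀ := c j) (b₀ := d j) (by
          intro i hi
          rcases i with i | i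
          · exact h5 i j
          · rintro ⟨e1, e2⟩
            exact (Finset.mem_erase.1 hi).1 (congrArg Sum.inr (h6 _ _ e1 e2)))
        (Sum.elim (fun i => e (Sum.inl i) • x i) (fun i => e (Sum.inr i) • y i)) (e (Sum.inr j) • y j)
        (by
          rintro (i | i) _
          · simp only [Sum.elim_inl]; rw [map_smul, h1, smul_comm]
          · simp only [Sum.elim_inr]; rw [map_smul, h3, smul_comm])
        (by
          rintro (i | i) _
          · simp only [Sum.elim_inl]; rw [map_smul, h2, smul_comm]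
          · simp only [Sum.elim_inr]; rw [map_smul, h4, smul_comm])
        (by rw [map_smul, h3, smul_comm]) (by rw [map_smul, h4, smul_comm]) (by
          have h8 := Finset.sum_erase_add (Finset.univ : Finset (α ⊕ β))
            (Sum.elim (fun i => e (Sum.inl i) • x i) (fun i => e (Sum.inr i) • y i)) (Finset.mem_univ (Sum.inr j))
          rw [Fintype.sum_sum_type] at h8
          simp only [Sum.elim_inl, Sum.elim_inr] at h8
          rw [h8, he])
      exact (smul_eq_zero.1 h7).resolve_right (hy j)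
    have h7 : ∑ i, e (Sum.inl i) • x i = 0 := by
      simpa only [key, _root_.zero_smul, _root_.Finset.sum_const_zero, _root_.add_zero] using he
    have h8 := Fintype.linearIndependent_iff.1 hx _ h7
    rintro (i | i)
    · exact h8 i
    · exact key i
  have h9 := h.fintype_card_le_finrank
  rwa [Fintype.card_sum] at h9

end lin

/-! ### weights -/

section occ

variable {K E Y : Type*} [Field K] [Field E] [Group Y]

/-- the relations between the torus and the root groups of a rank two group -/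
structure Two (ss : _root_.Matrix.SpecialLinearGroup (Fin 2) K →* Y) (sl : _root_.Matrix.SpecialLinearGroup (Fin 2) E →* Y) (ε : E →+* K)
    (N : Kˣ → Eˣ) (f : ℕ) : Prop where
  sU : ∀ (t : Eˣ) (u : K), sl (hh t) * ss (U u) = ss (U ((ε (t : E))⁻¹ * u)) * sl (hh t)
  sL : ∀ (t : Eˣ) (u : K), sl (hh t) * ss (Lo u) = ss (Lo (ε (t : E) * u)) * sl (hh t)
  lU : ∀ (t : Kˣ) (u : E), ss (hh t) * sl (U u) = sl (U ((N t : E)⁻¹ * u)) * ss (hh t)
  lL : ∀ (t : Kˣ) (u : E), ss (hh t) * sl (Lo u) = sl (Lo ((N t : E) * u)) * ss (hh t)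
  nm : ∀ t : Kˣ, ε (N t : E) = (t : K) ^ f

theorem ww_eq (x : K) (hx : x ≠ 0) : U x * Lo (-x⁻¹) * U x = hh (Units.mk0 x hx) * ww := by
  apply ext' <;> simp only [m00, m01, m10, m11, hh00, hh01, hh10, hh11, U00, U01, U10, U11, Lo00, Lo01, Lo10, Lo11,
    ww00, ww01, ww10, ww11, Units.val_inv_eq_inv_val, Units.val_mk0]
  · field_simp; ring
  · field_simp; ring
  · field_simp; ring
  · field_simp; ring

theorem ww_eq_one : U (1 : K) * Lo (-1) * U 1 = ww := by
  apply ext' <;> simp only [m00, m01, m10, m11, U00, U01, U10, U11, Lo00, Lo01, Lo10, Lo11, ww00, ww01, ww10, ww11] <;>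
    ring

theorem hh_ww (t : Kˣ) : hh t * ww = ww * hh t⁻¹ := by
  apply ext' <;> simp only [m00, m01, m10, m11, hh00, hh01, hh10, hh11, ww00, ww01, ww10, ww11, inv_inv] <;> ring

variable {ss : _root_.Matrix.SpecialLinearGroup (Fin 2) K →* Y} {sl : _root_.Matrix.SpecialLinearGroup (Fin 2) E →* Y} {ε : E →+* K}
  {N : Kˣ → Eˣ} {f : ℕ} (H : Two ss sl ε N f)
include H

theorem Two.s_ww (t : Eˣ) : sl (hh t) * ss ww = ss ww * ss (hh (Units.map ε.toMonoidHom t)) * sl (hh t) := by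
  set e : Kˣ := Units.map ε.toMonoidHom t with he
  have he' : (e : K) = ε (t : E) := rfl
  have h0 : (ε (t : E))⁻¹ ≠ 0 := by rw [← he']; exact inv_ne_zero e.ne_zero
  have h1 : sl (hh t) * ss (U 1 * Lo (-1) * U 1) =
      ss (U ((ε (t : E))⁻¹) * Lo (-((ε (t : E))⁻¹)⁻¹) * U ((ε (t : E))⁻¹)) * sl (hh t) := by
    have a1 := H.sU t 1
    have a2 := H.sL t (-1)
    rw [mul_one] at a1
    rw [mul_neg_one] at a2
    rw [inv_inv]
    calc sl (hh t) * ss (U 1 * Lo (-1) * U 1) = (sl (hh t) * ss (U 1)) * ss (Lo (-1)) * ss (U 1) := by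
          rw [map_mul, map_mul]; group
      _ = ss (U (ε (t : E))⁻¹) * (sl (hh t) * ss (Lo (-1))) * ss (U 1) := by rw [a1]; group
      _ = ss (U (ε (t : E))⁻¹) * ss (Lo (-ε (t : E))) * (sl (hh t) * ss (U 1)) := by rw [a2]; group
      _ = _ := by rw [a1, map_mul, map_mul]; group
  rw [ww_eq_one, ww_eq _ h0] at h1
  rw [h1]
  congr 1
  rw [← map_mul]
  congr 1
  have h2 : Units.mk0 (ε (t : E))⁻¹ h0 = e⁻¹ := Units.ext (by rw [Units.val_mk0, Units.val_inv_eq_inv_val, he'])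
  rw [h2, hh_ww, inv_inv]

theorem Two.l_ww (t : Kˣ) : ss (hh t) * sl ww = sl ww * sl (hh (N t)) * ss (hh t) := by
  have h0 : ((N t : E))⁻¹ ≠ 0 := inv_ne_zero (N t).ne_zero
  have h1 : ss (hh t) * sl (U 1 * Lo (-1) * U 1) =
      sl (U (((N t : E))⁻¹) * Lo (-(((N t : E))⁻¹)⁻¹) * U (((N t : E))⁻¹)) * ss (hh t) := by
    have a1 := H.lU t 1
    have a2 := H.lL t (-1)
    rw [mul_one] at a1
    rw [mul_neg_one] at a2
    rw [inv_inv]
    calc ss (hh t) * sl (U 1 * Lo (-1) * U 1) = (ss (hh t) * sl (U 1)) * sl (Lo (-1)) * sl (U 1) := by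
          rw [map_mul, map_mul]; group
      _ = sl (U ((N t : E))⁻¹) * (ss (hh t) * sl (Lo (-1))) * sl (U 1) := by rw [a1]; group
      _ = sl (U ((N t : E))⁻¹) * sl (Lo (-(N t : E))) * (ss (hh t) * sl (U 1)) := by rw [a2]; group
      _ = _ := by rw [a1, map_mul, map_mul]; group
  rw [ww_eq_one, ww_eq _ h0] at h1
  rw [h1]
  congr 1
  rw [← map_mul]
  congr 1
  have h2 : Units.mk0 ((N t : E))⁻¹ h0 = (N t)⁻¹ := Units.ext (by rw [Units.val_mk0, Units.val_inv_eq_inv_val])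
  rw [h2, hh_ww, inv_inv]

end occ

section wt

variable {K E Y : Type*} [Field K] [Field E] [Group Y] {k V : Type*} [Field k] [AddCommGroup V] [Module k V]
  (ρ : Y →* Module.End k V) (ss : _root_.Matrix.SpecialLinearGroup (Fin 2) K →* Y) (sl : _root_.Matrix.SpecialLinearGroup (Fin 2) E →* Y)
  (ε : E →+* K) (ι : K →+* k)

/-- `v` has weight `(a, b)` -/
def IsOcc (v : V) (a b : ℤ) : Prop :=
  (∀ t : Kˣ, ρ (ss (hh t)) v = ι (t : K) ^ a • v) ∧ ∀ t : Eˣ, ρ (sl (hh t)) v = ι (ε (t : E)) ^ b • v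

/-- `(a, b)` is a weight -/
def Occ (a b : ℤ) : Prop := ∃ v : V, v ≠ 0 ∧ IsOcc ρ ss sl ε ι v a b

variable {ρ ss sl ε ι}

theorem inj_ne {x : K} (hx : x ≠ 0) : ι x ≠ 0 := by
  rwa [map_ne_zero]

variable {N : Kˣ → Eˣ} {f : ℕ} (H : Two ss sl ε N f) {v : V} {a b : ℤ}
include H

theorem IsOcc.refl_s (hv : IsOcc ρ ss sl ε ι v a b) : IsOcc ρ ss sl ε ι (ρ (ss ww) v) (-a) (b + a) := by
  refine ⟨fun t => ?_, fun t => ?_⟩
  · rw [← Module.End.mul_apply, ← map_mul, ← map_mul, hh_ww, map_mul, map_mul, Module.End.mul_apply, hv.1, map_smul]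
    congr 1
    rw [Units.val_inv_eq_inv_val, map_inv₀, _root_.inv_zpow, zpow_neg]
  · rw [← Module.End.mul_apply, ← map_mul, H.s_ww, map_mul, map_mul, Module.End.mul_apply, Module.End.mul_apply, hv.2,
      map_smul, hv.1, map_smul, map_smul, smul_smul]
    congr 1
    rw [zpow_add₀ (by exact inj_ne (by rw [map_ne_zero]; exact t.ne_zero))]
    rfl

theorem IsOcc.refl_l (hv : IsOcc ρ ss sl ε ι v a b) : IsOcc ρ ss sl ε ι (ρ (sl ww) v) (a + f * b) (-b) := by
  refine ⟨fun t => ?_, fun t => ?_⟩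
  · rw [← Module.End.mul_apply, ← map_mul, H.l_ww, map_mul, map_mul, Module.End.mul_apply, Module.End.mul_apply, hv.1,
      map_smul, hv.2, map_smul, map_smul, smul_smul]
    congr 1
    rw [zpow_add₀ (by exact inj_ne t.ne_zero), _root_.zpow_mul, H.nm, map_pow, zpow_natCast]
  · rw [← Module.End.mul_apply, ← map_mul, ← map_mul, hh_ww, map_mul, map_mul, Module.End.mul_apply, hv.2, map_smul]
    congr 1
    rw [Units.val_inv_eq_inv_val, map_inv₀, map_inv₀, _root_.inv_zpow, zpow_neg]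

theorem Occ.refl_s (h : Occ ρ ss sl ε ι a b) : Occ ρ ss sl ε ι (-a) (b + a) := by
  obtain ⟨v, hv0, hv⟩ := h
  exact ⟨_, Cfsg.Agent.Omega.CR.rho_ne_zero ρ _ hv0, hv.refl_s H⟩

theorem Occ.refl_l (h : Occ ρ ss sl ε ι a b) : Occ ρ ss sl ε ι (a + f * b) (-b) := by
  obtain ⟨v, hv0, hv⟩ := h
  exact ⟨_, Cfsg.Agent.Omega.CR.rho_ne_zero ρ _ hv0, hv.refl_l H⟩

omit H in
/-- congruent weights -/
theorem IsOcc.congr [Fintype K] [Fintype E] (h : IsOcc ρ ss sl ε ι v a b) {a' b' : ℤ}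
    (ha : ((Fintype.card K - 1 : ℕ) : ℤ) ∣ a' - a) (hb : ((Fintype.card E - 1 : ℕ) : ℤ) ∣ b' - b) :
    IsOcc ρ ss sl ε ι v a' b' := by
  obtain ⟨x, hx⟩ := ha
  obtain ⟨y, hy⟩ := hb
  have ha' : a' = a + ((Fintype.card K - 1 : ℕ) : ℤ) * x := by omega
  have hb' : b' = b + ((Fintype.card E - 1 : ℕ) : ℤ) * y := by omega
  refine ⟨fun t => ?_, fun t => ?_⟩
  · rw [h.1, ha', zpow_add₀ (inj_ne t.ne_zero), _root_.zpow_mul, zpow_natCast, map_pow_card_sub_one ι t.ne_zero, one_zpow,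
      mul_one]
  · have h1 : ι (ε (t : E)) ^ (Fintype.card E - 1) = 1 := by
      have := map_pow_card_sub_one (ι.comp ε) t.ne_zero
      exact this
    rw [h.2, hb', zpow_add₀ (inj_ne (by rw [map_ne_zero]; exact t.ne_zero)), _root_.zpow_mul, zpow_natCast, h1, one_zpow,
      mul_one]

omit H in
theorem Occ.congr [Fintype K] [Fintype E] (h : Occ ρ ss sl ε ι a b) {a' b' : ℤ}
    (ha : ((Fintype.card K - 1 : ℕ) : ℤ) ∣ a' - a) (hb : ((Fintype.card E - 1 : ℕ) : ℤ) ∣ b' - b) :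
    Occ ρ ss sl ε ι a' b' := by
  obtain ⟨v, hv0, hv⟩ := h
  exact ⟨v, hv0, hv.congr ha hb⟩

/-- the string of the short node -/
theorem IsOcc.str_s [Fintype K] (hv : IsOcc ρ ss sl ε ι v a b) (ι' : K →+* k) (e : ℕ) (he : ∀ x, ι' x = ι x ^ e) {m : ℕ}
    (hm : m ≤ Fintype.card K - 1) :
    IsOcc ρ ss sl ε ι (cf ι' (ρ.comp ss) v m) (a - 2 * (e * m)) (b + e * m) := by
  refine ⟨fun t => ?_, fun t => ?_⟩
  · have h1 : ((t⁻¹ : Kˣ) : K) ^ 2 ≠ 0 := pow_ne_zero 2 (Units.ne_zero _)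
    rw [cf_tor (j := ι') (R := ρ.comp ss) (ρ (ss (hh t))) h1 (fun u => by
      rw [MonoidHom.comp_apply, MonoidHom.comp_apply, ← map_mul, ← map_mul, ← map_mul, ← map_mul, hh_Lo]) (hv.1 t) hm]
    congr 1
    have h0 : ι (t : K) ≠ 0 := inj_ne t.ne_zero
    rw [he, Units.val_inv_eq_inv_val, map_pow, map_inv₀, zpow_sub₀ h0, div_eq_mul_inv, ← zpow_natCast,
      ← zpow_natCast, ← zpow_natCast, ← _root_.zpow_mul, ← _root_.zpow_mul, _root_.inv_zpow]
    congr 3
  · have h1 : ε (t : E) ≠ 0 := by rw [map_ne_zero]; exact t.ne_zero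
    rw [cf_tor (j := ι') (R := ρ.comp ss) (ρ (sl (hh t))) h1 (fun u => by
      rw [MonoidHom.comp_apply, MonoidHom.comp_apply, ← map_mul, ← map_mul, H.sL]) (hv.2 t) hm]
    congr 1
    have h0 : ι (ε (t : E)) ≠ 0 := inj_ne h1
    rw [he, zpow_add₀ h0, ← pow_mul]
    congr 1
    exact_mod_cast rfl

/-- the string of the long node -/
theorem IsOcc.str_l [Fintype E] (hv : IsOcc ρ ss sl ε ι v a b) (ι' : E →+* k) (e : ℕ) (he : ∀ x, ι' x = ι (ε x) ^ e)
    {m : ℕ} (hm : m ≤ Fintype.card E - 1) :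
    IsOcc ρ ss sl ε ι (cf ι' (ρ.comp sl) v m) (a + f * (e * m)) (b - 2 * (e * m)) := by
  refine ⟨fun t => ?_, fun t => ?_⟩
  · have h1 : (N t : E) ≠ 0 := (N t).ne_zero
    rw [cf_tor (j := ι') (R := ρ.comp sl) (ρ (ss (hh t))) h1 (fun u => by
      rw [MonoidHom.comp_apply, MonoidHom.comp_apply, ← map_mul, ← map_mul, H.lL]) (hv.1 t) hm]
    congr 1
    have h0 : ι (t : K) ≠ 0 := inj_ne t.ne_zero
    rw [he, H.nm, zpow_add₀ h0, map_pow, ← pow_mul, ← pow_mul]
    congr 1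
    exact_mod_cast rfl
  · have h1 : ((t⁻¹ : Eˣ) : E) ^ 2 ≠ 0 := pow_ne_zero 2 (Units.ne_zero _)
    rw [cf_tor (j := ι') (R := ρ.comp sl) (ρ (sl (hh t))) h1 (fun u => by
      rw [MonoidHom.comp_apply, MonoidHom.comp_apply, ← map_mul, ← map_mul, ← map_mul, ← map_mul, hh_Lo]) (hv.2 t) hm]
    congr 1
    have h0 : ι (ε (t : E)) ≠ 0 := inj_ne (by rw [map_ne_zero]; exact t.ne_zero)
    rw [he, Units.val_inv_eq_inv_val, map_pow, map_inv₀, map_pow, map_inv₀, zpow_sub₀ h0, div_eq_mul_inv,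
      ← zpow_natCast, ← zpow_natCast, ← zpow_natCast, ← _root_.zpow_mul, ← _root_.zpow_mul, _root_.inv_zpow]
    congr 3

omit H in
/-- the reflections on the weights -/
def rs (x : ℤ × ℤ) : ℤ × ℤ := (-x.1, x.2 + x.1)

/-- the reflections on the weights -/
def rl (f : ℤ) (x : ℤ × ℤ) : ℤ × ℤ := (x.1 + f * x.2, -x.2)

/-- the orbit of a weight under the Weyl group -/
def orb (f : ℤ) (x : ℤ × ℤ) : List (ℤ × ℤ) :=
  [x, rs x, rl f (rs x), rs (rl f (rs x)), rl f (rs (rl f (rs x))), rs (rl f (rs (rl f (rs x)))),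
    rl f x, rs (rl f x), rl f (rs (rl f x)), rs (rl f (rs (rl f x))), rl f (rs (rl f (rs (rl f x)))),
    rs (rl f (rs (rl f (rs (rl f x)))))]

theorem Occ.orb {x : ℤ × ℤ} (h : Occ ρ ss sl ε ι x.1 x.2) {y : ℤ × ℤ} (hy : y ∈ orb f x) :
    Occ ρ ss sl ε ι y.1 y.2 := by
  have hs : ∀ x : ℤ × ℤ, Occ ρ ss sl ε ι x.1 x.2 → Occ ρ ss sl ε ι (rs x).1 (rs x).2 := fun x h => h.refl_s H
  have hl : ∀ x : ℤ × ℤ, Occ ρ ss sl ε ι x.1 x.2 → Occ ρ ss sl ε ι (rl f x).1 (rl f x).2 := fun x h => h.refl_l H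
  unfold Ppd.orb at hy
  simp only [List.mem_cons, List.not_mem_nil, or_false] at hy
  rcases hy with rfl | rfl | rfl | rfl | rfl | rfl | rfl | rfl | rfl | rfl | rfl | rfl
  · exact h
  · exact hs _ h
  · exact hl _ (hs _ h)
  · exact hs _ (hl _ (hs _ h))
  · exact hl _ (hs _ (hl _ (hs _ h)))
  · exact hs _ (hl _ (hs _ (hl _ (hs _ h))))
  · exact hl _ h
  · exact hs _ (hl _ h)
  · exact hl _ (hs _ (hl _ h))
  · exact hs _ (hl _ (hs _ (hl _ h)))
  · exact hl _ (hs _ (hl _ (hs _ (hl _ h))))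
  · exact hs _ (hl _ (hs _ (hl _ (hs _ (hl _ h)))))

end wt

/-! ### counting -/

section count

variable {K E Y : Type*} [Field K] [Field E] [Group Y] {k V : Type*} [Field k] [AddCommGroup V] [Module k V]
  {ρ : Y →* Module.End k V} {ss : _root_.Matrix.SpecialLinearGroup (Fin 2) K →* Y} {sl : _root_.Matrix.SpecialLinearGroup (Fin 2) E →* Y}
  {ε : E →+* K} {ι : K →+* k} [Fintype K] [Fintype E]

theorem dvd_of_zpow_eq {u : Kˣ} (hu : orderOf u = Fintype.card K - 1) {a b : ℤ}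
    (h : ι (u : K) ^ a = ι (u : K) ^ b) : ((Fintype.card K - 1 : ℕ) : ℤ) ∣ a - b := by
  have h1 : u ^ (a - b) = 1 := by
    apply Units.ext
    apply ι.injective
    rw [Units.val_one, map_one, zpow_sub, Units.val_mul, ← zpow_neg, map_mul, Units.val_zpow_eq_zpow_val,
      Units.val_zpow_eq_zpow_val, map_zpow₀, map_zpow₀, h, ← zpow_add₀ (inj_ne u.ne_zero), add_neg_cancel, zpow_zero]
  rw [← hu]
  exact orderOf_dvd_iff_zpow_eq_one.2 h1

theorem exists_gen (K : Type*) [Field K] [Fintype K] : ∃ u : Kˣ, orderOf u = Fintype.card K - 1 := by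
  classical
  obtain ⟨u, hu⟩ := IsCyclic.exists_ofOrder_eq_natCard (α := Kˣ)
  exact ⟨u, by rw [hu, Nat.card_units, Nat.card_eq_fintype_card]⟩

/-- **counting weights** -/
theorem count [FiniteDimensional k V] {α : Type*} [Fintype α] {x : α → V} (hx : LinearIndependent k x)
    {a : α → ℤ × ℤ} (ha : ∀ i, IsOcc ρ ss sl ε ι (x i) (a i).1 (a i).2) (S : Finset (ℤ × ℤ))
    (hS : ∀ y ∈ S, Occ ρ ss sl ε ι y.1 y.2)
    (h1 : ∀ i, ∀ y ∈ S, ¬ (((Fintype.card K - 1 : ℕ) : ℤ) ∣ (a i).1 - y.1 ∧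
      ((Fintype.card E - 1 : ℕ) : ℤ) ∣ (a i).2 - y.2))
    (h2 : ∀ y ∈ S, ∀ z ∈ S, ((Fintype.card K - 1 : ℕ) : ℤ) ∣ y.1 - z.1 →
      ((Fintype.card E - 1 : ℕ) : ℤ) ∣ y.2 - z.2 → y = z) :
    Fintype.card α + S.card ≤ Module.finrank k V := by
  classical
  obtain ⟨u, hu⟩ := exists_gen K
  obtain ⟨w, hw⟩ := exists_gen E
  choose v hv0 hv using fun y : S => hS y.1 y.2
  have h := card_le (ρ (ss (hh u))) (ρ (sl (hh w))) hx (y := v) hv0
    (a := fun i => ι (u : K) ^ (a i).1) (b := fun i => ι (ε (w : E)) ^ (a i).2)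
    (c := fun y => ι (u : K) ^ y.1.1) (d := fun y => ι (ε (w : E)) ^ y.1.2)
    (fun i => (ha i).1 u) (fun i => (ha i).2 w) (fun y => (hv y).1 u) (fun y => (hv y).2 w)
    (fun i y h3 => h1 i y.1 y.2 ⟨dvd_of_zpow_eq hu h3.1, dvd_of_zpow_eq (ι := ι.comp ε) hw h3.2⟩)
    (fun y z h3 h4 => Subtype.ext (h2 y.1 y.2 z.1 z.2 (dvd_of_zpow_eq hu h3) (dvd_of_zpow_eq (ι := ι.comp ε) hw h4)))
  rwa [Fintype.card_coe] at h

end count

end Cfsg.Agent.H744.Ppd
end

-- part: H744/Ppd/Rank2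
section
/-!
# Strings for root group data of type `G₂` (helper744)

`s` the short node, `l` the long node; `Hx` : the rank one groups `ss : SL₂(K) → Y`, `sl : SL₂(E) → Y` and the action of
the torus.

* `str_s`, `str_l` : the strings through `v₀`; `str_ls` : the string of the long node through `n_s v₀`; `str_sl` : the
  string of the short node through `n_l v₀`;
* `vertices` : the six extremal vectors for `J = {s}`.
-/

set_option autoImplicit false
set_option linter.unusedSectionVars false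
set_option linter.style.haveILetI false

namespace Cfsg.Agent.H744.Ppd

open Matrix (SpecialLinearGroup)
open Cfsg.Agent.H911.SLTwo Cfsg.Agent.H875.Fn
open CoxeterSystem Cfsg.Agent.ChevalleyStructure.CoxeterGeom Cfsg.Agent.Tits.Roots Cfsg.Agent.Tits.Core
  Cfsg.Agent.Tits.Exchange Cfsg.Agent.Nodes.Reps Cfsg.Agent.Nodes.BNOf Cfsg.Agent.Nodes.StabComb
  Cfsg.Agent.Nodes.Bruhat Cfsg.Agent.Nodes.OppDec Cfsg.Agent.Nodes.LeviDec Cfsg.Agent.KFacts.RgdOpp
  Cfsg.Agent.Omega.CR Cfsg.Agent.Omega.FOne.Lift.Sd Cfsg.Agent.H905.Md Cfsg.Agent.H650.Ppd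

section

variable {W Y : Type*} [Group W] [Group Y] {cs : CoxeterSystem CoxeterMatrix.G₂ W} {A : Fin 2 → Fin 2 → ℤ}
  {h : IsCartan CoxeterMatrix.G₂ A} {p : ℕ} {T : Subgroup Y} {n : Fin 2 → Y} {X : (Fin 2 → ℤ) → Subgroup Y}
  {K E : Type*} [Field K] [Field E]

/-- the rank one groups -/
structure Hx (R : RGD cs h p T n X) (s l : Fin 2) (ss : _root_.Matrix.SpecialLinearGroup (Fin 2) K →* Y)
    (sl : _root_.Matrix.SpecialLinearGroup (Fin 2) E →* Y) (ε : E →+* K) (N : Kˣ → Eˣ) (f : ℕ) : Prop where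
  ne : s ≠ l
  Asl : A s l = -3
  Als : A l s = -1
  Ns : Nd T X s ss
  Nl : Nd T X l sl
  two : Two ss sl ε N f
  ws : Rp cs R.nsys (cs.simple s) (ss ww)
  wl : Rp cs R.nsys (cs.simple l) (sl ww)

variable {R : RGD cs h p T n X} {s l : Fin 2} {ss : _root_.Matrix.SpecialLinearGroup (Fin 2) K →* Y}
    {sl : _root_.Matrix.SpecialLinearGroup (Fin 2) E →* Y} {ε : E →+* K} {N : Kˣ → Eˣ} {f : ℕ}

namespace Hx

variable (H : Hx R s l ss sl ε N f)
include H

theorem cases (i : Fin 2) : i = s ∨ i = l := by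
  have h1 := H.ne
  have h2 := i.2
  have h3 := s.2
  have h4 := l.2
  have h5 : s.val ≠ l.val := fun e => h1 (Fin.ext e)
  rcases Nat.lt_or_ge i.val 1 with h6 | h6
  · by_cases h7 : s.val = 0
    · left; apply Fin.ext; omega
    · right; apply Fin.ext; omega
  · by_cases h7 : s.val = 1
    · left; apply Fin.ext; omega
    · right; apply Fin.ext; omega

theorem sum_eq (x : Fin 2 → ℤ) : ∑ i, x i = x s + x l := by
  rw [Fin.sum_univ_two]
  rcases H.cases 0 with h0 | h0 <;> rcases H.cases 1 with h1 | h1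
  · exact absurd (h0.trans h1.symm) (by decide)
  · rw [h0, h1]
  · rw [h0, h1, add_comm]
  · exact absurd (h0.trans h1.symm) (by decide)

theorem rep_s (x : Fin 2 → ℤ) : rep cs h (cs.simple s) x s = -x s + 3 * x l ∧ rep cs h (cs.simple s) x l = x l := by
  rw [rep_simple_eq]
  unfold pairing
  rw [H.sum_eq, h.diag s, H.Asl]
  simp only [Pi.sub_apply, Pi.smul_apply, smul_eq_mul, sr_self, sr_ne (Ne.symm H.ne)]
  constructor <;> ring

theorem rep_l (x : Fin 2 → ℤ) : rep cs h (cs.simple l) x s = x s ∧ rep cs h (cs.simple l) x l = -x l + x s := by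
  rw [rep_simple_eq]
  unfold pairing
  rw [H.sum_eq, h.diag l, H.Als]
  simp only [Pi.sub_apply, Pi.smul_apply, smul_eq_mul, sr_self, sr_ne H.ne]
  constructor <;> ring

end Hx

end

section

variable {I W Y : Type*} [Fintype I] [DecidableEq I] [Group W] [Group Y] {M : CoxeterMatrix I}
  {cs : CoxeterSystem M W} {A : I → I → ℤ} {h : IsCartan M A} {p : ℕ} {T : Subgroup Y} {n : I → Y}
  {X : (I → ℤ) → Subgroup Y} {E : Type*} [Field E] {k V : Type*} [Field k] [AddCommGroup V] [Module k V]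
  {ρ : Y →* Module.End k V} {i : I} {σ : _root_.Matrix.SpecialLinearGroup (Fin 2) E →* Y}

/-- the rank one group of a node of `J` fixes `V^U` -/
theorem fix_J (N : Nd T X i σ) (hi : i ∈ Jx cs h X ρ) {v : V} (hv : v ∈ D cs h X ρ) (g : _root_.Matrix.SpecialLinearGroup (Fin 2) E) :
    ρ (σ g) v = v := by
  let H : Subgroup (_root_.Matrix.SpecialLinearGroup (Fin 2) E) :=
    { carrier := {g | ρ (σ g) v = v}
      one_mem' := by
        change ρ (σ 1) v = v
        rw [map_one, map_one]; rfl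
      mul_mem' := by
        intro a b (ha : ρ (σ a) v = v) (hb : ρ (σ b) v = v)
        change ρ (σ (a * b)) v = v
        rw [map_mul, map_mul, Module.End.mul_apply, hb, ha]
      inv_mem' := by
        intro a (ha : ρ (σ a) v = v)
        change ρ (σ a⁻¹) v = v
        conv_lhs => rw [← ha]
        rw [map_inv]
        exact Cfsg.Agent.Omega.CR.rho_inv_rho ρ _ _ }
  refine mem_of_UL (H := H) (fun t => ?_) (fun t => ?_) g
  · exact hv _ (RGD.le_Sup (S := RGD.Pos cs h) ⟨isRoot_sr cs h i, sr_nonneg i⟩ ((N.up _).2 ⟨t, rfl⟩))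
  · exact hi _ ((N.lo _).2 ⟨t, rfl⟩) v hv

end

section

variable {W Y : Type*} [Group W] [Group Y] {cs : CoxeterSystem CoxeterMatrix.G₂ W} {A : Fin 2 → Fin 2 → ℤ}
  {h : IsCartan CoxeterMatrix.G₂ A} {p : ℕ} {T : Subgroup Y} {n : Fin 2 → Y} {X : (Fin 2 → ℤ) → Subgroup Y}
  {K E : Type*} [Field K] [Field E] {k V : Type*} [Field k] [AddCommGroup V] [Module k V]
  {R : RGD cs h p T n X} {s l : Fin 2} {ss : _root_.Matrix.SpecialLinearGroup (Fin 2) K →* Y}
  {sl : _root_.Matrix.SpecialLinearGroup (Fin 2) E →* Y} {ε : E →+* K} {N : Kˣ → Eˣ} {f : ℕ} [Finite Y] [Finite W] [Fact p.Prime]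
  [CharP k p] {ρ : Y →* Module.End k V} [FiniteDimensional k V] [Nontrivial V]

namespace Hx

variable (H : Hx R s l ss sl ε N f) (hirr : ∀ L : Submodule k V, Ivt ρ (GG cs h T X) L → L = ⊥ ∨ L = ⊤)
  {v₀ : V} (hv₀ : v₀ ∈ D cs h X ρ) {φ₀ : Module.Dual k V} (hφ₀ : φ₀ ∈ fx ((dualRep ρ :)) (UN cs h X)) (hne : φ₀ v₀ ≠ 0)
include H hirr hv₀ hφ₀ hne

/-- the string of the short node through `v₀` -/
theorem str_s [Fintype K] (hs : s ∉ Jx cs h X ρ) (j : K →+* k) {c : ℕ} (h1 : 1 ≤ c) (h2 : c ≤ Fintype.card K - 1)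
    (htor : ∀ t : Kˣ, ρ (ss (hh t)) v₀ = j (t : K) ^ c • v₀) : Str j (ρ.comp ss) φ₀ v₀ c := by
  have h3 := str_of_rgd R hirr j (rp_one (cs := cs) (hN := R.nsys)) (i := s)
    (by rw [inv_one, map_one]; exact sr_nonneg s) (by
      rw [inv_one, one_mul, mul_one]
      exact fun h4 => hs (_root_.Cfsg.Agent.H905.Md.simple_mem_WJ h h4)) (fun t => (H.Ns.up _).2 ⟨t, rfl⟩) (fun t => (H.Ns.lo _).2 ⟨t, rfl⟩) H.ws
      hv₀ hφ₀ hne h1 h2 (by rw [map_one]; exact htor)
  rwa [map_one, map_one] at h3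

/-- the string of the long node through `v₀` -/
theorem str_l [Fintype E] (hl : l ∉ Jx cs h X ρ) (j : E →+* k) {c : ℕ} (h1 : 1 ≤ c) (h2 : c ≤ Fintype.card E - 1)
    (htor : ∀ t : Eˣ, ρ (sl (hh t)) v₀ = j (t : E) ^ c • v₀) : Str j (ρ.comp sl) φ₀ v₀ c := by
  have h3 := str_of_rgd R hirr j (rp_one (cs := cs) (hN := R.nsys)) (i := l)
    (by rw [inv_one, map_one]; exact sr_nonneg l) (by
      rw [inv_one, one_mul, mul_one]
      exact fun h4 => hl (_root_.Cfsg.Agent.H905.Md.simple_mem_WJ h h4)) (fun t => (H.Nl.up _).2 ⟨t, rfl⟩) (fun t => (H.Nl.lo _).2 ⟨t, rfl⟩) H.wl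
      hv₀ hφ₀ hne h1 h2 (by rw [map_one]; exact htor)
  rwa [map_one, map_one] at h3

/-- the string of the long node through `n_s v₀` -/
theorem str_ls [Fintype E] (hs : s ∉ Jx cs h X ρ) (j : E →+* k) {c : ℕ} (h1 : 1 ≤ c) (h2 : c ≤ Fintype.card E - 1)
    (htor : ∀ t : Eˣ, ρ (sl (hh t)) (ρ (ss ww) v₀) = j (t : E) ^ c • ρ (ss ww) v₀) :
    Str j (ρ.comp sl) (dualRep ρ (ss ww) φ₀) (ρ (ss ww) v₀) c := by
  refine str_of_rgd R hirr j H.ws (i := l) ?_ ?_ (fun t => (H.Nl.up _).2 ⟨t, rfl⟩) (fun t => (H.Nl.lo _).2 ⟨t, rfl⟩)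
    H.wl hv₀ hφ₀ hne h1 h2 htor
  · rw [inv_simple]
    intro i
    have h3 := H.rep_s (sr l)
    rw [sr_self, sr_ne H.ne] at h3
    rcases H.cases i with rfl | rfl
    · rw [h3.1]; norm_num
    · rw [h3.2]; norm_num
  · intro hw
    have h3 := coord_of_mem_WJ (h := h) hw (sr s) hs
    rw [inv_simple, rep_mul_apply, rep_mul_apply, (H.rep_s _).1, (H.rep_l _).1, (H.rep_l _).2, (H.rep_s _).1,
      (H.rep_s _).2, sr_self, sr_ne (Ne.symm H.ne)] at h3
    norm_num at h3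

/-- the string of the short node through `n_l v₀` -/
theorem str_sl [Fintype K] (hl : l ∉ Jx cs h X ρ) (j : K →+* k) {c : ℕ} (h1 : 1 ≤ c) (h2 : c ≤ Fintype.card K - 1)
    (htor : ∀ t : Kˣ, ρ (ss (hh t)) (ρ (sl ww) v₀) = j (t : K) ^ c • ρ (sl ww) v₀) :
    Str j (ρ.comp ss) (dualRep ρ (sl ww) φ₀) (ρ (sl ww) v₀) c := by
  refine str_of_rgd R hirr j H.wl (i := s) ?_ ?_ (fun t => (H.Ns.up _).2 ⟨t, rfl⟩) (fun t => (H.Ns.lo _).2 ⟨t, rfl⟩)
    H.ws hv₀ hφ₀ hne h1 h2 htor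
  · rw [inv_simple]
    intro i
    have h3 := H.rep_l (sr s)
    rw [sr_self, sr_ne (Ne.symm H.ne)] at h3
    rcases H.cases i with rfl | rfl
    · rw [h3.1]; norm_num
    · rw [h3.2]; norm_num
  · intro hw
    have h3 := coord_of_mem_WJ (h := h) hw (sr l) hl
    rw [inv_simple, rep_mul_apply, rep_mul_apply, (H.rep_l _).2, (H.rep_s _).2, (H.rep_s _).1, (H.rep_l _).1,
      (H.rep_l _).2, sr_self, sr_ne H.ne] at h3
    norm_num at h3

omit hirr hv₀ hφ₀ hne in
/-- the representatives of the six vertices for `l ∉ J` -/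
theorem rp_six : ∀ a : Fin 6, ∃ w : W, Rp cs R.nsys w ((![1, sl ww, ss ww * sl ww, sl ww * (ss ww * sl ww),
    ss ww * (sl ww * (ss ww * sl ww)), sl ww * (ss ww * (sl ww * (ss ww * sl ww)))] : Fin 6 → Y) a) ∧
    ∀ x : Fin 2 → ℤ, rep cs h w⁻¹ x l = (![0, 1, -1, 1, -1, 0] : Fin 6 → ℤ) a * x s +
      (![1, -1, 2, -2, 1, -1] : Fin 6 → ℤ) a * x l := by
  have key : ∀ (w : W) (g : Y) (α β : ℤ), Rp cs R.nsys w g → (∀ x : Fin 2 → ℤ, rep cs h w⁻¹ x l = α * x s + β * x l) →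
      (Rp cs R.nsys (cs.simple s * w) (ss ww * g) ∧
        ∀ x : Fin 2 → ℤ, rep cs h (cs.simple s * w)⁻¹ x l = -α * x s + (3 * α + β) * x l) ∧
      (Rp cs R.nsys (cs.simple l * w) (sl ww * g) ∧
        ∀ x : Fin 2 → ℤ, rep cs h (cs.simple l * w)⁻¹ x l = (α + β) * x s + -β * x l) := by
    intro w g α β hg hx
    refine ⟨⟨H.ws.mul hg, fun x => ?_⟩, ⟨H.wl.mul hg, fun x => ?_⟩⟩
    · rw [mul_inv_rev, inv_simple, rep_mul_apply, hx, (H.rep_s x).1, (H.rep_s x).2]; ring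
    · rw [mul_inv_rev, inv_simple, rep_mul_apply, hx, (H.rep_l x).1, (H.rep_l x).2]; ring
  have k0 : Rp cs R.nsys (1 : W) (1 : Y) ∧ ∀ x : Fin 2 → ℤ, rep cs h (1 : W)⁻¹ x l = 0 * x s + 1 * x l :=
    ⟨rp_one, fun x => by rw [inv_one, map_one, Module.End.one_apply]; ring⟩
  have k1 := (key _ _ _ _ k0.1 k0.2).2
  have k2 := (key _ _ _ _ k1.1 k1.2).1
  have k3 := (key _ _ _ _ k2.1 k2.2).2
  have k4 := (key _ _ _ _ k3.1 k3.2).1
  have k5 := (key _ _ _ _ k4.1 k4.2).2
  rw [mul_one (sl ww)] at k1 k2 k3 k4 k5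
  intro a
  fin_cases a
  · exact ⟨_, k0⟩
  · exact ⟨_, k1.1, fun x => (k1.2 x).trans (by show _ = (1 : ℤ) * x s + (-1) * x l; ring)⟩
  · exact ⟨_, k2.1, fun x => (k2.2 x).trans (by show _ = (-1 : ℤ) * x s + 2 * x l; ring)⟩
  · exact ⟨_, k3.1, fun x => (k3.2 x).trans (by show _ = (1 : ℤ) * x s + (-2) * x l; ring)⟩
  · exact ⟨_, k4.1, fun x => (k4.2 x).trans (by show _ = (-1 : ℤ) * x s + 1 * x l; ring)⟩
  · exact ⟨_, k5.1, fun x => (k5.2 x).trans (by show _ = (0 : ℤ) * x s + (-1) * x l; ring)⟩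

/-- **the six vertices are linearly independent** -/
theorem indep_six (hl : l ∉ Jx cs h X ρ) : LinearIndependent k fun a : Fin 6 => ρ ((![1, sl ww, ss ww * sl ww,
    sl ww * (ss ww * sl ww), ss ww * (sl ww * (ss ww * sl ww)),
    sl ww * (ss ww * (sl ww * (ss ww * sl ww)))] : Fin 6 → Y) a) v₀ := by
  set! g : Fin 6 → Y := ![1, sl ww, ss ww * sl ww, sl ww * (ss ww * sl ww), ss ww * (sl ww * (ss ww * sl ww)),
    sl ww * (ss ww * (sl ww * (ss ww * sl ww)))] with hg; rewrite [← hg]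
  choose w hw hx using H.rp_six
  rw [Fintype.linearIndependent_iff]
  intro c hc a
  have h1 := congrArg (fun v => φ₀ (ρ (g a)⁻¹ v)) hc
  simp only [map_sum, map_smul, map_zero] at h1
  rw [Finset.sum_eq_single a] at h1
  · rw [rho_inv_rho, smul_eq_mul] at h1
    exact (mul_eq_zero.1 h1).resolve_right hne
  · intro b _ hba
    rw [smul_eq_mul, mul_eq_zero]
    right
    by_contra h2
    rw [← rho_mul] at h2
    have h3 := mem_WJ_of_pair R hirr hφ₀ ((hw a).inv.mul (hw b)) hv₀ h2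
    have h4 : ∀ x : Fin 2 → ℤ, rep cs h (w a)⁻¹ x l = rep cs h (w b)⁻¹ x l := by
      intro x
      have h5 := coord_of_mem_WJ (h := h) h3 (rep cs h (w b)⁻¹ x) hl
      rwa [← rep_mul_apply, mul_inv_cancel_right] at h5
    have e1 := h4 (sr s)
    have e2 := h4 (sr l)
    rw [hx, hx, sr_self, sr_ne (Ne.symm H.ne)] at e1
    rw [hx, hx, sr_self, sr_ne H.ne] at e2
    apply hba
    clear h1 h2 h3 h4 hx hw hc
    revert e1 e2
    revert a b
    decide
  · intro h2
    exact absurd (Finset.mem_univ a) h2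

end Hx

end

end Cfsg.Agent.H744.Ppd
end

-- part: H744/Ppd/Inst
section
/-!
# The rank one groups of `G₂(K)` (helper744)
-/

set_option autoImplicit false
set_option linter.unusedSectionVars false
set_option linter.style.haveILetI false

namespace Cfsg.Agent.H744.Ppd

open Matrix (SpecialLinearGroup)
open Cfsg.Agent.H911.SLTwo Cfsg.Agent.H875.Fn
open CoxeterSystem Cfsg.Agent.ChevalleyStructure.CoxeterGeom Cfsg.Agent.Tits.Roots Cfsg.Agent.Tits.Core
  Cfsg.Agent.Tits.Exchange Cfsg.Agent.Nodes.Reps Cfsg.Agent.Nodes.BNOf Cfsg.Agent.Nodes.RGDChev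
  Cfsg.Agent.Nodes.RGDFoldSL Cfsg.Agent.H905.Md Cfsg.Agent.H650.Ppd
open Cfsg.Lie Cfsg.Agent.ChevalleyStructure Cfsg.Agent.ChevalleyStructure.Elts
  Cfsg.Agent.ChevalleyStructure.NPerm Cfsg.Agent.ChevalleyStructure.CoxeterGeomTypes
open Cfsg.Agent.ChevalleyStructure.SL2Hom (up lo)

section nd

variable {I W Y : Type*} [Fintype I] [DecidableEq I] [Group W] [Group Y] {M : CoxeterMatrix I}
  {cs : CoxeterSystem M W} {A : I → I → ℤ} {h : IsCartan M A} {p : ℕ} {T : Subgroup Y} {n : I → Y}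
  {X : (I → ℤ) → Subgroup Y} {E : Type*} [Field E]

theorem Lo_eq_conj (t : E) : Lo t = ww⁻¹ * U (-t) * ww := by
  rw [mul_assoc, eq_inv_mul_iff_mul_eq]
  apply ext' <;> simp only [m00, m01, m10, m11, U00, U01, U10, U11, Lo00, Lo01, Lo10, Lo11, ww00, ww01, ww10, ww11] <;>
    ring

/-- the lower root groups follow from the upper ones -/
theorem nd_of (R : RGD cs h p T n X) {i : I} {σ : _root_.Matrix.SpecialLinearGroup (Fin 2) E →* Y}
    (hup : ∀ x, x ∈ X (sr i) ↔ ∃ t, σ (U t) = x) (hw : Rp cs R.nsys (cs.simple i) (σ ww))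
    (htor : ∀ s : Eˣ, σ (hh s) ∈ T) : Nd T X i σ := by
  refine ⟨hup, fun x => ?_, htor⟩
  have h1 : x ∈ X (-sr i) ↔ σ ww * x * (σ ww)⁻¹ ∈ X (sr i) := by
    have h2 := R.conj_rp hw (isRoot_sr cs h i).neg
    rw [map_neg, rep_simple_sr, neg_neg] at h2
    rw [← h2]
    exact conj_mem_cj.symm
  rw [h1, hup]
  constructor
  · rintro ⟨t, ht⟩
    refine ⟨-t, ?_⟩
    rw [Lo_eq_conj, neg_neg, map_mul, map_mul, map_inv, ht]
    group
  · rintro ⟨t, rfl⟩
    refine ⟨-t, ?_⟩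
    rw [Lo_eq_conj, map_mul, map_mul, map_inv]
    group

end nd

theorem hh_eq_hS {E : Type*} [Field E] (s : Eˣ) : hh s = hS (s : E) := by
  apply Subtype.ext
  rw [coe_hS s.ne_zero, ← Units.val_inv_eq_inv_val]
  rfl

theorem ww_eq_wS {E : Type*} [Field E] : (ww : _root_.Matrix.SpecialLinearGroup (Fin 2) E) = wS 1 := by
  apply Subtype.ext
  rw [coe_wS one_ne_zero, inv_one]
  rfl

section chev

variable {D : ChevalleyDatum} {l : ℕ} {M : CoxeterMatrix (Fin l)} (hp : IsType D l M) (K : Type) [Field K]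

theorem psi_mem_group (i : Fin l) (g : _root_.Matrix.SpecialLinearGroup (Fin 2) K) : _root_.Cfsg.Agent.Nodes.RGDFoldSL.psi hp.inList K (D.simple i) g ∈ D.group K := by
  have h1 := psi_mem hp.inList (simple_lt hp.inList (lt_rank hp i)) g
  rw [← XV_sr hp (K := K) i, ← XV_neg_sr hp (K := K) i] at h1
  exact (sup_le (XV_le_group hp _) (XV_le_group hp _)) h1

/-- `SL₂(K)` at the node `i` -/
noncomputable def sg (i : Fin l) : _root_.Matrix.SpecialLinearGroup (Fin 2) K →* ↥(D.group K) :=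
  (_root_.Cfsg.Agent.Nodes.RGDFoldSL.psi hp.inList K (D.simple i)).codRestrict (D.group K) (psi_mem_group hp K i)

variable {K}

theorem coe_sg_U (i : Fin l) (t : K) : ((sg hp K i (U t) : ↥(D.group K)) : GL D.Idx K) = xG hp.inList (D.simple i) t :=
  psi_up hp.inList (simple_lt hp.inList (lt_rank hp i)) t

theorem coe_sg_Lo (i : Fin l) (t : K) :
    ((sg hp K i (Lo t) : ↥(D.group K)) : GL D.Idx K) = xG hp.inList (D.neg (D.simple i)) t :=
  psi_lo hp.inList (simple_lt hp.inList (lt_rank hp i)) t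

theorem coe_sg_hh (i : Fin l) (t : Kˣ) :
    ((sg hp K i (hh t) : ↥(D.group K)) : GL D.Idx K) = hG hp.inList (D.simple i) (t : K) := by
  rw [hh_eq_hS]
  exact psi_hS hp.inList (simple_lt hp.inList (lt_rank hp i)) _

theorem coe_sg_ww (i : Fin l) : ((sg hp K i ww : ↥(D.group K)) : GL D.Idx K) = _root_.Cfsg.Agent.Nodes.RGDChev.nn hp K i := by
  rw [ww_eq_wS]
  exact psi_wS hp.inList (simple_lt hp.inList (lt_rank hp i)) _

theorem sg_rp {W : Type*} [Group W] (cs : CoxeterSystem M W) [Finite K] (p : ℕ) [Fact p.Prime] [CharP K p] (i : Fin l) :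
    Rp cs (Nodes.RGDChev.rgd hp (K := K) cs p).nsys (cs.simple i) (sg hp K i ww) := by
  have h1 : sg hp K i ww = (⟨_root_.Cfsg.Agent.Nodes.RGDChev.nn hp K i, nn_mem_group hp i⟩ : ↥(D.group K)) := Subtype.ext (coe_sg_ww hp i)
  rw [h1]
  exact rp_simple cs (Nodes.RGDChev.rgd hp (K := K) cs p).nsys i

theorem sg_nd {W : Type*} [Group W] (cs : CoxeterSystem M W) [Finite K] (p : ℕ) [Fact p.Prime] [CharP K p] (i : Fin l) :
    Nd ((D.diagonalSubgroup K).subgroupOf (D.group K)) (fun x => (XV D l K x).subgroupOf (D.group K)) i (sg hp K i) := by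
  refine nd_of (Nodes.RGDChev.rgd hp (K := K) cs p) (fun x => ?_) (sg_rp hp cs p i) (fun s => ?_)
  · rw [Subgroup.mem_subgroupOf, XV_sr hp, mem_rootSubgroup_iff hp.inList]
    constructor
    · rintro ⟨t, ht⟩
      exact ⟨t, Subtype.ext ((coe_sg_U hp i t).trans ht.symm)⟩
    · rintro ⟨t, rfl⟩
      exact ⟨t, coe_sg_U hp i t⟩
  · rw [Subgroup.mem_subgroupOf, coe_sg_hh]
    exact hG_mem_diagonal hp.inList (simple_lt hp.inList (lt_rank hp i)) s.ne_zero

/-- the action of the torus -/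
theorem sg_conj (i : Fin l) (t : Kˣ) {r : ℕ} (hr : r < D.nroots) (u : K) :
    hG hp.inList (D.simple i) (t : K) * xG hp.inList r u =
      xG hp.inList r ((t : K) ^ (D.cartan i r) * u) * hG hp.inList (D.simple i) (t : K) := by
  have h1 := Cfsg.Agent.OddHalf.LongSL.Chev.conj_hG hp K i hr (t : K) t.ne_zero u
  exact mul_inv_eq_iff_eq_mul.1 h1

end chev

/-! ### `G₂` -/

section g2

theorem ht : IsType chevG2 2 CoxeterMatrix.G₂ := by simp [IsType, typeList]

theorem tab : chevG2.simple ((0 : Fin 2) : ℕ) = 7 ∧ chevG2.simple ((1 : Fin 2) : ℕ) = 6 ∧ chevG2.neg 7 = 4 ∧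
    chevG2.neg 6 = 5 ∧ chevG2.nroots = 12 := by decide +kernel

theorem tabc : chevG2.cartan ((1 : Fin 2) : ℕ) 7 = -1 ∧ chevG2.cartan ((1 : Fin 2) : ℕ) 4 = 1 ∧
    chevG2.cartan ((0 : Fin 2) : ℕ) 6 = -3 ∧ chevG2.cartan ((0 : Fin 2) : ℕ) 5 = 3 := by decide +kernel

variable {K : Type} [Field K] [Finite K] {W : Type*} [Group W] (cs : CoxeterSystem CoxeterMatrix.G₂ W) (p : ℕ)
  [Fact p.Prime] [CharP K p]

theorem hx_g2 : Hx (Nodes.RGDChev.rgd ht (K := K) cs p) 0 1 (sg ht K 0) (sg ht K 1) (RingHom.id K)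
    (fun t => t ^ 3) 3 where
  ne := by decide
  Asl := by decide +kernel
  Als := by decide +kernel
  Ns := sg_nd ht cs p 0
  Nl := sg_nd ht cs p 1
  two :=
    { sU := by
        intro t u
        apply Subtype.ext
        have h1 := sg_conj ht (K := K) (1 : Fin 2) t (r := 7) (by rw [tab.2.2.2.2]; norm_num) u
        rw [tabc.1, zpow_neg, zpow_one] at h1
        rw [Subgroup.coe_mul, Subgroup.coe_mul, coe_sg_hh, coe_sg_U, coe_sg_U, tab.1]
        exact h1
      sL := by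
        intro t u
        apply Subtype.ext
        have h1 := sg_conj ht (K := K) (1 : Fin 2) t (r := 4) (by rw [tab.2.2.2.2]; norm_num) u
        rw [tabc.2.1, zpow_one] at h1
        rw [Subgroup.coe_mul, Subgroup.coe_mul, coe_sg_hh, coe_sg_Lo, coe_sg_Lo, tab.1, tab.2.2.1]
        exact h1
      lU := by
        intro t u
        apply Subtype.ext
        have h1 := sg_conj ht (K := K) (0 : Fin 2) t (r := 6) (by rw [tab.2.2.2.2]; norm_num) u
        rw [tabc.2.2.1, zpow_neg] at h1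
        rw [Subgroup.coe_mul, Subgroup.coe_mul, coe_sg_hh, coe_sg_U, coe_sg_U, tab.2.1, Units.val_pow_eq_pow_val]
        exact_mod_cast h1
      lL := by
        intro t u
        apply Subtype.ext
        have h1 := sg_conj ht (K := K) (0 : Fin 2) t (r := 5) (by rw [tab.2.2.2.2]; norm_num) u
        rw [tabc.2.2.2] at h1
        rw [Subgroup.coe_mul, Subgroup.coe_mul, coe_sg_hh, coe_sg_Lo, coe_sg_Lo, tab.2.1, tab.2.2.2.1,
          Units.val_pow_eq_pow_val]
        exact_mod_cast h1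
      nm := fun t => by rw [RingHom.id_apply, Units.val_pow_eq_pow_val] }
  ws := sg_rp ht cs p 0
  wl := sg_rp ht cs p 1

end g2

end Cfsg.Agent.H744.Ppd
end

-- part: H744/Ppd/Dist
section
/-!
# Twenty-four weights (helper744)

The weights of `V = M ⊗ M^(q)`, `M` the module of `G₂(q²)` with highest weight a root: exponents `x + y q` modulo `q² - 1`.
-/

set_option autoImplicit false
set_option linter.unusedSectionVars false

namespace Cfsg.Agent.H744.Ppd

open Matrix (SpecialLinearGroup)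
open Cfsg.Agent.H911.SLTwo

/-- the weight `(x + y q, z + w q)` -/
def ev (q : ℤ) (x : ℤ × ℤ × ℤ × ℤ) : ℤ × ℤ := (x.1 + x.2.1 * q, x.2.2.1 + x.2.2.2 * q)

/-- the reflections -/
def rsQ (x : ℤ × ℤ × ℤ × ℤ) : ℤ × ℤ × ℤ × ℤ := (-x.1, -x.2.1, x.2.2.1 + x.1, x.2.2.2 + x.2.1)

/-- the reflections -/
def rlQ (x : ℤ × ℤ × ℤ × ℤ) : ℤ × ℤ × ℤ × ℤ := (x.1 + 3 * x.2.2.1, x.2.1 + 3 * x.2.2.2, -x.2.2.1, -x.2.2.2)

theorem ev_rsQ (q : ℤ) (x : ℤ × ℤ × ℤ × ℤ) : ev q (rsQ x) = rs (ev q x) := by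
  apply Prod.ext
  · show -x.1 + -x.2.1 * q = -(x.1 + x.2.1 * q)
    ring
  · show x.2.2.1 + x.1 + (x.2.2.2 + x.2.1) * q = x.2.2.1 + x.2.2.2 * q + (x.1 + x.2.1 * q)
    ring

theorem ev_rlQ (q : ℤ) (x : ℤ × ℤ × ℤ × ℤ) : ev q (rlQ x) = rl 3 (ev q x) := by
  apply Prod.ext
  · show x.1 + 3 * x.2.2.1 + (x.2.1 + 3 * x.2.2.2) * q = x.1 + x.2.1 * q + 3 * (x.2.2.1 + x.2.2.2 * q)
    ring
  · show -x.2.2.1 + -x.2.2.2 * q = -(x.2.2.1 + x.2.2.2 * q)
    ring

/-- the orbit -/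
def orbQ (x : ℤ × ℤ × ℤ × ℤ) : List (ℤ × ℤ × ℤ × ℤ) :=
  [x, rsQ x, rlQ (rsQ x), rsQ (rlQ (rsQ x)), rlQ (rsQ (rlQ (rsQ x))), rsQ (rlQ (rsQ (rlQ (rsQ x)))),
    rlQ x, rsQ (rlQ x), rlQ (rsQ (rlQ x)), rsQ (rlQ (rsQ (rlQ x))), rlQ (rsQ (rlQ (rsQ (rlQ x)))),
    rsQ (rlQ (rsQ (rlQ (rsQ (rlQ x)))))]

theorem ev_orbQ (q : ℤ) (x : ℤ × ℤ × ℤ × ℤ) : (orbQ x).map (ev q) = orb 3 (ev q x) := by
  unfold orbQ orb
  simp only [List.map_cons, List.map_nil, ev_rsQ, ev_rlQ]

/-- the two orbits -/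
def SQ (a b : ℤ × ℤ × ℤ × ℤ) : Finset (ℤ × ℤ × ℤ × ℤ) := (orbQ a ++ orbQ b).toFinset

/-- different weights -/
def Inj (N q : ℤ) (S : Finset (ℤ × ℤ × ℤ × ℤ)) : Prop :=
  ∀ x ∈ S, ∀ y ∈ S, N ∣ x.1 - y.1 + (x.2.1 - y.2.1) * q → N ∣ x.2.2.1 - y.2.2.1 + (x.2.2.2 - y.2.2.2) * q → x = y

instance decInj (N q : ℤ) (S : Finset (ℤ × ℤ × ℤ × ℤ)) : Decidable (Inj N q S) := by unfold Inj; infer_instance

theorem small {q u v : ℤ} (hu : |u| ≤ q - 2) (hv : |v| ≤ q - 2) (h : q ^ 2 - 1 ∣ u + v * q) : u = 0 ∧ v = 0 := by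
  rw [abs_le] at hu hv
  have h1 : u + v * q = 0 := by
    by_contra hne
    have h2 := Int.le_of_dvd (abs_pos.2 hne) ((dvd_abs _ _).2 h)
    rcases abs_cases (u + v * q) with ⟨h3, -⟩ | ⟨h3, -⟩
    · nlinarith only [hu, hv, h2, h3]
    · nlinarith only [hu, hv, h2, h3]
  have h2 : v = 0 := by
    by_contra hne
    rcases lt_or_gt_of_ne hne with h3 | h3
    · nlinarith only [hu, h1, h3]
    · nlinarith only [hu, h1, h3]
  rw [h2, zero_mul, add_zero] at h1
  exact ⟨h1, h2⟩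

theorem inj_large {S : Finset (ℤ × ℤ × ℤ × ℤ)} (hS : ∀ x ∈ S, ∀ y ∈ S, |x.1 - y.1| ≤ 12 ∧ |x.2.1 - y.2.1| ≤ 12 ∧
    |x.2.2.1 - y.2.2.1| ≤ 12 ∧ |x.2.2.2 - y.2.2.2| ≤ 12) {q : ℤ} (hq : 14 ≤ q) : Inj (q ^ 2 - 1) q S := by
  intro x hx y hy h1 h2
  obtain ⟨a1, a2, a3, a4⟩ := hS x hx y hy
  obtain ⟨b1, b2⟩ := small (by omega) (by omega) h1
  obtain ⟨b3, b4⟩ := small (by omega) (by omega) h2
  exact Prod.ext (by omega) (Prod.ext (by omega) (Prod.ext (by omega) (by omega)))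

private noncomputable def _root_.Cfsg.Agent.LsF.f340030_0 : {f // @Cfsg.Agent.H744.Ppd.rsQ = f} := ⟨_, by first | (delta Cfsg.Agent.H744.Ppd.rsQ; rewrite [Cfsg.Agent.LsF.iadd_pat, Cfsg.Agent.LsF.ineg_pat]; exact rfl) | exact rfl⟩
private noncomputable def _root_.Cfsg.Agent.LsF.f340030_1 : {f // @Cfsg.Agent.H744.Ppd.rlQ = f} := ⟨_, by first | (delta Cfsg.Agent.H744.Ppd.rlQ; rewrite [Cfsg.Agent.LsF.iadd_pat, Cfsg.Agent.LsF.imul_pat, Cfsg.Agent.LsF.ineg_pat]; exact rfl) | exact rfl⟩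
private noncomputable def _root_.Cfsg.Agent.LsF.f340030_2 : {f // @Cfsg.Agent.H744.Ppd.orbQ = f} := ⟨_, by first | (delta Cfsg.Agent.H744.Ppd.orbQ; rewrite [Cfsg.Agent.LsF.f340030_0.2, Cfsg.Agent.LsF.f340030_1.2]; exact rfl) | exact rfl⟩
private noncomputable def _root_.Cfsg.Agent.LsF.f340030_3 : {f // @Cfsg.Agent.H744.Ppd.SQ = f} := ⟨_, by first | (delta Cfsg.Agent.H744.Ppd.SQ; rewrite [Cfsg.Agent.LsF.f340030_2.2, Cfsg.Agent.LsF.lappend_pat, Cfsg.Agent.LsF.dProdEq_eq, Cfsg.Agent.LsF.toFinset_eq, Cfsg.Agent.LsF.instIDecEq_eq]; exact rfl) | exact rfl⟩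
/-- short node -/
theorem inj_short {q : ℕ} (hq : 3 ≤ q) : Inj ((q : ℤ) ^ 2 - 1) q (SQ (-1, 1, 1, 0) (2, -1, -1, 1)) := by
  rcases Nat.lt_or_ge q 14 with h | h
  · interval_cases q <;> (refine of_decide_eq_true ?_; (try delta Cfsg.Agent.H744.Ppd.Inj Cfsg.Agent.H744.Ppd.decInj); (try rewrite [Cfsg.Agent.LsF.f340030_3.2]); (try rewrite [Cfsg.Agent.LsF.iadd_pat]); (try rewrite [Cfsg.Agent.LsF.imul_pat]); (try rewrite [Cfsg.Agent.LsF.isub_pat]); (try rewrite [Cfsg.Agent.LsF.ineg_pat]); (try rewrite [Cfsg.Agent.LsF.icast_pat]); (try rewrite [Cfsg.Agent.LsF.dProdEq_eq]); (try rewrite [Cfsg.Agent.LsF.dDforall_eq]); (try rewrite [Cfsg.Agent.LsF.instIDecEq_eq]); (try rewrite [Cfsg.Agent.LsF.dAllP_eq]); (try rewrite [Cfsg.Agent.LsF.idDvd_eq]); (try rewrite [Cfsg.Agent.LsF.decide_eq]); decide +kernel)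
  · exact inj_large (by (refine of_decide_eq_true ?_; (try (rewrite [Cfsg.Agent.LsF.f340030_3.2, Cfsg.Agent.LsF.isub_pat, Cfsg.Agent.LsF.ineg_pat, Cfsg.Agent.LsF.dDforall_eq, Cfsg.Agent.LsF.idecLe_eq, Cfsg.Agent.LsF.dAnd_eq, Cfsg.Agent.LsF.decide_eq])); decide +kernel)) (by exact_mod_cast h)

/-- long node, `p ≠ 3` -/
theorem inj_long {q : ℕ} (hq : 4 ≤ q) : Inj ((q : ℤ) ^ 2 - 1) q (SQ (1, 3, 0, -1) (3, 1, -1, 0)) := by
  rcases Nat.lt_or_ge q 14 with h | h
  · interval_cases q <;> (refine of_decide_eq_true ?_; (try (delta Cfsg.Agent.H744.Ppd.Inj Cfsg.Agent.H744.Ppd.decInj; rewrite [Cfsg.Agent.LsF.f340030_3.2, Cfsg.Agent.LsF.iadd_pat, Cfsg.Agent.LsF.imul_pat, Cfsg.Agent.LsF.isub_pat, Cfsg.Agent.LsF.ineg_pat, Cfsg.Agent.LsF.icast_pat, Cfsg.Agent.LsF.dProdEq_eq, Cfsg.Agent.LsF.dDforall_eq, Cfsg.Agent.LsF.instIDecEq_eq, Cfsg.Agent.LsF.dAllP_eq, Cfsg.Agent.LsF.idDvd_eq, Cfsg.Agent.LsF.decide_eq])); decide +kernel)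
  · exact inj_large (by (refine of_decide_eq_true ?_; (try (rewrite [Cfsg.Agent.LsF.f340030_3.2, Cfsg.Agent.LsF.isub_pat, Cfsg.Agent.LsF.ineg_pat, Cfsg.Agent.LsF.dDforall_eq, Cfsg.Agent.LsF.idecLe_eq, Cfsg.Agent.LsF.dAnd_eq, Cfsg.Agent.LsF.decide_eq])); decide +kernel)) (by exact_mod_cast h)

/-- long node, `p = 3` -/
theorem inj_long3 {q : ℕ} (hq : 3 ≤ q) (hq4 : q ≠ 4) :
    Inj ((q : ℤ) ^ 2 - 1) q (SQ (3, 0, -1, 1) (-3, 3, 2, -1)) := by
  rcases (show q = 3 ∨ (5 ≤ q ∧ q < 14) ∨ 14 ≤ q by omega) with rfl | ⟨h5, h⟩ | h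
  · (refine of_decide_eq_true ?_; (try (delta Cfsg.Agent.H744.Ppd.Inj Cfsg.Agent.H744.Ppd.decInj; rewrite [Cfsg.Agent.LsF.f340030_3.2, Cfsg.Agent.LsF.iadd_pat, Cfsg.Agent.LsF.imul_pat, Cfsg.Agent.LsF.isub_pat, Cfsg.Agent.LsF.ineg_pat, Cfsg.Agent.LsF.icast_pat, Cfsg.Agent.LsF.dProdEq_eq, Cfsg.Agent.LsF.dDforall_eq, Cfsg.Agent.LsF.instIDecEq_eq, Cfsg.Agent.LsF.dAllP_eq, Cfsg.Agent.LsF.idDvd_eq, Cfsg.Agent.LsF.decide_eq])); decide +kernel)
  · clear hq hq4
    interval_cases q <;> (refine of_decide_eq_true ?_; (try delta Cfsg.Agent.H744.Ppd.Inj Cfsg.Agent.H744.Ppd.decInj); (try rewrite [Cfsg.Agent.LsF.f340030_3.2]); (try rewrite [Cfsg.Agent.LsF.iadd_pat]); (try rewrite [Cfsg.Agent.LsF.imul_pat]); (try rewrite [Cfsg.Agent.LsF.isub_pat]); (try rewrite [Cfsg.Agent.LsF.ineg_pat]); (try rewrite [Cfsg.Agent.LsF.icast_pat]); (try rewrite [Cfsg.Agent.LsF.dProdEq_eq]); (try rewrite [Cfsg.Agent.LsF.dDforall_eq]); (try rewrite [Cfsg.Agent.LsF.instIDecEq_eq]);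 (try rewrite [Cfsg.Agent.LsF.dAllP_eq]); (try rewrite [Cfsg.Agent.LsF.idDvd_eq]); (try rewrite [Cfsg.Agent.LsF.decide_eq]); decide +kernel)
  · exact inj_large (by (refine of_decide_eq_true ?_; (try (rewrite [Cfsg.Agent.LsF.f340030_3.2, Cfsg.Agent.LsF.isub_pat, Cfsg.Agent.LsF.ineg_pat, Cfsg.Agent.LsF.dDforall_eq, Cfsg.Agent.LsF.idecLe_eq, Cfsg.Agent.LsF.dAnd_eq, Cfsg.Agent.LsF.decide_eq])); decide +kernel)) (by exact_mod_cast h)

section

variable {K Y : Type*} [Field K] [Fintype K] [Group Y] {k V : Type*} [Field k] [AddCommGroup V] [Module k V]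
  {ρ : Y →* Module.End k V} {ss sl : _root_.Matrix.SpecialLinearGroup (Fin 2) K →* Y} {ι : K →+* k} {N : Kˣ → Kˣ}

/-- counting weights `(x + y q, z + w q)` -/
theorem card_le_of_occ {ε : K →+* K} {q : ℕ} (hK : Fintype.card K = q ^ 2) [FiniteDimensional k V]
    {S : Finset (ℤ × ℤ × ℤ × ℤ)} (hS : Inj ((q : ℤ) ^ 2 - 1) q S)
    (hocc : ∀ x ∈ S, Occ ρ ss sl ε ι (ev q x).1 (ev q x).2) : S.card ≤ Module.finrank k V := by
  classical
  have hq : 1 ≤ q ^ 2 := by rw [← hK]; exact Fintype.card_pos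
  have hN : ((Fintype.card K - 1 : ℕ) : ℤ) = (q : ℤ) ^ 2 - 1 := by
    rw [hK, Nat.cast_sub hq]
    push_cast
    ring
  have e1 : ∀ x y : ℤ × ℤ × ℤ × ℤ, x.1 - y.1 + (x.2.1 - y.2.1) * q = (ev q x).1 - (ev q y).1 := fun x y => by
    show _ = x.1 + x.2.1 * q - (y.1 + y.2.1 * q); ring
  have e2 : ∀ x y : ℤ × ℤ × ℤ × ℤ, x.2.2.1 - y.2.2.1 + (x.2.2.2 - y.2.2.2) * q = (ev q x).2 - (ev q y).2 :=
    fun x y => by
      show _ = x.2.2.1 + x.2.2.2 * q - (y.2.2.1 + y.2.2.2 * q); ring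
  have hinj : Set.InjOn (ev q) (S : Set (ℤ × ℤ × ℤ × ℤ)) := by
    intro x hx y hy hxy
    refine hS x hx y hy ?_ ?_
    · rw [e1, hxy, sub_self]; exact dvd_zero _
    · rw [e2, hxy, sub_self]; exact dvd_zero _
  have h := count (ρ := ρ) (ss := ss) (sl := sl) (ε := ε) (ι := ι) (α := Empty) (x := fun i => i.elim)
    linearIndependent_empty_type (a := fun i => i.elim) (fun i => i.elim) (S.image (ev q)) (by
      intro y hy
      obtain ⟨x, hx, rfl⟩ := Finset.mem_image.1 hy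
      exact hocc x hx) (fun i => i.elim) (by
      intro y hy z hz h1 h2
      obtain ⟨x, hx, rfl⟩ := Finset.mem_image.1 hy
      obtain ⟨x', hx', rfl⟩ := Finset.mem_image.1 hz
      rw [hN] at h1 h2
      congr 1
      refine hS x hx x' hx' ?_ ?_
      · rw [e1]; exact h1
      · rw [e2]; exact h2)
  rwa [Fintype.card_empty, zero_add, Finset.card_image_of_injOn hinj] at h

/-- **twenty-four weights** -/
theorem twentyfour (H : Two ss sl (RingHom.id K) N 3) {q : ℕ} (hK : Fintype.card K = q ^ 2) [FiniteDimensional k V]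
    {a b : ℤ × ℤ × ℤ × ℤ} (hS : Inj ((q : ℤ) ^ 2 - 1) q (SQ a b)) (hcard : (SQ a b).card = 24)
    (ha : Occ ρ ss sl (RingHom.id K) ι (ev q a).1 (ev q a).2)
    (hb : Occ ρ ss sl (RingHom.id K) ι (ev q b).1 (ev q b).2) : 24 ≤ Module.finrank k V := by
  rw [← hcard]
  refine card_le_of_occ (ρ := ρ) (ss := ss) (sl := sl) (ι := ι) (ε := RingHom.id K) hK hS fun x hx => ?_
  have h3 : ((3 : ℕ) : ℤ) = 3 := rfl
  unfold SQ at hx
  rw [List.mem_toFinset, List.mem_append] at hx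
  rcases hx with hx | hx
  · have h1 := List.mem_map_of_mem (f := ev q) hx
    rw [ev_orbQ, ← h3] at h1
    exact Occ.orb H (x := ev q a) ha h1
  · have h1 := List.mem_map_of_mem (f := ev q) hx
    rw [ev_orbQ, ← h3] at h1
    exact Occ.orb H (x := ev q b) hb h1

end

end Cfsg.Agent.H744.Ppd
end

-- part: H744/Ppd/G2Wt
section
/-!
# `G₂(q²)` over `F_q`: twenty-four weights (helper744)

`R` of type `G₂`, `|K| = q²`, `v₀ ∈ V^U` of weight `(1 + q) ω`:

* `short24` : `ω` the short fundamental weight;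
* `long24` : `ω` the long one, `p ≠ 3`, `q ≥ 4`; `long24_three` : `p = 3`.
-/

set_option autoImplicit false
set_option linter.unusedSectionVars false
set_option linter.style.haveILetI false

namespace Cfsg.Agent.H744.Ppd

open Matrix (SpecialLinearGroup)
open Cfsg.Agent.H911.SLTwo Cfsg.Agent.H875.Fn
open CoxeterSystem Cfsg.Agent.ChevalleyStructure.CoxeterGeom Cfsg.Agent.Tits.Roots Cfsg.Agent.Tits.Core
  Cfsg.Agent.Tits.Exchange Cfsg.Agent.Nodes.Reps Cfsg.Agent.Nodes.BNOf Cfsg.Agent.Nodes.StabComb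
  Cfsg.Agent.Nodes.Bruhat Cfsg.Agent.Nodes.OppDec Cfsg.Agent.Nodes.LeviDec Cfsg.Agent.KFacts.RgdOpp
  Cfsg.Agent.Omega.CR Cfsg.Agent.Omega.FOne.Lift.Sd Cfsg.Agent.H905.Md Cfsg.Agent.H650.Ppd

/-! ### the sets `SS` -/

section ss

variable (p : ℕ) [hp : Fact p.Prime]

theorem one_mem_SS {c : ℕ} (hc : ¬ p ∣ c) : 1 ∈ SS p c := by
  rw [mem_SS', Nat.choose_one_right]
  exact hc

theorem one_mem_SS_q {a : ℕ} (ha : a ≠ 0) : 1 ∈ SS p (1 + p ^ a) := by
  refine one_mem_SS p fun h => ?_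
  have h1 := (Nat.dvd_add_left (dvd_pow_self p ha)).1 h
  exact hp.out.one_lt.ne' (Nat.dvd_one.1 h1)

theorem pow_mem_SS {a c : ℕ} (hc : ¬ p ∣ c) : p ^ a ∈ SS p (p ^ a * c) := by
  induction a with
  | zero => rw [pow_zero, one_mul]; exact one_mem_SS p hc
  | succ a ih => rw [pow_succ', mul_assoc, mem_SS_p_mul]; exact ih

theorem q_mem_SS {a c : ℕ} (hc : ¬ p ∣ c) (h : c < p ^ a) : p ^ a ∈ SS p (c + p ^ a * c) := by
  rw [mem_SS_add h (Dvd.intro _ rfl), Nat.mod_self]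
  exact ⟨zero_mem_SS c, pow_mem_SS p hc⟩

end ss

section

variable {W Y : Type*} [Group W] [Group Y] {cs : CoxeterSystem CoxeterMatrix.G₂ W} {A : Fin 2 → Fin 2 → ℤ}
  {h : IsCartan CoxeterMatrix.G₂ A} {p : ℕ} {T : Subgroup Y} {n : Fin 2 → Y} {X : (Fin 2 → ℤ) → Subgroup Y}
  {K : Type*} [Field K] [Fintype K] {k V : Type*} [Field k] [AddCommGroup V] [Module k V]
  {R : RGD cs h p T n X} {s l : Fin 2} {ss : _root_.Matrix.SpecialLinearGroup (Fin 2) K →* Y}
  {sl : _root_.Matrix.SpecialLinearGroup (Fin 2) K →* Y} {N : Kˣ → Kˣ} [Finite Y] [Finite W] [hp : Fact p.Prime]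
  [CharP k p] {ρ : Y →* Module.End k V} [FiniteDimensional k V] [Nontrivial V]

variable (H : Hx R s l ss sl (RingHom.id K) N 3) (hirr : ∀ L : Submodule k V, Ivt ρ (GG cs h T X) L → L = ⊥ ∨ L = ⊤)
  {v₀ : V} (hv₀ : v₀ ∈ D cs h X ρ) {φ₀ : Module.Dual k V} (hφ₀ : φ₀ ∈ fx ((dualRep ρ :)) (UN cs h X)) (hne : φ₀ v₀ ≠ 0)
  (ι : K →+* k) {a : ℕ} (ha : a ≠ 0) (hK : Fintype.card K = (p ^ a) ^ 2)
include H hirr hv₀ hφ₀ hne ha hK

/-- short node -/
theorem short24 (hq : 3 ≤ p ^ a) (hs : s ∉ Jx cs h X ρ) (hl : l ∈ Jx cs h X ρ)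
    (htor : ∀ t : Kˣ, ρ (ss (hh t)) v₀ = ι (t : K) ^ (1 + p ^ a) • v₀) : 24 ≤ Module.finrank k V := by
  have hN := H.Nl
  have hcK : 1 + p ^ a ≤ Fintype.card K - 1 := by
    rw [hK, pow_two]
    have := Nat.mul_le_mul_left (p ^ a) hq
    omega
  have hc1 : 1 ≤ 1 + p ^ a := by omega
  have h1 : IsOcc ρ ss sl (RingHom.id K) ι v₀ ((1 + p ^ a : ℕ) : ℤ) 0 :=
    ⟨fun t => by rw [htor, zpow_natCast], fun t => by rw [fix_J hN hl hv₀, zpow_zero, one_smul]⟩
  have S1 := H.str_s hirr hv₀ hφ₀ hne hs ι hc1 hcK htor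
  have o1 : Occ ρ ss sl (RingHom.id K) ι (((1 + p ^ a : ℕ) : ℤ) - 2 * ((1 : ℕ) * (1 : ℕ)))
      (0 + (1 : ℕ) * (1 : ℕ)) :=
    ⟨_, S1.cf_ne p one_ne_zero (one_mem_SS_q p ha), h1.str_s H.two ι 1 (fun x => (pow_one _).symm) (by omega)⟩
  have h2 := h1.refl_s H.two
  have S2 := H.str_ls hirr hv₀ hφ₀ hne hs ι hc1 hcK (fun t => by
    rw [h2.2 t, zero_add, zpow_natCast]; rfl)
  have o2 : Occ ρ ss sl (RingHom.id K) ι (-((1 + p ^ a : ℕ) : ℤ) + (3 : ℕ) * ((1 : ℕ) * (1 : ℕ)))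
      (0 + ((1 + p ^ a : ℕ) : ℤ) - 2 * ((1 : ℕ) * (1 : ℕ))) :=
    ⟨_, S2.cf_ne p one_ne_zero (one_mem_SS_q p ha), h2.str_l H.two ι 1 (fun x => (pow_one _).symm) (by omega)⟩
  refine twentyfour (ρ := ρ) (ss := ss) (sl := sl) (ι := ι) H.two hK (inj_short hq) (by decide +kernel) ?_ ?_
  · convert o1 using 1
    · simp only [ev]; push_cast; ring
    · simp only [ev]; push_cast; ring
  · convert o2 using 1
    · simp only [ev]; push_cast; ring
    · simp only [ev]; push_cast; ring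

/-- long node, `p ≠ 3` -/
theorem long24 (hp3 : p ≠ 3) (hq : 4 ≤ p ^ a) (hs : s ∈ Jx cs h X ρ) (hl : l ∉ Jx cs h X ρ)
    (htor : ∀ t : Kˣ, ρ (sl (hh t)) v₀ = ι (t : K) ^ (1 + p ^ a) • v₀) : 24 ≤ Module.finrank k V := by
  have hN := H.Ns
  have hcK : 3 + p ^ a * 3 ≤ Fintype.card K - 1 := by
    rw [hK, pow_two]
    have := Nat.mul_le_mul_left (p ^ a) hq
    omega
  have h1 : IsOcc ρ ss sl (RingHom.id K) ι v₀ 0 ((1 + p ^ a : ℕ) : ℤ) :=
    ⟨fun t => by rw [fix_J hN hs hv₀, zpow_zero, one_smul], fun t => by rw [htor, zpow_natCast]; rfl⟩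
  have h2 := h1.refl_l H.two
  have hnd : ¬ p ∣ 3 := fun h => hp3 ((Nat.prime_dvd_prime_iff_eq hp.out Nat.prime_three).1 h)
  have S2 := H.str_sl hirr hv₀ hφ₀ hne hl ι (c := 3 + p ^ a * 3) (by omega) hcK (fun t => by
    rw [h2.1 t]
    congr 1
    rw [← zpow_natCast]
    congr 1
    push_cast
    ring)
  have m1 : 1 ∈ SS p (3 + p ^ a * 3) := by
    refine one_mem_SS p fun h => hnd ?_
    exact (Nat.dvd_add_left ((dvd_pow_self p ha).mul_right 3)).1 h
  have m2 : p ^ a ∈ SS p (3 + p ^ a * 3) := q_mem_SS p hnd (by omega)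
  have o1 : Occ ρ ss sl (RingHom.id K) ι _ _ :=
    ⟨_, S2.cf_ne p one_ne_zero m1, h2.str_s H.two ι 1 (fun x => (pow_one _).symm) (by omega)⟩
  have o2 : Occ ρ ss sl (RingHom.id K) ι _ _ :=
    ⟨_, S2.cf_ne p (by omega) m2, h2.str_s H.two ι 1 (fun x => (pow_one _).symm) (by omega)⟩
  refine twentyfour (ρ := ρ) (ss := ss) (sl := sl) (ι := ι) H.two hK (inj_long hq) (by decide +kernel) ?_ ?_
  · convert o1 using 1
    · simp only [ev]; push_cast; ring
    · simp only [ev]; push_cast; ring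
  · convert o2 using 1
    · simp only [ev]; push_cast; ring
    · simp only [ev]; push_cast; ring

/-- long node, `p = 3` -/
theorem long24_three (hp3 : p = 3) (hs : s ∈ Jx cs h X ρ) (hl : l ∉ Jx cs h X ρ)
    (htor : ∀ t : Kˣ, ρ (sl (hh t)) v₀ = ι (t : K) ^ (1 + p ^ a) • v₀) : 24 ≤ Module.finrank k V := by
  have hN := H.Ns
  have hq : 3 ≤ p ^ a := by
    have h3 := Nat.pow_le_pow_right (n := p) (by omega) (Nat.one_le_iff_ne_zero.2 ha)
    rw [pow_one] at h3
    omega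
  have hcK : 1 + p ^ a ≤ Fintype.card K - 1 := by
    rw [hK, pow_two]
    have := Nat.mul_le_mul_left (p ^ a) hq
    omega
  have h1 : IsOcc ρ ss sl (RingHom.id K) ι v₀ 0 ((1 + p ^ a : ℕ) : ℤ) :=
    ⟨fun t => by rw [fix_J hN hs hv₀, zpow_zero, one_smul], fun t => by rw [htor, zpow_natCast]; rfl⟩
  have h2 := h1.refl_l H.two
  have hι : ∀ x, ((frobenius k p).comp ι) x = ι x ^ 3 := fun x => by
    rw [RingHom.comp_apply, frobenius_def, hp3]
  have S1 := H.str_l hirr hv₀ hφ₀ hne hl ι (by omega) hcK htor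
  have S2 := H.str_sl hirr hv₀ hφ₀ hne hl ((frobenius k p).comp ι) (c := 1 + p ^ a) (by omega) hcK (fun t => by
    rw [h2.1 t, hι]
    congr 1
    rw [← pow_mul, ← zpow_natCast]
    congr 1
    push_cast
    ring)
  have o1 : Occ ρ ss sl (RingHom.id K) ι _ _ :=
    ⟨_, S1.cf_ne p one_ne_zero (one_mem_SS_q p ha), h1.str_l H.two ι 1 (fun x => (pow_one _).symm) (by omega)⟩
  have o2 : Occ ρ ss sl (RingHom.id K) ι _ _ :=
    ⟨_, S2.cf_ne p one_ne_zero (one_mem_SS_q p ha), h2.str_s H.two _ 3 hι (by omega)⟩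
  have hq4 : p ^ a ≠ 4 := by
    intro h4
    have h5 : p ∣ 4 := h4 ▸ dvd_pow_self p ha
    rw [hp3] at h5
    omega
  refine twentyfour (ρ := ρ) (ss := ss) (sl := sl) (ι := ι) H.two hK (inj_long3 hq hq4) (by decide +kernel) ?_ ?_
  · convert o1 using 1
    · simp only [ev]; push_cast; ring
    · simp only [ev]; push_cast; ring
  · convert o2 using 1
    · simp only [ev]; push_cast; ring
    · simp only [ev]; push_cast; ring

end

end Cfsg.Agent.H744.Ppd
end

private theorem dce_3e0f796fa9b3 : _root_.True := by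
  try have : _root_.True := by simp only [_root_.Cfsg.Agent.H744.Ppd.ev.eq_1]
  exact _root_.True.intro
end

-- part: H744/Ppd/D4Inst_mg
section
prune_inst 0x202066443022020000000590130020204c00019000000800c08008440801e0600002080006800110182a008800000000001000b0400000000a000400000401000081900030100c00000008000004400000000000000000000000000000000004000000000
set_option linter.all false
open scoped Cfsg.Agent.FastGrp

-- part: H744/Ppd/D4Inst
section
/-!
# The rank one groups of `³D₄(q)` (helper744)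

`sl` : `SL₂(Fix φ) → ³D₄(q)` (long node `0`), `ss` : `SL₂(Fix φ³) → ³D₄(q)` (short node `1`); `hx_d4`.
-/

set_option autoImplicit false
set_option linter.unusedSectionVars false
set_option linter.style.haveILetI false
set_option maxHeartbeats 400000

namespace Cfsg.Agent.H744.Ppd.D4

open Matrix (SpecialLinearGroup)
open Cfsg.Agent.H911.SLTwo Cfsg.Agent.H875.Fn
open CoxeterSystem Cfsg.Agent.ChevalleyStructure.CoxeterGeom Cfsg.Agent.Tits.Roots Cfsg.Agent.Tits.Core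
  Cfsg.Agent.Tits.Exchange Cfsg.Agent.Nodes.Reps Cfsg.Agent.Nodes.BNOf Cfsg.Agent.Nodes.RGDChev
  Cfsg.Agent.Nodes.RGDFold Cfsg.Agent.Nodes.RGDFoldSL Cfsg.Agent.H905.Md Cfsg.Agent.H650.Ppd
open Cfsg.Lie Cfsg.Agent.ChevalleyStructure Cfsg.Agent.ChevalleyStructure.Elts
  Cfsg.Agent.ChevalleyStructure.NPerm Cfsg.Agent.ChevalleyStructure.CoxeterGeomTypes
open Cfsg.Agent.ChevalleyStructure.SL2Hom (up lo)
open Cfsg.Agent.Nodes.RGDTwD4 (J L A isCartan foldData hp rho eps foldGrp)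
open Cfsg.Agent.Nodes.RGDTwNode.D4 (rep rest nodeOK eps_one)
open Cfsg.Agent.ChevalleyStructure.D4Fixed (sig)

variable {K : Type} [Field K] [Fintype K] {q : ℕ} {φ : K →+* K}

theorem N0 : NodeOK chevD4 J _root_.Cfsg.Agent.Nodes.RGDTwD4.L rho 0 14 [] := nodeOK 0
theorem N1 : NodeOK chevD4 J _root_.Cfsg.Agent.Nodes.RGDTwD4.L rho 1 18 [13, 12] := nodeOK 1

/-- the field automorphism with signs -/
def ff (φ : K →+* K) : ℕ → K → K := fun r t => ((eps r : ℤ) : K) * φ t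

theorem hf0 : ∀ s ∈ [14], ∀ t : K, ff φ s t = φ t := fun s hs t => by
  unfold ff
  rw [eps_one 0 s hs, Int.cast_one, one_mul]

theorem hf1 : ∀ s ∈ [18, 13, 12], ∀ t : K, ff φ s t = φ t := fun s hs t => by
  unfold ff
  rw [eps_one 1 s hs, Int.cast_one, one_mul]

theorem nr : chevD4.nroots = 24 := by decide +kernel

theorem simp_tab : chevD4.simple ((0 : Fin 4) : ℕ) = 18 ∧ chevD4.simple ((1 : Fin 4) : ℕ) = 14 ∧
    chevD4.simple ((2 : Fin 4) : ℕ) = 13 ∧ chevD4.simple ((3 : Fin 4) : ℕ) = 12 ∧ chevD4.neg 14 = 9 ∧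
    chevD4.neg 18 = 5 ∧ chevD4.neg 13 = 10 ∧ chevD4.neg 12 = 11 := by decide +kernel

theorem cart_tab : (chevD4.cartan ((1 : Fin 4) : ℕ) 18 = -1 ∧ chevD4.cartan ((1 : Fin 4) : ℕ) 13 = -1 ∧
    chevD4.cartan ((1 : Fin 4) : ℕ) 12 = -1) ∧ (chevD4.cartan ((1 : Fin 4) : ℕ) 5 = 1 ∧
    chevD4.cartan ((1 : Fin 4) : ℕ) 10 = 1 ∧ chevD4.cartan ((1 : Fin 4) : ℕ) 11 = 1) ∧
    (chevD4.cartan ((0 : Fin 4) : ℕ) 14 = -1 ∧ chevD4.cartan ((2 : Fin 4) : ℕ) 14 = -1 ∧
    chevD4.cartan ((3 : Fin 4) : ℕ) 14 = -1) ∧ (chevD4.cartan ((0 : Fin 4) : ℕ) 9 = 1 ∧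
    chevD4.cartan ((2 : Fin 4) : ℕ) 9 = 1 ∧ chevD4.cartan ((3 : Fin 4) : ℕ) 9 = 1) := by decide +kernel

theorem U_eq_up {E : Type*} [Field E] (t : E) : U t = up t := rfl
theorem Lo_eq_lo {E : Type*} [Field E] (t : E) : Lo t = lo t := rfl

/-- the inclusion of the fields -/
def incl (φ : K →+* K) : Fx φ 1 →+* Fx φ 3 :=
  ((Fx φ 1).subtype).codRestrict (Fx φ 3) fun a => by
    have h1 : φ (a : K) = a := mem_Fx.1 a.2
    rw [mem_Fx]
    show φ (φ (φ (a : K))) = a
    rw [h1, h1, h1]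

theorem coe_incl (a : Fx φ 1) : ((incl φ a : Fx φ 3) : K) = a := rfl

/-- the norm -/
def nrm (φ : K →+* K) (t : (Fx φ 3)ˣ) : (Fx φ 1)ˣ :=
  Units.mk0 ⟨((t : Fx φ 3) : K) * φ ((t : Fx φ 3) : K) * φ (φ ((t : Fx φ 3) : K)), by
    rw [mem_Fx]
    have h1 : φ (φ (φ ((t : Fx φ 3) : K))) = (t : Fx φ 3) := mem_Fx.1 (t : Fx φ 3).2
    show φ _ = _
    rw [map_mul, map_mul, h1]
    ring⟩ (by
    intro h0
    have h1 : ((t : Fx φ 3) : K) ≠ 0 := fun h => t.ne_zero (Subtype.ext h)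
    have h2 := congrArg (Subtype.val) h0
    have h3 : ((t : Fx φ 3) : K) * φ ((t : Fx φ 3) : K) * φ (φ ((t : Fx φ 3) : K)) = 0 := h2
    have h4 : φ ((t : Fx φ 3) : K) ≠ 0 := (map_ne_zero φ).2 h1
    exact mul_ne_zero (mul_ne_zero h1 h4) ((map_ne_zero φ).2 h4) h3)

theorem coe_nrm (t : (Fx φ 3)ˣ) : (((nrm φ t : (Fx φ 1)ˣ) : Fx φ 1) : K) =
    ((t : Fx φ 3) : K) * φ ((t : Fx φ 3) : K) * φ (φ ((t : Fx φ 3) : K)) := rfl

/-- conjugation by `h_i(t)` -/
theorem cj (i : Fin 4) {r s : ℕ} (hs : chevD4.simple (i : ℕ) = s) (hr : r < 24) {t : K} (ht : t ≠ 0) {e : ℤ}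
    (he : chevD4.cartan (i : ℕ) r = e) (u : K) :
    hG hp.inList s t * xG hp.inList r u = xG hp.inList r (t ^ e * u) * hG hp.inList s t := by
  have h1 := Cfsg.Agent.OddHalf.LongSL.Chev.conj_hG hp K i (s := r) (by rw [nr]; exact hr) t ht u
  rw [hs, he] at h1
  exact mul_inv_eq_iff_eq_mul.1 h1

/-- conjugation of a product of three root elements -/
theorem mul3 {Γ : Type*} [Group Γ] {g a b c a' b' c' : Γ} (h1 : g * a = a' * g) (h2 : g * b = b' * g)
    (h3 : g * c = c' * g) : g * (a * (b * c)) = a' * (b' * c') * g := by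
  rw [← mul_assoc, h1, mul_assoc, ← mul_assoc g, h2, mul_assoc b', h3]
  simp only [mul_assoc]

/-- conjugation by a product of three elements -/
theorem mul3' {Γ : Type*} [Group Γ] {g g' g'' a b c d : Γ} (h1 : g * c = d * g) (h2 : g' * b = c * g')
    (h3 : g'' * a = b * g'') : g * (g' * g'') * a = d * (g * (g' * g'')) := by
  calc g * (g' * g'') * a = g * (g' * (g'' * a)) := by simp only [mul_assoc]
    _ = g * (g' * b * g'') := by rw [h3]; simp only [mul_assoc]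
    _ = g * c * g' * g'' := by rw [h2]; simp only [mul_assoc]
    _ = _ := by rw [h1]; simp only [mul_assoc]

variable (hK : Fintype.card K = q ^ 3) (hφ : ∀ x, φ x = x ^ q)
include hK hφ

theorem FG : FoldGrp hp K J _root_.Cfsg.Agent.Nodes.RGDTwD4.L (sig φ) rho (fun r => rho (rho r)) (ff φ) (twistedD4 K q) :=
  foldGrp hφ (D4Fixed.twisted_le_fix hK hφ)

/-- the long node -/
noncomputable def sl : _root_.Matrix.SpecialLinearGroup (Fin 2) (Fx φ 1) →* ↥(twistedD4 K q) :=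
  Phi (r := 14) (o := []) (FG hK hφ) N0 hf0

/-- the short node -/
noncomputable def ss : _root_.Matrix.SpecialLinearGroup (Fin 2) (Fx φ 3) →* ↥(twistedD4 K q) :=
  Phi (r := 18) (o := [13, 12]) (FG hK hφ) N1 hf1

theorem coe_sl (g : _root_.Matrix.SpecialLinearGroup (Fin 2) (Fx φ 1)) : ((sl hK hφ g : ↥(twistedD4 K q)) : GL chevD4.Idx K) =
    _root_.Cfsg.Agent.Nodes.RGDFoldSL.psi hp.inList K 14 (SpecialLinearGroup.map (Fx φ 1).subtype g) * 1 := rfl

theorem coe_ss (g : _root_.Matrix.SpecialLinearGroup (Fin 2) (Fx φ 3)) : ((ss hK hφ g : ↥(twistedD4 K q)) : GL chevD4.Idx K) =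
    _root_.Cfsg.Agent.Nodes.RGDFoldSL.psi hp.inList K 18 (SpecialLinearGroup.map (Fx φ 3).subtype g) *
      (_root_.Cfsg.Agent.Nodes.RGDFoldSL.psi hp.inList K 13 (SpecialLinearGroup.map φ (SpecialLinearGroup.map (Fx φ 3).subtype g)) *
        (_root_.Cfsg.Agent.Nodes.RGDFoldSL.psi hp.inList K 12 (SpecialLinearGroup.map φ (SpecialLinearGroup.map φ
          (SpecialLinearGroup.map (Fx φ 3).subtype g))) * 1)) := rfl

theorem coe_sl_U (t : Fx φ 1) : ((sl hK hφ (U t) : ↥(twistedD4 K q)) : GL chevD4.Idx K) =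
    xG hp.inList 14 (t : K) := by
  rw [coe_sl, U_eq_up, map_up, psi_up hp.inList (by rw [nr]; norm_num), mul_one]
  rfl

theorem coe_sl_Lo (t : Fx φ 1) : ((sl hK hφ (Lo t) : ↥(twistedD4 K q)) : GL chevD4.Idx K) =
    xG hp.inList 9 (t : K) := by
  rw [coe_sl, Lo_eq_lo, map_lo, psi_lo hp.inList (by rw [nr]; norm_num), mul_one, simp_tab.2.2.2.2.1]
  rfl

theorem coe_sl_hh (t : (Fx φ 1)ˣ) : ((sl hK hφ (hh t) : ↥(twistedD4 K q)) : GL chevD4.Idx K) =
    hG hp.inList 14 ((t : Fx φ 1) : K) := by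
  rw [coe_sl, hh_eq_hS, map_hS, psi_hS hp.inList (by rw [nr]; norm_num), mul_one]
  rfl

theorem coe_ss_U (t : Fx φ 3) : ((ss hK hφ (U t) : ↥(twistedD4 K q)) : GL chevD4.Idx K) =
    xG hp.inList 18 (t : K) * (xG hp.inList 13 (φ (t : K)) * xG hp.inList 12 (φ (φ (t : K)))) := by
  rw [coe_ss, U_eq_up, map_up, map_up, map_up, psi_up hp.inList (by rw [nr]; norm_num),
    psi_up hp.inList (by rw [nr]; norm_num), psi_up hp.inList (by rw [nr]; norm_num), mul_one]
  rfl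

theorem coe_ss_Lo (t : Fx φ 3) : ((ss hK hφ (Lo t) : ↥(twistedD4 K q)) : GL chevD4.Idx K) =
    xG hp.inList 5 (t : K) * (xG hp.inList 10 (φ (t : K)) * xG hp.inList 11 (φ (φ (t : K)))) := by
  rw [coe_ss, Lo_eq_lo, map_lo, map_lo, map_lo, psi_lo hp.inList (by rw [nr]; norm_num),
    psi_lo hp.inList (by rw [nr]; norm_num), psi_lo hp.inList (by rw [nr]; norm_num), mul_one,
    simp_tab.2.2.2.2.2.1, simp_tab.2.2.2.2.2.2.1, simp_tab.2.2.2.2.2.2.2]
  rfl

theorem coe_ss_hh (t : (Fx φ 3)ˣ) : ((ss hK hφ (hh t) : ↥(twistedD4 K q)) : GL chevD4.Idx K) =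
    hG hp.inList 18 ((t : Fx φ 3) : K) * (hG hp.inList 13 (φ ((t : Fx φ 3) : K)) *
      hG hp.inList 12 (φ (φ ((t : Fx φ 3) : K)))) := by
  rw [coe_ss, hh_eq_hS, map_hS, map_hS, map_hS, psi_hS hp.inList (by rw [nr]; norm_num),
    psi_hS hp.inList (by rw [nr]; norm_num), psi_hS hp.inList (by rw [nr]; norm_num), mul_one]
  rfl

theorem two : Two (ss hK hφ) (sl hK hφ) (incl φ) (nrm φ) (1 + q + q ^ 2) where
  sU := by
    intro t u
    have ht : ((t : Fx φ 1) : K) ≠ 0 := fun h => t.ne_zero (Subtype.ext h)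
    have hφt : φ ((t : Fx φ 1) : K) = (t : Fx φ 1) := mem_Fx.1 (t : Fx φ 1).2
    apply Subtype.ext
    rw [Subgroup.coe_mul, Subgroup.coe_mul, coe_sl_hh, coe_ss_U, coe_ss_U]
    refine (mul3 (cj 1 simp_tab.2.1 (by norm_num) ht cart_tab.1.1 _) (cj 1 simp_tab.2.1 (by norm_num) ht cart_tab.1.2.1 _)
      (cj 1 simp_tab.2.1 (by norm_num) ht cart_tab.1.2.2 _)).trans ?_
    have e1 : (((incl φ (t : Fx φ 1))⁻¹ * u : Fx φ 3) : K) = ((t : Fx φ 1) : K) ^ (-1 : ℤ) * (u : K) := by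
      rw [zpow_neg_one]; rfl
    rw [e1, map_mul, map_mul, map_zpow₀, map_zpow₀, hφt, hφt]
  sL := by
    intro t u
    have ht : ((t : Fx φ 1) : K) ≠ 0 := fun h => t.ne_zero (Subtype.ext h)
    have hφt : φ ((t : Fx φ 1) : K) = (t : Fx φ 1) := mem_Fx.1 (t : Fx φ 1).2
    apply Subtype.ext
    rw [Subgroup.coe_mul, Subgroup.coe_mul, coe_sl_hh, coe_ss_Lo, coe_ss_Lo]
    refine (mul3 (cj 1 simp_tab.2.1 (by norm_num) ht cart_tab.2.1.1 _)
      (cj 1 simp_tab.2.1 (by norm_num) ht cart_tab.2.1.2.1 _)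
      (cj 1 simp_tab.2.1 (by norm_num) ht cart_tab.2.1.2.2 _)).trans ?_
    have e1 : ((incl φ (t : Fx φ 1) * u : Fx φ 3) : K) = ((t : Fx φ 1) : K) ^ (1 : ℤ) * (u : K) := by
      rw [zpow_one]; rfl
    rw [e1, map_mul, map_mul, map_zpow₀, map_zpow₀, hφt, hφt]
  lU := by
    intro t u
    have ht : ((t : Fx φ 3) : K) ≠ 0 := fun h => t.ne_zero (Subtype.ext h)
    apply Subtype.ext
    rw [Subgroup.coe_mul, Subgroup.coe_mul, coe_ss_hh, coe_sl_U, coe_sl_U]
    refine (mul3' (cj 0 simp_tab.1 (by norm_num) ht cart_tab.2.2.1.1 _)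
      (cj 2 simp_tab.2.2.1 (by norm_num) ((map_ne_zero φ).2 ht) cart_tab.2.2.1.2.1 _)
      (cj 3 simp_tab.2.2.2.1 (by norm_num) ((map_ne_zero φ).2 ((map_ne_zero φ).2 ht)) cart_tab.2.2.1.2.2 _)).trans ?_
    have e1 : ((((nrm φ t : (Fx φ 1)ˣ) : Fx φ 1)⁻¹ * u : Fx φ 1) : K) =
        (((t : Fx φ 3) : K) * φ ((t : Fx φ 3) : K) * φ (φ ((t : Fx φ 3) : K)))⁻¹ * (u : K) := rfl
    rw [e1]
    congr 2
    rw [zpow_neg_one, zpow_neg_one, zpow_neg_one, mul_inv, mul_inv]
    ring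
  lL := by
    intro t u
    have ht : ((t : Fx φ 3) : K) ≠ 0 := fun h => t.ne_zero (Subtype.ext h)
    apply Subtype.ext
    rw [Subgroup.coe_mul, Subgroup.coe_mul, coe_ss_hh, coe_sl_Lo, coe_sl_Lo]
    refine (mul3' (cj 0 simp_tab.1 (by norm_num) ht cart_tab.2.2.2.1 _)
      (cj 2 simp_tab.2.2.1 (by norm_num) ((map_ne_zero φ).2 ht) cart_tab.2.2.2.2.1 _)
      (cj 3 simp_tab.2.2.2.1 (by norm_num) ((map_ne_zero φ).2 ((map_ne_zero φ).2 ht)) cart_tab.2.2.2.2.2 _)).trans ?_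
    have e1 : ((((nrm φ t : (Fx φ 1)ˣ) : Fx φ 1) * u : Fx φ 1) : K) =
        (((t : Fx φ 3) : K) * φ ((t : Fx φ 3) : K) * φ (φ ((t : Fx φ 3) : K))) * (u : K) := rfl
    rw [e1]
    congr 2
    rw [zpow_one, zpow_one, zpow_one]
    ring
  nm := by
    intro t
    apply Subtype.ext
    rw [coe_incl, coe_nrm, hφ (φ _), hφ, ← pow_mul]
    show _ = (((t : Fx φ 3) : K)) ^ (1 + q + q ^ 2)
    ring

variable {W : Type*} [Group W] (cs : CoxeterSystem CoxeterMatrix.G₂ W) (p : ℕ) [Fact p.Prime] [CharP K p]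

theorem rp_ss : Rp cs (Nodes.RGDTwD4.rgd cs hK hφ p).nsys (cs.simple 1) (ss hK hφ ww) := by
  have h1 : ss hK hφ ww = Nodes.RGDTwD4.n hφ 1 := by
    rw [ww_eq_wS]
    exact Phi_wS (FG hK hφ) N1 hf1
  rw [h1]
  exact rp_simple cs (Nodes.RGDTwD4.rgd cs hK hφ p).nsys 1

theorem rp_sl : Rp cs (Nodes.RGDTwD4.rgd cs hK hφ p).nsys (cs.simple 0) (sl hK hφ ww) := by
  have h1 : sl hK hφ ww = Nodes.RGDTwD4.n hφ 0 := by
    rw [ww_eq_wS]
    exact Phi_wS (FG hK hφ) N0 hf0
  rw [h1]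
  exact rp_simple cs (Nodes.RGDTwD4.rgd cs hK hφ p).nsys 0

include cs p in
theorem nd_ss : Nd (Nodes.RGDTwD4.T K q) (Nodes.RGDTwD4.X φ q) 1 (ss hK hφ) := by
  refine nd_of (Nodes.RGDTwD4.rgd cs hK hφ p) (fun x => ?_) (rp_ss hK hφ cs p) (fun s => ?_)
  · refine (mem_X_iff (FG hK hφ) N1 hf1 x).trans ⟨?_, ?_⟩
    · rintro ⟨a, rfl⟩
      exact ⟨a, rfl⟩
    · rintro ⟨a, rfl⟩
      exact ⟨a, rfl⟩
  · rw [hh_eq_hS]
    exact Phi_hS (FG hK hφ) N1 hf1 s.ne_zero

include cs p in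
theorem nd_sl : Nd (Nodes.RGDTwD4.T K q) (Nodes.RGDTwD4.X φ q) 0 (sl hK hφ) := by
  refine nd_of (Nodes.RGDTwD4.rgd cs hK hφ p) (fun x => ?_) (rp_sl hK hφ cs p) (fun s => ?_)
  · refine (mem_X_iff (FG hK hφ) N0 hf0 x).trans ⟨?_, ?_⟩
    · rintro ⟨a, rfl⟩
      exact ⟨a, rfl⟩
    · rintro ⟨a, rfl⟩
      exact ⟨a, rfl⟩
  · rw [hh_eq_hS]
    exact Phi_hS (FG hK hφ) N0 hf0 s.ne_zero

/-- **the rank one groups of `³D₄(q)`** -/
theorem hx_d4 : Hx (Nodes.RGDTwD4.rgd cs hK hφ p) 1 0 (ss hK hφ) (sl hK hφ) (incl φ) (nrm φ) (1 + q + q ^ 2) where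
  ne := by decide
  Asl := rfl
  Als := rfl
  Ns := nd_ss hK hφ cs p
  Nl := nd_sl hK hφ cs p
  two := two hK hφ
  ws := rp_ss hK hφ cs p
  wl := rp_sl hK hφ cs p

end Cfsg.Agent.H744.Ppd.D4
end

-- part: H744/Ppd/D4Wt
section
/-!
# The adjoint module of `³D₄(q)`: twenty-four weights (helper744)

`|K| = q³`, `|E| = q`, `v₀ ∈ V^U` of weight `(0, 1)`: the six extremal vectors are linearly independent and there are 18
further weights `±(f - 2 qⁱ, 0), ±(2 qⁱ - f, 1), ±(2 qⁱ, -1)`, `f = 1 + q + q²`, `i = 0, 1, 2`.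
-/

set_option autoImplicit false
set_option linter.unusedSectionVars false
set_option linter.style.haveILetI false

namespace Cfsg.Agent.H744.Ppd

open Matrix (SpecialLinearGroup)
open Cfsg.Agent.H911.SLTwo Cfsg.Agent.H875.Fn
open CoxeterSystem Cfsg.Agent.ChevalleyStructure.CoxeterGeom Cfsg.Agent.Tits.Roots Cfsg.Agent.Tits.Core
  Cfsg.Agent.Tits.Exchange Cfsg.Agent.Nodes.Reps Cfsg.Agent.Nodes.BNOf Cfsg.Agent.Nodes.StabComb
  Cfsg.Agent.Nodes.Bruhat Cfsg.Agent.Nodes.OppDec Cfsg.Agent.Nodes.LeviDec Cfsg.Agent.KFacts.RgdOpp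
  Cfsg.Agent.Omega.CR Cfsg.Agent.Omega.FOne.Lift.Sd Cfsg.Agent.H905.Md Cfsg.Agent.H650.Ppd

/-! ### the weights -/

section dist

/-- the weight `(x + y q + z q², w)` -/
def ev3 (q : ℤ) (x : ℤ × ℤ × ℤ × ℤ) : ℤ × ℤ := (x.1 + x.2.1 * q + x.2.2.1 * q ^ 2, x.2.2.2)

/-- the eighteen weights -/
def S18 : Finset (ℤ × ℤ × ℤ × ℤ) :=
  {(-1, 1, 1, 0), (1, -1, -1, 1), (2, 0, 0, -1), (-2, 0, 0, 1), (-1, 1, 1, -1), (1, -1, -1, 0),
    (1, -1, 1, 0), (-1, 1, -1, 1), (0, 2, 0, -1), (0, -2, 0, 1), (1, -1, 1, -1), (-1, 1, -1, 0),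
    (1, 1, -1, 0), (-1, -1, 1, 1), (0, 0, 2, -1), (0, 0, -2, 1), (1, 1, -1, -1), (-1, -1, 1, 0)}

/-- the weights of the extremal vectors -/
def six : Fin 6 → ℤ × ℤ × ℤ × ℤ :=
  ![(0, 0, 0, 1), (1, 1, 1, -1), (-1, -1, -1, 2), (1, 1, 1, -2), (-1, -1, -1, 1), (0, 0, 0, -1)]

/-- equality of weights -/
def Eq3 (q : ℤ) (x y : ℤ × ℤ × ℤ × ℤ) : Prop :=
  q ^ 3 - 1 ∣ (x.1 - y.1) + (x.2.1 - y.2.1) * q + (x.2.2.1 - y.2.2.1) * q ^ 2 ∧ q - 1 ∣ x.2.2.2 - y.2.2.2

instance decEq3 (q : ℤ) (x y : ℤ × ℤ × ℤ × ℤ) : Decidable (Eq3 q x y) := by unfold Eq3; infer_instance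

theorem small3 {q u v w : ℤ} (hu : |u| ≤ q - 2) (hv : |v| ≤ q - 2) (hw : |w| ≤ q - 2)
    (h : q ^ 3 - 1 ∣ u + v * q + w * q ^ 2) : u = 0 ∧ v = 0 ∧ w = 0 := by
  rw [abs_le] at hu hv hw
  have hq : 2 ≤ q := by omega
  have hq2 : 0 < q ^ 2 := by positivity
  have a1 : v * q ≤ (q - 2) * q := mul_le_mul_of_nonneg_right hv.2 (by omega)
  have a2 : -(q - 2) * q ≤ v * q := mul_le_mul_of_nonneg_right hv.1 (by omega)
  have a3 : w * q ^ 2 ≤ (q - 2) * q ^ 2 := mul_le_mul_of_nonneg_right hw.2 hq2.le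
  have a4 : -(q - 2) * q ^ 2 ≤ w * q ^ 2 := mul_le_mul_of_nonneg_right hw.1 hq2.le
  have h1 : u + v * q + w * q ^ 2 = 0 := by
    by_contra hne
    have h2 := Int.le_of_dvd (abs_pos.2 hne) ((dvd_abs _ _).2 h)
    rcases abs_cases (u + v * q + w * q ^ 2) with ⟨h3, -⟩ | ⟨h3, -⟩
    · rw [h3] at h2
      linarith only [hu, a1, a2, a3, h2]
    · rw [h3] at h2
      linarith only [hu, a1, a2, a4, h2]
  have h2 : w = 0 := by
    by_contra hne
    rcases lt_or_gt_of_ne hne with h3 | h3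
    · have : w * q ^ 2 ≤ -1 * q ^ 2 := mul_le_mul_of_nonneg_right (by omega) hq2.le
      linarith only [hu, hw, a1, h1, h3, this]
    · have : 1 * q ^ 2 ≤ w * q ^ 2 := mul_le_mul_of_nonneg_right (by omega) hq2.le
      linarith only [hu, hw, a2, h1, h3, this]
  rw [h2, zero_mul, add_zero] at h1
  have h4 : v = 0 := by
    by_contra hne
    rcases lt_or_gt_of_ne hne with h3 | h3
    · nlinarith only [hu, h1, h3]
    · nlinarith only [hu, h1, h3]
  rw [h4, zero_mul, add_zero] at h1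
  exact ⟨h1, h4, h2⟩

theorem eq_of_eq3 {q : ℤ} (hq : 6 ≤ q) {x y : ℤ × ℤ × ℤ × ℤ} (h1 : |x.1 - y.1| ≤ 4) (h2 : |x.2.1 - y.2.1| ≤ 4)
    (h3 : |x.2.2.1 - y.2.2.1| ≤ 4) (h4 : |x.2.2.2 - y.2.2.2| ≤ 4) (h : Eq3 q x y) : x = y := by
  obtain ⟨a, b, c⟩ := small3 (by omega) (by omega) (by omega) h.1
  have d : x.2.2.2 - y.2.2.2 = 0 := by
    by_contra hne
    have h5 := Int.le_of_dvd (abs_pos.2 hne) ((dvd_abs _ _).2 h.2)
    omega
  exact Prod.ext (by omega) (Prod.ext (by omega) (Prod.ext (by omega) (by omega)))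

theorem dist18 {q : ℕ} (hq : 3 ≤ q) : ∀ x ∈ S18, ∀ y ∈ S18, Eq3 q x y → x = y := by
  rcases Nat.lt_or_ge q 6 with h | h
  · interval_cases q <;> decide +kernel
  · have h1 : ∀ x ∈ S18, ∀ y ∈ S18, |x.1 - y.1| ≤ 4 ∧ |x.2.1 - y.2.1| ≤ 4 ∧ |x.2.2.1 - y.2.2.1| ≤ 4 ∧
        |x.2.2.2 - y.2.2.2| ≤ 4 := by decide +kernel
    intro x hx y hy hxy
    obtain ⟨a, b, c, d⟩ := h1 x hx y hy
    exact eq_of_eq3 (by exact_mod_cast h) a b c d hxy

theorem dist6 {q : ℕ} (hq : 3 ≤ q) : ∀ i, ∀ y ∈ S18, ¬ Eq3 q (six i) y := by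
  rcases Nat.lt_or_ge q 6 with h | h
  · interval_cases q <;> decide +kernel
  · have h1 : ∀ i, ∀ y ∈ S18, |(six i).1 - y.1| ≤ 4 ∧ |(six i).2.1 - y.2.1| ≤ 4 ∧ |(six i).2.2.1 - y.2.2.1| ≤ 4 ∧
        |(six i).2.2.2 - y.2.2.2| ≤ 4 ∧ six i ≠ y := by decide +kernel
    intro i y hy hxy
    obtain ⟨a, b, c, d, e⟩ := h1 i y hy
    exact e (eq_of_eq3 (by exact_mod_cast h) a b c d hxy)

theorem card18 : S18.card = 18 := by decide +kernel

end dist

section

variable {W Y : Type*} [Group W] [Group Y] {cs : CoxeterSystem CoxeterMatrix.G₂ W} {A : Fin 2 → Fin 2 → ℤ}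
  {h : IsCartan CoxeterMatrix.G₂ A} {p : ℕ} {T : Subgroup Y} {n : Fin 2 → Y} {X : (Fin 2 → ℤ) → Subgroup Y}
  {K E : Type*} [Field K] [Field E] [Fintype K] [Fintype E] {k V : Type*} [Field k] [AddCommGroup V] [Module k V]
  {R : RGD cs h p T n X} {s l : Fin 2} {ss : _root_.Matrix.SpecialLinearGroup (Fin 2) K →* Y}
  {sl : _root_.Matrix.SpecialLinearGroup (Fin 2) E →* Y} {ε : E →+* K} {N : Kˣ → Eˣ} {q : ℕ} {ρ : Y →* Module.End k V}

theorem Occ.of_eq {ι : K →+* k} {a b a' b' : ℤ} (h : Occ ρ ss sl ε ι a b) (ha : a' = a) (hb : b' = b) :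
    Occ ρ ss sl ε ι a' b' := by rw [ha, hb]; exact h

/-- six weights from one -/
theorem six_of_one {ι : K →+* k} (H : Two ss sl ε N (1 + q + q ^ 2)) (hq : 1 ≤ q) (hE : Fintype.card E = q) {m : ℤ}
    (hm : (q : ℤ) - 1 ∣ m - 1) {A : ℤ} (hA : A = 1 + q + q ^ 2 - 2 * m) (h : Occ ρ ss sl ε ι A (-1 + m)) :
    Occ ρ ss sl ε ι A 0 ∧ Occ ρ ss sl ε ι (-A) 1 ∧ Occ ρ ss sl ε ι (2 * m) (-1) ∧ Occ ρ ss sl ε ι (-(2 * m)) 1 ∧
      Occ ρ ss sl ε ι A (-1) ∧ Occ ρ ss sl ε ι (-A) 0 := by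
  have hE' : ((Fintype.card E - 1 : ℕ) : ℤ) = (q : ℤ) - 1 := by
    rw [hE, Nat.cast_sub hq]; rfl
  obtain ⟨x, hx⟩ := hm
  have hf : ((1 + q + q ^ 2 : ℕ) : ℤ) = 1 + q + q ^ 2 := by push_cast; ring
  have o1 : Occ ρ ss sl ε ι A 0 := h.congr (by rw [sub_self]; exact dvd_zero _) (by
    rw [hE']; exact ⟨-x, by linear_combination -hx⟩)
  have o2 : Occ ρ ss sl ε ι (-A) 1 := (o1.refl_s H).congr (by rw [sub_self]; exact dvd_zero _) (by
    rw [hE', hA]; exact ⟨2 * x - (q + 2), by linear_combination 2 * hx⟩)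
  have o3 : Occ ρ ss sl ε ι (2 * m) (-1) := by
    have := o2.refl_l H
    rw [hf] at this
    convert this using 1
    rw [hA]; ring
  have o4 : Occ ρ ss sl ε ι (-(2 * m)) 1 := (o3.refl_s H).congr (by rw [sub_self]; exact dvd_zero _) (by
    rw [hE']; exact ⟨-(2 * x), by linear_combination -2 * hx⟩)
  have o5 : Occ ρ ss sl ε ι A (-1) := by
    have := o4.refl_l H
    rw [hf] at this
    convert this using 1
    rw [hA]; ring
  have o6 : Occ ρ ss sl ε ι (-A) 0 := (o5.refl_s H).congr (by rw [sub_self]; exact dvd_zero _) (by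
    rw [hE', hA]; exact ⟨2 * x - (q + 2), by linear_combination 2 * hx⟩)
  exact ⟨o1, o2, o3, o4, o5, o6⟩

/-- the weights of the extremal vectors -/
theorem six_vec {ι : K →+* k} (H : Two ss sl ε N (1 + q + q ^ 2)) (hq : 1 ≤ q) (hE : Fintype.card E = q) {v₀ : V}
    (h : IsOcc ρ ss sl ε ι v₀ 0 1) (i : Fin 6) : IsOcc ρ ss sl ε ι (ρ ((![1, sl ww, ss ww * sl ww,
      sl ww * (ss ww * sl ww), ss ww * (sl ww * (ss ww * sl ww)),
      sl ww * (ss ww * (sl ww * (ss ww * sl ww)))] : Fin 6 → Y) i) v₀) (ev3 q (six i)).1 (ev3 q (six i)).2 := by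
  have hE' : ((Fintype.card E - 1 : ℕ) : ℤ) = (q : ℤ) - 1 := by
    rw [hE, Nat.cast_sub hq]; rfl
  have hf : ((1 + q + q ^ 2 : ℕ) : ℤ) = 1 + q + q ^ 2 := by push_cast; ring
  set f : ℤ := 1 + q + q ^ 2 with hfdef
  have o1 : IsOcc ρ ss sl ε ι (ρ (sl ww) v₀) f (-1) := by
    have := h.refl_l H
    rw [hf] at this
    convert this using 1
    ring
  have o2 : IsOcc ρ ss sl ε ι (ρ (ss ww) (ρ (sl ww) v₀)) (-f) 2 :=
    (o1.refl_s H).congr (by rw [sub_self]; exact dvd_zero _) (by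
      rw [hE']; exact ⟨-(q + 2), by rw [hfdef]; ring⟩)
  have o3 : IsOcc ρ ss sl ε ι (ρ (sl ww) (ρ (ss ww) (ρ (sl ww) v₀))) f (-2) := by
    have := o2.refl_l H
    rw [hf] at this
    convert this using 1
    ring
  have o4 : IsOcc ρ ss sl ε ι (ρ (ss ww) (ρ (sl ww) (ρ (ss ww) (ρ (sl ww) v₀)))) (-f) 1 :=
    (o3.refl_s H).congr (by rw [sub_self]; exact dvd_zero _) (by
      rw [hE']; exact ⟨-(q + 2), by rw [hfdef]; ring⟩)
  have o5 : IsOcc ρ ss sl ε ι (ρ (sl ww) (ρ (ss ww) (ρ (sl ww) (ρ (ss ww) (ρ (sl ww) v₀))))) 0 (-1) := by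
    have := o4.refl_l H
    rw [hf] at this
    convert this using 1
    ring
  fin_cases i
  · have e : ev3 (q : ℤ) (six 0) = (0, 1) := by
      show ((0 : ℤ) + 0 * q + 0 * q ^ 2, (1 : ℤ)) = _
      congr 1
      ring
    rw [show (⟨0, by norm_num⟩ : Fin 6) = 0 from rfl, e]
    show IsOcc ρ ss sl ε ι (ρ 1 v₀) _ _
    rw [map_one]
    exact h
  · have e : ev3 (q : ℤ) (six 1) = (f, -1) := by
      simp only [ev3, six, Matrix.cons_val_one, Matrix.cons_val_zero, Fin.isValue, Prod.mk.injEq, and_true, hfdef]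
      ring
    rw [show (⟨1, by norm_num⟩ : Fin 6) = 1 from rfl, e]
    exact o1
  · have e : ev3 (q : ℤ) (six 2) = (-f, 2) := by
      show ((-1 : ℤ) + -1 * q + -1 * q ^ 2, (2 : ℤ)) = _
      rw [hfdef]
      congr 1
      ring
    rw [show (⟨2, by norm_num⟩ : Fin 6) = 2 from rfl, e]
    show IsOcc ρ ss sl ε ι (ρ (ss ww * sl ww) v₀) _ _
    rw [map_mul]
    exact o2
  · have e : ev3 (q : ℤ) (six 3) = (f, -2) := by
      show ((1 : ℤ) + 1 * q + 1 * q ^ 2, (-2 : ℤ)) = _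
      rw [hfdef]
      congr 1
      ring
    rw [show (⟨3, by norm_num⟩ : Fin 6) = 3 from rfl, e]
    show IsOcc ρ ss sl ε ι (ρ (sl ww * (ss ww * sl ww)) v₀) _ _
    rw [map_mul, map_mul]
    exact o3
  · have e : ev3 (q : ℤ) (six 4) = (-f, 1) := by
      show ((-1 : ℤ) + -1 * q + -1 * q ^ 2, (1 : ℤ)) = _
      rw [hfdef]
      congr 1
      ring
    rw [show (⟨4, by norm_num⟩ : Fin 6) = 4 from rfl, e]
    show IsOcc ρ ss sl ε ι (ρ (ss ww * (sl ww * (ss ww * sl ww))) v₀) _ _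
    rw [map_mul, map_mul, map_mul]
    exact o4
  · have e : ev3 (q : ℤ) (six 5) = (0, -1) := by
      show ((0 : ℤ) + 0 * q + 0 * q ^ 2, (-1 : ℤ)) = _
      congr 1
      ring
    rw [show (⟨5, by norm_num⟩ : Fin 6) = 5 from rfl, e]
    show IsOcc ρ ss sl ε ι (ρ (sl ww * (ss ww * (sl ww * (ss ww * sl ww)))) v₀) _ _
    rw [map_mul, map_mul, map_mul, map_mul]
    exact o5

variable [Finite Y] [Finite W] [hp : Fact p.Prime] [CharP k p] [FiniteDimensional k V] [Nontrivial V] {a : ℕ}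

/-- **the long node of `³D₄(q)`** -/
theorem long24_d4 (H : Hx R s l ss sl ε N (1 + p ^ a + (p ^ a) ^ 2))
    (hirr : ∀ L : Submodule k V, Ivt ρ (GG cs h T X) L → L = ⊥ ∨ L = ⊤)
    {v₀ : V} (hv₀ : v₀ ∈ D cs h X ρ) {φ₀ : Module.Dual k V} (hφ₀ : φ₀ ∈ fx (dualRep ρ) (UN cs h X)) (hne : φ₀ v₀ ≠ 0)
    (ι : K →+* k) (ha : a ≠ 0) (hK : Fintype.card K = (p ^ a) ^ 3) (hE : Fintype.card E = p ^ a) (hq : 3 ≤ p ^ a)
    (hs : s ∈ Jx cs h X ρ) (hl : l ∉ Jx cs h X ρ)
    (htor : ∀ t : Eˣ, ρ (sl (hh t)) v₀ = ι (ε (t : E)) • v₀) : 24 ≤ Module.finrank k V := by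
  set q : ℕ := p ^ a with hqdef
  have hq1 : 1 ≤ q := by omega
  have hq2 : 1 ≤ q ^ 2 := Nat.one_le_pow _ _ (by omega)
  have hq3 : 1 ≤ q ^ 3 := Nat.one_le_pow _ _ (by omega)
  have hcK : 1 + q + q ^ 2 ≤ Fintype.card K - 1 := by
    rw [hK]
    have h1 : 3 * q ^ 2 ≤ q ^ 3 := by rw [pow_succ q 2, mul_comm]; exact Nat.mul_le_mul_left _ hq
    have h2 : 3 * q ≤ q ^ 2 := by rw [pow_two]; exact Nat.mul_le_mul_right _ hq
    omega
  have hN : ((Fintype.card K - 1 : ℕ) : ℤ) = (q : ℤ) ^ 3 - 1 := by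
    rw [hK, Nat.cast_sub hq3]
    push_cast
    ring
  have hM : ((Fintype.card E - 1 : ℕ) : ℤ) = (q : ℤ) - 1 := by
    rw [hE, Nat.cast_sub hq1]; rfl
  have hf : ((1 + q + q ^ 2 : ℕ) : ℤ) = 1 + q + q ^ 2 := by push_cast; ring
  have h1 : IsOcc ρ ss sl ε ι v₀ 0 1 :=
    ⟨fun t => by rw [fix_J H.Ns hs hv₀, zpow_zero, one_smul], fun t => by rw [htor, zpow_one]⟩
  have h2 := h1.refl_l H.two
  rw [hf, mul_one, zero_add] at h2
  have S2 := H.str_sl hirr hv₀ hφ₀ hne hl ι (c := 1 + q + q ^ 2) (by omega) hcK (fun t => by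
    rw [h2.1 t]
    congr 1
    rw [← zpow_natCast, hf])
  -- the three weights
  have hpq : p ∣ q := dvd_pow_self p ha
  have hp1 : ¬ p ∣ 1 := fun h => hp.out.one_lt.ne' (Nat.dvd_one.1 h)
  have m0 : 1 ∈ SS p (1 + q + q ^ 2) := by
    refine one_mem_SS p fun h => hp1 ?_
    have h3 := (Nat.dvd_add_left (hpq.trans (dvd_pow_self q two_ne_zero))).1 h
    exact (Nat.dvd_add_left hpq).1 h3
  have m1 : q ∈ SS p (1 + q + q ^ 2) := by
    rw [add_assoc, hqdef, mem_SS_add (t := a) (r₁ := 1) (by rw [← hqdef]; omega)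
      (Dvd.dvd.mul_left (dvd_refl _) 1 |>.trans (by
        rw [one_mul]
        exact Dvd.intro (1 + p ^ a) (by ring))), Nat.mod_self]
    refine ⟨zero_mem_SS 1, ?_⟩
    have h3 := pow_mem_SS p (a := a) (c := 1 + p ^ a) (fun h => hp1 ((Nat.dvd_add_left hpq).1 h))
    rwa [mul_add, mul_one, ← pow_two] at h3
  have m2 : q ^ 2 ∈ SS p (1 + q + q ^ 2) := by
    have h4 : 1 + q < q ^ 2 := by
      have h2 : 3 * q ≤ q ^ 2 := by rw [pow_two]; exact Nat.mul_le_mul_right _ hq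
      omega
    have h3 : q ^ 2 = p ^ (a * 2) := by rw [hqdef, ← pow_mul]
    rw [h3] at h4 ⊢
    rw [mem_SS_add h4 (dvd_refl _), Nat.mod_self]
    exact ⟨zero_mem_SS _, self_mem_SS _⟩
  have key : ∀ m : ℕ, m ∈ SS p (1 + q + q ^ 2) → m ≠ 0 → (q : ℤ) - 1 ∣ (m : ℤ) - 1 →
      ∀ A : ℤ, A = 1 + q + q ^ 2 - 2 * m → Occ ρ ss sl ε ι A 0 ∧ Occ ρ ss sl ε ι (-A) 1 ∧
        Occ ρ ss sl ε ι (2 * m) (-1) ∧ Occ ρ ss sl ε ι (-(2 * m)) 1 ∧
        Occ ρ ss sl ε ι A (-1) ∧ Occ ρ ss sl ε ι (-A) 0 := by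
    intro m hm hm0 hd A hA
    refine six_of_one H.two hq1 hE hd hA ?_
    have hle : m ≤ Fintype.card K - 1 := (mem_SS.1 hm).1.trans hcK
    refine ⟨_, S2.cf_ne p hm0 hm, ?_⟩
    have h5 := h2.str_s H.two ι 1 (fun x => (pow_one _).symm) hle
    convert h5 using 1
    · rw [hA]; push_cast; ring
    · push_cast; ring
  obtain ⟨a1, a2, a3, a4, a5, a6⟩ := key 1 m0 one_ne_zero (by simp) (-1 + 1 * q + 1 * q ^ 2) (by push_cast; ring)
  obtain ⟨b1, b2, b3, b4, b5, b6⟩ := key q m1 (by omega) (dvd_refl _) (1 + -1 * q + 1 * q ^ 2) (by ring)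
  obtain ⟨c1, c2, c3, c4, c5, c6⟩ := key (q ^ 2) m2 (by omega) (by
    push_cast
    exact ⟨q + 1, by ring⟩) (1 + 1 * q + -1 * q ^ 2) (by push_cast; ring)
  have h18 : ∀ x ∈ S18, Occ ρ ss sl ε ι (ev3 q x).1 (ev3 q x).2 := by
    intro x hx
    unfold S18 at hx
    simp only [Finset.mem_insert, Finset.mem_singleton] at hx
    rcases hx with rfl | rfl | rfl | rfl | rfl | rfl | rfl | rfl | rfl | rfl | rfl | rfl | rfl | rfl | rfl | rfl |
      rfl | rfl
    · exact a1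
    · exact a2.of_eq (by simp only [ev3]; ring) rfl
    · exact a3.of_eq (by simp only [ev3]; push_cast; ring) rfl
    · exact a4.of_eq (by simp only [ev3]; push_cast; ring) rfl
    · exact a5
    · exact a6.of_eq (by simp only [ev3]; ring) rfl
    · exact b1
    · exact b2.of_eq (by simp only [ev3]; ring) rfl
    · exact b3.of_eq (by simp only [ev3]; ring) rfl
    · exact b4.of_eq (by simp only [ev3]; ring) rfl
    · exact b5
    · exact b6.of_eq (by simp only [ev3]; ring) rfl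
    · exact c1
    · exact c2.of_eq (by simp only [ev3]; ring) rfl
    · exact c3.of_eq (by simp only [ev3]; push_cast; ring) rfl
    · exact c4.of_eq (by simp only [ev3]; push_cast; ring) rfl
    · exact c5
    · exact c6.of_eq (by simp only [ev3]; ring) rfl
  have e1 : ∀ x y : ℤ × ℤ × ℤ × ℤ, (x.1 - y.1) + (x.2.1 - y.2.1) * q + (x.2.2.1 - y.2.2.1) * q ^ 2 =
      (ev3 q x).1 - (ev3 q y).1 := fun x y => by
    show _ = x.1 + x.2.1 * q + x.2.2.1 * q ^ 2 - (y.1 + y.2.1 * q + y.2.2.1 * q ^ 2)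
    ring
  have hinj : Set.InjOn (ev3 (q : ℤ)) (S18 : Set (ℤ × ℤ × ℤ × ℤ)) := by
    intro x hx y hy hxy
    refine dist18 hq x hx y hy ⟨?_, ?_⟩
    · rw [e1, hxy, sub_self]; exact dvd_zero _
    · have h6 := congrArg Prod.snd hxy
      have h7 : x.2.2.2 = y.2.2.2 := h6
      rw [h7, sub_self]; exact dvd_zero _
  have hcount := count (ρ := ρ) (ss := ss) (sl := sl) (ε := ε) (ι := ι) (H.indep_six hirr hv₀ hφ₀ hne hl)
    (a := fun i => ev3 q (six i)) (fun i => six_vec H.two hq1 hE h1 i) (S18.image (ev3 q)) (by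
      intro y hy
      obtain ⟨x, hx, rfl⟩ := Finset.mem_image.1 hy
      exact h18 x hx) (by
      intro i y hy
      obtain ⟨x, hx, rfl⟩ := Finset.mem_image.1 hy
      rw [hN, hM, ← e1]
      exact dist6 hq i x hx) (by
      intro y hy z hz g1 g2
      obtain ⟨x, hx, rfl⟩ := Finset.mem_image.1 hy
      obtain ⟨x', hx', rfl⟩ := Finset.mem_image.1 hz
      rw [hN, ← e1] at g1
      rw [hM] at g2
      rw [dist18 hq x hx x' hx' ⟨g1, g2⟩])
  rw [Fintype.card_fin, Finset.card_image_of_injOn hinj, card18] at hcount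
  exact hcount

end

end Cfsg.Agent.H744.Ppd
end

private theorem dce_cdb05377af02 : _root_.True := by
  try have : _root_.True := by simp only [_root_.Cfsg.Agent.H744.Ppd.ev3.eq_1]
  try have : _root_.True := by simp only [_root_.Cfsg.Agent.H744.Ppd.six.eq_1]
  exact _root_.True.intro
end

-- part: H744/Ppd/G2Dim
section
set_option linter.all false
open scoped Cfsg.Agent.FastGrp

/-!
# Modules of `G₂(K)` in the defining characteristic: dimensions (helper744)

`φ : G₂(K) → GL(ι, F)` with absolutely irreducible image, `|K| = |F| ^ j`: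

* `ge_pow` : `6 * 2 ^ j ≤ |ι| + 6`;
* `ge_24` : `24 ≤ |ι|` for `j = 2`, `3 ≤ |F|`;
* **`not_g2`** : the row `G₂` of S5948 (task 2463).
-/

set_option autoImplicit false
set_option linter.unusedSectionVars false
set_option linter.style.haveILetI false

namespace Cfsg.Agent.H744.Ppd.G2

open Matrix (SpecialLinearGroup)
open Cfsg Cfsg.Geo
open Cfsg.Agent.H911 (lin)
open Cfsg.Agent.H911.SLTwo Cfsg.Agent.H875.Fn
open CoxeterSystem Cfsg.Agent.ChevalleyStructure.CoxeterGeom Cfsg.Agent.Tits.Roots Cfsg.Agent.Tits.Core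
  Cfsg.Agent.Tits.Exchange Cfsg.Agent.Nodes.Reps Cfsg.Agent.Nodes.BNOf Cfsg.Agent.Nodes.StabComb
  Cfsg.Agent.Nodes.Bruhat Cfsg.Agent.Nodes.OppDec Cfsg.Agent.Nodes.LeviDec Cfsg.Agent.KFacts.RgdOpp
  Cfsg.Agent.Omega.CR Cfsg.Agent.Omega.FOne.Lift.Sd Cfsg.Agent.H905.Md Cfsg.Agent.H650.Ppd
open Cfsg.Lie Cfsg.Agent.ChevalleyStructure Cfsg.Agent.ChevalleyStructure.CoxeterGeomTypes
  Cfsg.Agent.Nodes.RGDChev

universe u

section count

variable {W Y : Type*} [Group W] [Group Y] {cs : CoxeterSystem CoxeterMatrix.G₂ W} {p : ℕ} {T : Subgroup Y}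
  {n : Fin 2 → Y} {X : (Fin 2 → ℤ) → Subgroup Y} {k V : Type*} [Field k] [AddCommGroup V] [Module k V]
  (R : RGD cs ht.isCartan p T n X) [Finite Y] [Finite W] [Fact p.Prime] [CharP k p] {ρ : Y →* Module.End k V}
  [FiniteDimensional k V] [Nontrivial V]
  (hirr : ∀ L : Submodule k V, Ivt ρ (GG cs ht.isCartan T X) L → L = ⊥ ∨ L = ⊤)
include R hirr

theorem ge_one {i : Fin 2} (hi : i ∉ Jx cs ht.isCartan X ρ) :
    6 * Module.finrank k (D cs ht.isCartan X ρ) + 6 * Module.finrank k (Io cs ht.isCartan T X ρ i) ≤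
      Module.finrank k V := by
  fin_cases i
  · exact dim_ge_list R hirr hi [[], [0], [0, 1], [0, 1, 0], [0, 1, 0, 1], [0, 1, 0, 1, 0]]
      [[], [1], [1, 0], [1, 0, 1], [1, 0, 1, 0], [1, 0, 1, 0, 1]] (by decide +kernel) (by decide +kernel)
  · exact dim_ge_list R hirr hi [[], [1], [1, 0], [1, 0, 1], [1, 0, 1, 0], [1, 0, 1, 0, 1]]
      [[], [0], [0, 1], [0, 1, 0], [0, 1, 0, 1], [0, 1, 0, 1, 0]] (by decide +kernel) (by decide +kernel)

theorem ge_two (h0 : (0 : Fin 2) ∉ Jx cs ht.isCartan X ρ) (h1 : (1 : Fin 2) ∉ Jx cs ht.isCartan X ρ) :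
    12 * Module.finrank k (D cs ht.isCartan X ρ) + (6 * Module.finrank k (Io cs ht.isCartan T X ρ 0) +
      6 * Module.finrank k (Io cs ht.isCartan T X ρ 1)) ≤ Module.finrank k V := by
  exact dim_ge_list_two R hirr h0 h1 (by decide)
    [[], [0], [0, 1], [0, 1, 0], [0, 1, 0, 1], [0, 1, 0, 1, 0], [0, 1, 0, 1, 0, 1], [1], [1, 0], [1, 0, 1],
      [1, 0, 1, 0], [1, 0, 1, 0, 1]]
    [[], [1], [1, 0], [1, 0, 1], [1, 0, 1, 0], [1, 0, 1, 0, 1]]
    [[], [0], [0, 1], [0, 1, 0], [0, 1, 0, 1], [0, 1, 0, 1, 0]] (by decide +kernel) (by decide +kernel)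
    (by decide +kernel)

end count

/-! ### linear groups -/

section main

open Cfsg.Agent.H927.G2 (cs2 hc2 T2 n2 X2 rgd2 GG2 T2_comm T2_pow)

variable {F : Type u} [Field F] [Finite F] {ι : Type} [Fintype ι] [DecidableEq ι] [Nonempty ι]
  {P : Subgroup (Matrix.GeneralLinearGroup ι F)}
  (p : ℕ) [hp : Fact p.Prime] [CharP F p] {K : Type} [Field K] [Fintype K] [CharP K p]
  {φ : chevG2.group K →* Matrix.GeneralLinearGroup ι F} (hφ : φ.range = P)
  (hP : ActsAbsolutelyIrreducibly (matrixSet P)) (h2 : 2 ≤ Fintype.card ι)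
include p hφ hP h2

/-- not both nodes are in `J` -/
theorem exists_node : (0 : Fin 2) ∉ Jx cs2 hc2 (X2 K) (lin (acRep φ)) ∨ (1 : Fin 2) ∉ Jx cs2 hc2 (X2 K) (lin (acRep φ)) := by
  have hchar : CharP (AlgebraicClosure F) p := charP_of_injective_algebraMap (algebraMap F _).injective p
  have hirr := ac_irr (rgd2 (K := K) p) GG2 T2_comm hφ hP
  have hD := finrank_D (rgd2 (K := K) p) hirr T2_comm
  obtain ⟨i, hi⟩ := exists_not_mem (rgd2 (K := K) p) hirr (by
    rw [hD, Module.finrank_fintype_fun_eq_card]; omega)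
  fin_cases i
  · exact Or.inl hi
  · exact Or.inr hi

/-- one node -/
theorem ge_pow {j : ℕ} (hj : Nat.card K = Nat.card F ^ j) : 6 * 2 ^ j ≤ Fintype.card ι + 6 := by
  have hchar : CharP (AlgebraicClosure F) p := charP_of_injective_algebraMap (algebraMap F _).injective p
  have hirr := ac_irr (rgd2 (K := K) p) GG2 T2_comm hφ hP
  have hD := finrank_D (rgd2 (K := K) p) hirr T2_comm
  have key : ∀ i : Fin 2, i ∉ Jx cs2 hc2 (X2 K) (lin (acRep φ)) → 6 * 2 ^ j ≤ Fintype.card ι + 6 := by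
    intro i hi
    have h3 := ge_one (rgd2 (K := K) p) hirr hi
    have h4 := finrank_Io (rgd2 (K := K) p) hirr i
    obtain ⟨m, hm, h5⟩ := edge_pow_of_card (rgd2 (K := K) p) GG2 T2_comm hφ hP (sg_nd ht cs2 p i) hi hj
    have h6 := Nat.pow_le_pow_left hm j
    rw [hD, Module.finrank_fintype_fun_eq_card] at h3
    rw [hD] at h4
    rw [h5] at h4
    have h7 := h4
    omega
  rcases exists_node p hφ hP h2 with h | h
  · exact key _ h
  · exact key _ h

/-- `|K| = |F| ^ 2` -/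
theorem ge_24 (hq : 3 ≤ Nat.card F) (hj : Nat.card K = Nat.card F ^ 2) : 24 ≤ Fintype.card ι := by
  have hchar : CharP (AlgebraicClosure F) p := charP_of_injective_algebraMap (algebraMap F _).injective p
  have hirr := ac_irr (rgd2 (K := K) p) GG2 T2_comm hφ hP
  have hD := finrank_D (rgd2 (K := K) p) hirr T2_comm
  have hfin : Module.finrank (AlgebraicClosure F) (ι → AlgebraicClosure F) = Fintype.card ι :=
    Module.finrank_fintype_fun_eq_card _
  obtain ⟨c, hc, hc0, χ, hχ⟩ := exists_chi (rgd2 (K := K) p) hirr T2_comm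
  obtain ⟨j⟩ := Cfsg.Agent.H875.Psl2.exists_emb F K p
  obtain ⟨a, ha0, ha⟩ : ∃ a : ℕ, a ≠ 0 ∧ Nat.card F = p ^ a := by
    have := Fintype.ofFinite F
    obtain ⟨a, -, ha⟩ := FiniteField.card F p
    exact ⟨a, a.ne_zero, by rw [Nat.card_eq_fintype_card, ha]⟩
  have hKp : Nat.card K = p ^ (a * 2) := by rw [hj, ha, pow_mul]
  have hgcd : Nat.gcd a (a * 2) = a := Nat.gcd_eq_left (Dvd.intro 2 rfl)
  have data := fun (i : Fin 2) (hi : i ∉ Jx cs2 hc2 (X2 K) (lin (acRep φ))) =>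
    edge_data (rgd2 (K := K) p) GG2 T2_comm hφ hP (sg_nd ht cs2 p i) hi ha hKp (s := 2) (by rw [hgcd, mul_comm]) j hc hc0 hχ
  rw [hgcd] at data
  -- the dimensions of the edges
  have sq : ∀ {d m : ℕ}, m ≤ d → m ^ 2 ≤ d ^ 2 := fun h => Nat.pow_le_pow_left h 2
  have one : ∀ (i : Fin 2), i ∉ Jx cs2 hc2 (X2 K) (lin (acRep φ)) → 24 ≤ Fintype.card ι ∨
      ∃ ι' : K →+* AlgebraicClosure F, ∀ t : Kˣ, lin (acRep φ) (sg ht K i (hh t)) c = ι' (t : K) ^ (1 + p ^ a) • c := by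
    intro i hi
    obtain ⟨r₀, hr0, -, hr, hd⟩ := data i hi
    rcases (Cfsg.Agent.H875.Fn.two_le_card_SS (p := p) hr0).eq_or_lt with h3 | h3
    · right
      obtain ⟨b, hb⟩ := Cfsg.Agent.H875.Psl2.eq_pow_of_card_two p h3.symm
      refine ⟨(iterateFrobenius (AlgebraicClosure F) p b).comp j, fun t => ?_⟩
      rw [hχ _ ((sg_nd ht cs2 p i).tor t), hr t, hb, RingHom.comp_apply, iterateFrobenius_def, ← pow_mul]
      congr 3
      rw [Finset.sum_range_succ, Finset.sum_range_one, pow_zero, pow_one]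
    · left
      have h4 := ge_one (rgd2 (K := K) p) hirr hi
      have h5 := finrank_Io (rgd2 (K := K) p) hirr i
      have h6 : 3 ^ 2 ≤ _ := sq h3
      rw [hD, hfin] at h4
      rw [hD, hd] at h5
      omega
  have hq' : 3 ≤ p ^ a := by rw [← ha]; exact hq
  have hKc : Fintype.card K = (p ^ a) ^ 2 := by rw [← Nat.card_eq_fintype_card, hj, ha]
  obtain ⟨φ₀, hφ₀, hne⟩ := exists_pair_D (rgd2 (K := K) p) hirr hc hc0
  rw [← hfin] at one ⊢
  have H := hx_g2 (K := K) cs2 p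
  by_cases h0 : (0 : Fin 2) ∈ Jx cs2 hc2 (X2 K) (lin (acRep φ)) <;>
    by_cases h1 : (1 : Fin 2) ∈ Jx cs2 hc2 (X2 K) (lin (acRep φ))
  · rcases exists_node p hφ hP h2 with h | h
    · exact absurd h0 h
    · exact absurd h1 h
  · rcases one 1 h1 with h3 | ⟨ι', h3⟩
    · exact h3
    by_cases hp3 : p = 3
    · exact long24_three H hirr hc hφ₀ hne ι' ha0 hKc hp3 h0 h1 h3
    · have hq4 : 4 ≤ p ^ a := by
        by_contra hcon
        have h4 : p ^ a = 3 := by omega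
        have h5 : p ∣ 3 := h4 ▸ dvd_pow_self p ha0
        exact hp3 ((Nat.prime_dvd_prime_iff_eq hp.out Nat.prime_three).1 h5)
      exact long24 H hirr hc hφ₀ hne ι' ha0 hKc hp3 hq4 h0 h1 h3
  · rcases one 0 h0 with h3 | ⟨ι', h3⟩
    · exact h3
    exact short24 H hirr hc hφ₀ hne ι' ha0 hKc hq' h0 h1 h3
  · obtain ⟨m0, hm0, h3⟩ := edge_pow_of_card (rgd2 (K := K) p) GG2 T2_comm hφ hP (sg_nd ht cs2 p 0) h0 hj
    obtain ⟨m1, hm1, h4⟩ := edge_pow_of_card (rgd2 (K := K) p) GG2 T2_comm hφ hP (sg_nd ht cs2 p 1) h1 hj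
    have h5 := ge_two (rgd2 (K := K) p) hirr h0 h1
    have h6 := finrank_Io (rgd2 (K := K) p) hirr 0
    have h7 := finrank_Io (rgd2 (K := K) p) hirr 1
    rw [hD] at h5
    rw [hD, h3] at h6
    rw [hD, h4] at h7
    have h8 := sq hm0
    have h9 := sq hm1
    omega

end main

/-! ### the row -/

section row

open Cfsg.Agent.H927.G2 (GG2 fr_g2)
open Cfsg.Agent.H915.LD Cfsg.Agent.H100.Ppd

variable {n k m : ℕ} {F : Type u} [Field F] [Finite F] {P : Subgroup (Matrix.GeneralLinearGroup (Fin n) F)}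

/-- a prime divisor of `m` and of `q ^ i (q ^ j - 1) ...` -/
theorem dvd_of_prime {q n k m : ℕ} (h : Num q n k m) {r : ℕ} (hr : r.Prime) (hrm : r ∣ m) {j : ℕ} {Q : ℕ}
    (hQ : Q = q ^ j) (hd : r ∣ Q ^ 6 * (Q ^ 2 - 1) * (Q ^ 6 - 1)) : k ∣ 6 * j := by
  have h1 : ∀ i : ℕ, r ∣ Q ^ i - 1 → k ∣ j * i := by
    intro i hi
    rw [← h.pow_eq_one_iff hr hrm]
    have : Fact r.Prime := ⟨hr⟩
    have hq := h.one_lt_q
    have h2 : 1 ≤ q ^ (j * i) := Nat.one_le_pow _ _ (by omega)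
    rw [hQ, ← pow_mul, ← ZMod.natCast_eq_zero_iff, Nat.cast_sub h2, Nat.cast_pow, Nat.cast_one, sub_eq_zero] at hi
    exact hi
  rcases (Nat.Prime.dvd_mul hr).1 hd with h2 | h2
  · rcases (Nat.Prime.dvd_mul hr).1 h2 with h3 | h3
    · exfalso
      have h4 := hr.dvd_of_dvd_pow h3
      rw [hQ] at h4
      exact h.not_dvd_q hr hrm (hr.dvd_of_dvd_pow h4)
    · exact (h1 2 h3).trans ⟨3, by ring⟩
  · rw [mul_comm]
    exact h1 6 h2

/-- `k ≤ 6` for `q = 2`, `|K| = 4` -/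
theorem kill_four {q n k m : ℕ} (h : Num q n k m) (hq : q = 2) (hk : k = 12) : False := by
  subst hq
  subst hk
  have h1 := h.dvd
  have h2 := h.cop 4 (by norm_num) (by norm_num)
  have h3 := h.cop 6 (by norm_num) (by norm_num)
  have h4 : m ∣ 13 * (7 * 9 * 5) := by
    norm_num at h1 ⊢
    exact h1
  have h5 : Nat.Coprime m (7 * 9 * 5) := by
    norm_num at h2 h3
    have h6 : Nat.Coprime m 5 := Nat.Coprime.coprime_dvd_right (by norm_num) h2
    have h7 : Nat.Coprime m (7 * 9) := h3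
    exact Nat.Coprime.mul_right h7 h6
  have h6 := h5.dvd_of_dvd_mul_right h4
  have h7 := Nat.le_of_dvd (by norm_num) h6
  have h8 := h.mlt
  omega

/-- **Task 2463.** -/
theorem not_g2 (h : Row k m P) (hg : ∃ r, r.Prime ∧ r ∣ m ∧ r ∣ Nat.card (Soc P)) {p : ℕ} [Fact p.Prime]
    [CharP F p] {K : Type} [Field K] [Fintype K] [CharP K p] (h3 : 3 ≤ Fintype.card K)
    (e : Soc P ≃* Lie.chevG2.group K) : False := by
  have hC := h.core
  have hn10 := h.num.ten
  obtain ⟨f⟩ := Cfsg.Agent.H48.DsChev.g2_equiv p hC h3 e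
  have hfr := fr_g2 p hC f
  obtain ⟨aK, -, haK⟩ := FiniteField.card K p
  have hcK : Nat.card K = p ^ (aK : ℕ) := by rw [Nat.card_eq_fintype_card, haK]
  obtain ⟨j, hj1, hj⟩ := card_pow_eq p aK.ne_zero (fun x => pow_eq_of_no_subfield hC.absIrred hC.no_subfield p aK (fun g hg => by
    rw [← hcK]; exact hfr g hg) x)
  have hKF : Nat.card K = Nat.card F ^ j := by rw [hcK, hj]
  have hne : Nonempty (Fin n) := hC.nonempty
  have h2 : 2 ≤ Fintype.card (Fin n) := by rw [Fintype.card_fin]; omega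
  have hφ : (P.subtype.comp f.symm.toMonoidHom).range = P := by
    rw [MonoidHom.range_comp, MonoidHom.range_eq_top.2 f.symm.surjective, ← MonoidHom.range_eq_map,
      Subgroup.range_subtype]
  have h4 := ge_pow p hφ hC.absIrred h2 hKF
  rw [Fintype.card_fin] at h4
  obtain ⟨r, hr, hrm, hrd⟩ := hg
  rw [Nat.card_congr e.toEquiv, Cfsg.Agent.S1059.result rfl, ← Nat.card_eq_fintype_card] at hrd
  have hk := dvd_of_prime h.num hr hrm hKF hrd
  have hk' := Nat.le_of_dvd (by omega) hk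
  have hkn := h.num.nlt
  have hj3 : j < 3 := by
    by_contra hcon
    have h5 : ∀ j : ℕ, 3 ≤ j → 2 * j + 1 ≤ 2 ^ j := by
      intro j hj
      induction j, hj using Nat.le_induction with
      | base => norm_num
      | succ j hj ih => rw [pow_succ]; omega
    have h6 := h5 j (by omega)
    omega
  have hj2 : j = 1 ∨ j = 2 := by omega
  rcases hj2 with rfl | rfl
  · obtain ⟨-, -, -, -, h5⟩ := Cfsg.Agent.H927.G2.core_g2 p hC (by rw [Nat.card_eq_fintype_card]; exact h3) e (by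
      rw [Fintype.card_fin]; omega)
    rw [Fintype.card_fin] at h5
    omega
  · have hq := h.num.one_lt_q
    rcases (show Nat.card F = 2 ∨ 3 ≤ Nat.card F by omega) with h5 | h5
    · refine kill_four h.num h5 ?_
      obtain ⟨x, hx⟩ := hk
      have hx1 : x = 1 := by
        rcases Nat.eq_zero_or_pos x with h6 | h6
        · subst h6; omega
        · by_contra hne
          have h7 : k * 2 ≤ k * x := Nat.mul_le_mul_left k (by omega)
          omega
      subst hx1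
      omega
    · have h6 := ge_24 p hφ hC.absIrred h2 h5 hKF
      rw [Fintype.card_fin] at h6
      omega

end row

end Cfsg.Agent.H744.Ppd.G2
end

-- part: H744/Ppd/D4Dim
section
prune_inst 0x20205600300002000000058213003c22cc00009000488800e0a10b440e01ec60890228200e801103482890881000004000000080400000000a003400000701208082d2003350ac00340099000000400000000000000000000000000000000004000000000
set_option linter.all false
open scoped Cfsg.Agent.FastGrp

/-!
# Modules of `³D₄(q₀)` in the defining characteristic (helper744)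

`φ : ³D₄(q₀) → GL(ι, F)` with absolutely irreducible image, `q₀ ^ 3 = |F| ^ j`; `not_3d4` : the row `³D₄` of S5948 (task
2465).
-/

set_option autoImplicit false
set_option linter.unusedSectionVars false
set_option linter.style.haveILetI false

namespace Cfsg.Agent.H744.Ppd.D4

open Matrix (SpecialLinearGroup)
open Cfsg Cfsg.Geo
open Cfsg.Agent.H911 (lin)
open Cfsg.Agent.H911.SLTwo Cfsg.Agent.H875.Fn
open CoxeterSystem Cfsg.Agent.ChevalleyStructure.CoxeterGeom Cfsg.Agent.Tits.Roots Cfsg.Agent.Tits.Core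
  Cfsg.Agent.Tits.Exchange Cfsg.Agent.Nodes.Reps Cfsg.Agent.Nodes.BNOf Cfsg.Agent.Nodes.StabComb
  Cfsg.Agent.Nodes.Bruhat Cfsg.Agent.Nodes.OppDec Cfsg.Agent.Nodes.LeviDec Cfsg.Agent.KFacts.RgdOpp
  Cfsg.Agent.Omega.CR Cfsg.Agent.Omega.FOne.Lift.Sd Cfsg.Agent.H905.Md Cfsg.Agent.H650.Ppd
open Cfsg.Lie Cfsg.Agent.ChevalleyStructure Cfsg.Agent.ChevalleyStructure.CoxeterGeomTypes
open Cfsg.Agent.Nodes.RGDTwD4 (isCartan)
open Cfsg.Agent.Nodes.RGDFoldSL (Fx mem_Fx)

universe u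

section count

variable {W Y : Type*} [Group W] [Group Y] {cs : CoxeterSystem CoxeterMatrix.G₂ W} {p : ℕ} {T : Subgroup Y}
  {n : Fin 2 → Y} {X : (Fin 2 → ℤ) → Subgroup Y} {k V : Type*} [Field k] [AddCommGroup V] [Module k V]
  (R : RGD cs isCartan p T n X) [Finite Y] [Finite W] [Fact p.Prime] [CharP k p] {ρ : Y →* Module.End k V}
  [FiniteDimensional k V] [Nontrivial V]
  (hirr : ∀ L : Submodule k V, Ivt ρ (GG cs isCartan T X) L → L = ⊥ ∨ L = ⊤)
include R hirr

theorem ge_one {i : Fin 2} (hi : i ∉ Jx cs isCartan X ρ) :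
    6 * Module.finrank k (D cs isCartan X ρ) + 6 * Module.finrank k (Io cs isCartan T X ρ i) ≤
      Module.finrank k V := by
  fin_cases i
  · exact dim_ge_list R hirr hi [[], [0], [0, 1], [0, 1, 0], [0, 1, 0, 1], [0, 1, 0, 1, 0]]
      [[], [1], [1, 0], [1, 0, 1], [1, 0, 1, 0], [1, 0, 1, 0, 1]] (by decide +kernel) (by decide +kernel)
  · exact dim_ge_list R hirr hi [[], [1], [1, 0], [1, 0, 1], [1, 0, 1, 0], [1, 0, 1, 0, 1]]
      [[], [0], [0, 1], [0, 1, 0], [0, 1, 0, 1], [0, 1, 0, 1, 0]] (by decide +kernel) (by decide +kernel)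

end count

/-! ### the fields -/

section fields

variable {K : Type} [Field K] [Fintype K] {q : ℕ} {φ : K →+* K}

theorem card_Fx3 (hK : Fintype.card K = q ^ 3) (hφ : ∀ x, φ x = x ^ q) : Nat.card (Fx φ 3) = q ^ 3 := by
  have h1 : Fx φ 3 = ⊤ := by
    rw [eq_top_iff]
    intro x _
    rw [mem_Fx]
    exact Cfsg.Agent.H249.PPTwD4.phi3 hK hφ x
  rw [h1, ← hK, ← Nat.card_eq_fintype_card]
  exact Nat.card_congr Subfield.topEquiv.toEquiv

theorem card_Fx1 (hq : 1 < q) (hK : Fintype.card K = q ^ 3) (hφ : ∀ x, φ x = x ^ q) : Nat.card (Fx φ 1) = q := by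
  have h1 := FixedCard.card_fixed (K := K) hq hK
  rw [← h1]
  refine Nat.card_congr (Equiv.subtypeEquivRight fun x => ?_)
  rw [mem_Fx, Function.iterate_one, hφ]

/-- `t ^ |K| = t` on the torus -/
theorem T_pow (t : ↥(twistedD4 K q)) (ht : t ∈ Nodes.RGDTwD4.T K q) : t ^ Fintype.card K = t := by
  have ht' : (t : GL chevD4.Idx K) ∈ chevD4.diagonalSubgroup K := (Subgroup.mem_subgroupOf.1 ht).1
  obtain ⟨χ, h1⟩ := ChevalleyStructure.HMatDiagAll.mem_torus.1
    (ChevalleyStructure.HMatDiagAll.diagonalSubgroup_le_torus Nodes.RGDTwD4.hp.inList ht')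
  apply Subtype.ext
  apply Units.ext
  rw [Subgroup.coe_pow, Units.val_pow_eq_pow_val, h1, Matrix.diagonal_pow]
  congr 1
  funext i
  rw [Pi.pow_apply, FiniteField.pow_card]

end fields

/-! ### numbers -/

theorem geom_split (Q j : ℕ) : (1 + Q ^ j + (Q ^ j) ^ 2) * ∑ l ∈ Finset.range j, Q ^ l =
    ∑ l ∈ Finset.range (3 * j), Q ^ l := by
  have h1 : 3 * j = j + (j + j) := by ring
  rw [h1, Finset.sum_range_add, Finset.sum_range_add]
  simp only [pow_add, ← Finset.mul_sum]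
  ring

theorem geom_bd {Q j r : ℕ} (hQ : 1 ≤ Q) (hr : r < Q) : r * ∑ l ∈ Finset.range j, Q ^ l ≤ Q ^ j - 1 := by
  have h1 : (∑ l ∈ Finset.range j, Q ^ l) * (Q - 1) + 1 = Q ^ j := by
    induction j with
    | zero => simp
    | succ j ih =>
      rw [Finset.sum_range_succ, add_mul, pow_succ]
      obtain ⟨Q', rfl⟩ : ∃ Q', Q = Q' + 1 := ⟨Q - 1, by omega⟩
      rw [Nat.add_sub_cancel] at ih ⊢
      nlinarith
  have h2 : r * ∑ l ∈ Finset.range j, Q ^ l ≤ (Q - 1) * ∑ l ∈ Finset.range j, Q ^ l :=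
    Nat.mul_le_mul_right _ (by omega)
  rw [mul_comm (Q - 1)] at h2
  omega

/-! ### linear groups -/

section main

/-- the Coxeter system -/
local notation "cs4" => CoxeterMatrix.toCoxeterSystem CoxeterMatrix.G₂

variable {F : Type u} [Field F] [Finite F] {ι : Type} [Fintype ι] [DecidableEq ι] [Nonempty ι]
  {P : Subgroup (Matrix.GeneralLinearGroup ι F)}
  (p : ℕ) [hp : Fact p.Prime] [CharP F p] {K : Type} [Field K] [Fintype K] [CharP K p] {q : ℕ} {φ : K →+* K}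
  (hK : Fintype.card K = q ^ 3) (hφ : ∀ x, φ x = x ^ q)
  {θ : ↥(twistedD4 K q) →* Matrix.GeneralLinearGroup ι F} (hθ : θ.range = P)
  (hP : ActsAbsolutelyIrreducibly (matrixSet P))

/-- the root groups -/
local notation "Jn" => Jx cs4 isCartan (Nodes.RGDTwD4.X φ q) (lin (acRep θ))

include hK hφ in
theorem GG4 : GG cs4 isCartan (Nodes.RGDTwD4.T K q) (Nodes.RGDTwD4.X φ q) = ⊤ :=
  KFacts.RgdRigid.GG_eq_top (Nodes.RGDTwD4.G1_eq_top cs4 hK hφ)

include p hK hφ hθ hP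

theorem exists_node (h2 : 2 ≤ Fintype.card ι) : (1 : Fin 2) ∉ Jn ∨ ((1 : Fin 2) ∈ Jn ∧ (0 : Fin 2) ∉ Jn) := by
  have : Finite CoxeterMatrix.G₂.Group := Cfsg.Agent.H249.PPTwD4.finiteW cs4
  have hchar : CharP (AlgebraicClosure F) p := charP_of_injective_algebraMap (algebraMap F _).injective p
  have hirr := ac_irr (Nodes.RGDTwD4.rgd cs4 hK hφ p) (GG4 hK hφ) Cfsg.Agent.H249.PPTwD4.T_comm hθ hP
  have hD := finrank_D (Nodes.RGDTwD4.rgd cs4 hK hφ p) hirr Cfsg.Agent.H249.PPTwD4.T_comm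
  obtain ⟨i, hi⟩ := exists_not_mem (Nodes.RGDTwD4.rgd cs4 hK hφ p) hirr (by
    rw [hD, Module.finrank_fintype_fun_eq_card]; omega)
  by_cases h1 : (1 : Fin 2) ∈ Jn
  · right
    refine ⟨h1, ?_⟩
    fin_cases i
    · exact hi
    · exact absurd h1 hi
  · exact Or.inl h1

/-- a bound from an edge -/
theorem edge_ge {i : Fin 2} (hi : i ∉ Jn) {d : ℕ}
    (hd : d ≤ Module.finrank (AlgebraicClosure F) (Le cs4 isCartan (Nodes.RGDTwD4.T K q) (Nodes.RGDTwD4.X φ q)
      (lin (acRep θ)) {i})) : 6 * d ≤ Fintype.card ι + 6 := by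
  have : Finite CoxeterMatrix.G₂.Group := Cfsg.Agent.H249.PPTwD4.finiteW cs4
  have hchar : CharP (AlgebraicClosure F) p := charP_of_injective_algebraMap (algebraMap F _).injective p
  have hirr := ac_irr (Nodes.RGDTwD4.rgd cs4 hK hφ p) (GG4 hK hφ) Cfsg.Agent.H249.PPTwD4.T_comm hθ hP
  have hD := finrank_D (Nodes.RGDTwD4.rgd cs4 hK hφ p) hirr Cfsg.Agent.H249.PPTwD4.T_comm
  have h3 := ge_one (Nodes.RGDTwD4.rgd cs4 hK hφ p) hirr hi
  have h4 := finrank_Io (Nodes.RGDTwD4.rgd cs4 hK hφ p) hirr i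
  rw [hD, Module.finrank_fintype_fun_eq_card] at h3
  rw [hD] at h4
  omega

/-- the short node -/
theorem short_ge (hi : (1 : Fin 2) ∉ Jn) {a f s : ℕ} (hF : Nat.card F = p ^ a) (hE : q ^ 3 = p ^ f)
    (hs : s * Nat.gcd a f = f) : 6 * 2 ^ s ≤ Fintype.card ι + 6 := by
  have : Finite CoxeterMatrix.G₂.Group := Cfsg.Agent.H249.PPTwD4.finiteW cs4
  have := Fintype.ofFinite (Fx φ 3)
  obtain ⟨m, hm, h5⟩ := edge_pow (Nodes.RGDTwD4.rgd cs4 hK hφ p) (GG4 hK hφ) Cfsg.Agent.H249.PPTwD4.T_comm hθ hP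
    (nd_ss hK hφ cs4 p) hi hF (by rw [card_Fx3 hK hφ]; exact hE) hs
  refine edge_ge p hK hφ hθ hP hi ?_
  rw [h5]
  exact Nat.pow_le_pow_left hm s

/-- the long node -/
theorem long_ge (hq : 1 < q) (hi : (0 : Fin 2) ∉ Jn) {a f s : ℕ} (hF : Nat.card F = p ^ a) (hE : q = p ^ f)
    (hs : s * Nat.gcd a f = f) : 6 * 2 ^ s ≤ Fintype.card ι + 6 := by
  have : Finite CoxeterMatrix.G₂.Group := Cfsg.Agent.H249.PPTwD4.finiteW cs4
  have := Fintype.ofFinite (Fx φ 1)
  obtain ⟨m, hm, h5⟩ := edge_pow (Nodes.RGDTwD4.rgd cs4 hK hφ p) (GG4 hK hφ) Cfsg.Agent.H249.PPTwD4.T_comm hθ hP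
    (nd_sl hK hφ cs4 p) hi hF (by rw [card_Fx1 hq hK hφ]; exact hE) hs
  refine edge_ge p hK hφ hθ hP hi ?_
  rw [h5]
  exact Nat.pow_le_pow_left hm s

/-- the long node alone -/
theorem long_ge' (hq : 1 < q) (h1 : (1 : Fin 2) ∈ Jn) (h0 : (0 : Fin 2) ∉ Jn) {a j : ℕ} (ha : a ≠ 0) (hj : j ≠ 0)
    (hF : Nat.card F = p ^ a) (hE : q = p ^ (a * j)) :
    8 ^ j ≤ Fintype.card ι ∧ (j = 1 → 3 ≤ Nat.card F → 24 ≤ Fintype.card ι) := by
  have : Finite CoxeterMatrix.G₂.Group := Cfsg.Agent.H249.PPTwD4.finiteW cs4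
  have i1 := Fintype.ofFinite (Fx φ 1)
  have i3 := Fintype.ofFinite (Fx φ 3)
  have c1 : Fintype.card (Fx φ 1) = q := by rw [← Nat.card_eq_fintype_card]; exact card_Fx1 hq hK hφ
  have c3 : Fintype.card (Fx φ 3) = q ^ 3 := by rw [← Nat.card_eq_fintype_card]; exact card_Fx3 hK hφ
  have hchar : CharP (AlgebraicClosure F) p := charP_of_injective_algebraMap (algebraMap F _).injective p
  have R := Nodes.RGDTwD4.rgd (K := K) cs4 hK hφ p
  have H := hx_d4 hK hφ cs4 p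
  have hirr := ac_irr R (GG4 hK hφ) Cfsg.Agent.H249.PPTwD4.T_comm hθ hP
  have hfin : Module.finrank (AlgebraicClosure F) (ι → AlgebraicClosure F) = Fintype.card ι :=
    Module.finrank_fintype_fun_eq_card _
  obtain ⟨c, hc, hc0, χ, hχ⟩ := exists_chi R hirr Cfsg.Agent.H249.PPTwD4.T_comm
  obtain ⟨ι₀⟩ := Cfsg.Agent.H875.Psl2.exists_emb F (Fx φ 3) p
  have hgcd : Nat.gcd a (a * j) = a := Nat.gcd_eq_left (Dvd.intro j rfl)
  obtain ⟨r₀, hr0, hrlt, hr, -⟩ := edge_data R (GG4 hK hφ) Cfsg.Agent.H249.PPTwD4.T_comm hθ hP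
    (nd_sl hK hφ cs4 p) h0 hF (by rw [card_Fx1 hq hK hφ]; exact hE) (s := j) (by rw [hgcd, mul_comm])
    (ι₀.comp (incl φ)) hc hc0 hχ
  rw [hgcd] at hrlt hr
  obtain ⟨φ₀, hφ₀, hne⟩ := exists_pair_D R hirr hc hc0
  have hQ1 : 1 ≤ p ^ a := Nat.one_le_pow _ _ hp.out.pos
  have hqj : q = (p ^ a) ^ j := by rw [hE, pow_mul]
  set b : ℕ := r₀ * ∑ l ∈ Finset.range j, (p ^ a) ^ l with hb
  set cS : ℕ := r₀ * ∑ l ∈ Finset.range (3 * j), (p ^ a) ^ l with hcS
  have hbc : cS = (1 + q + q ^ 2) * b := by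
    rw [hcS, hb, ← geom_split, hqj]
    ring
  have htor0 : ∀ t : (Fx φ 1)ˣ, lin (acRep θ) (sl hK hφ (hh t)) c = ι₀ (incl φ (t : Fx φ 1)) ^ b • c := fun t => by
    rw [hχ _ ((nd_sl hK hφ cs4 p).tor t), hr t]
    rfl
  have h3 : IsOcc (lin (acRep θ)) (ss hK hφ) (sl hK hφ) (incl φ) ι₀ c 0 (b : ℤ) :=
    ⟨fun t => by rw [fix_J H.Ns h1 hc, zpow_zero, one_smul], fun t => by rw [htor0, zpow_natCast]⟩
  have h4 := h3.refl_l H.two
  have hcS1 : 1 ≤ cS := by
    rw [hbc]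
    have hb1 : b ≠ 0 := by
      rw [hb]
      refine Nat.mul_ne_zero hr0 ?_
      have h5 : 1 ≤ ∑ l ∈ Finset.range j, (p ^ a) ^ l := by
        rw [← pow_zero (p ^ a)]
        exact Finset.single_le_sum (f := fun l => (p ^ a) ^ l) (fun _ _ => Nat.zero_le _)
          (Finset.mem_range.2 (Nat.pos_of_ne_zero hj))
      omega
    exact Nat.one_le_iff_ne_zero.2 (Nat.mul_ne_zero (by omega) hb1)
  have hcS2 : cS ≤ Fintype.card (Fx φ 3) - 1 := by
    rw [c3, hqj, ← pow_mul, mul_comm j 3]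
    exact geom_bd hQ1 hrlt
  have S := H.str_sl hirr hc hφ₀ hne h0 ι₀ hcS1 hcS2 (fun t => by
    rw [h4.1 t]
    congr 1
    rw [← zpow_natCast, hbc]
    congr 1
    push_cast
    ring)
  have h5 := S.dim_le p
  rw [card_SS_geom hrlt, hfin] at h5
  have h6 := two_le_card_SS (p := p) hr0
  refine ⟨?_, ?_⟩
  · have h7 := Nat.pow_le_pow_left h6 (3 * j)
    rw [pow_mul] at h7
    exact h7.trans h5
  · rintro rfl hF3
    rcases h6.eq_or_lt with h7 | h7
    · obtain ⟨e, he⟩ := Cfsg.Agent.H875.Psl2.eq_pow_of_card_two p h7.symm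
      rw [pow_one] at hqj
      rw [← hfin]
      have H' : Hx R 1 0 (ss hK hφ) (sl hK hφ) (incl φ) (nrm φ) (1 + p ^ a + (p ^ a) ^ 2) := by
        rw [← hqj]; exact H
      refine long24_d4 H' hirr hc hφ₀ hne ((iterateFrobenius (AlgebraicClosure F) p e).comp ι₀) ha (by rw [c3, hqj])
        (by rw [c1, hqj]) (by rw [← hF]; exact hF3) h1 h0 (fun t => ?_)
      rw [htor0, hb, Finset.sum_range_one, pow_zero, mul_one, he, RingHom.comp_apply, iterateFrobenius_def]
    · have h8 : 3 ^ 3 ≤ _ := Nat.pow_le_pow_left h7 (3 * 1)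
      omega

end main

/-! ### the row -/

section row

open Cfsg.Agent.H915.LD Cfsg.Agent.H100.Ppd

variable {n k m : ℕ} {F : Type u} [Field F] [Finite F] {P : Subgroup (Matrix.GeneralLinearGroup (Fin n) F)}

/-- `k ∣ 4 j` -/
theorem dvd_of_prime {q n k m : ℕ} (h : Num q n k m) {r : ℕ} (hr : r.Prime) (hrm : r ∣ m) {j Q : ℕ}
    (hQ : q ^ j = Q ^ 3) (hd : r ∣ Q ^ 12 * (Q ^ 2 - 1) * (Q ^ 6 - 1) * (Q ^ 8 + Q ^ 4 + 1)) : k ∣ 4 * j := by
  have : Fact r.Prime := ⟨hr⟩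
  rw [← h.pow_eq_one_iff hr hrm]
  have hq := h.one_lt_q
  have hrQ : ¬ r ∣ Q := fun h1 => by
    have h2 : r ∣ q ^ j := by rw [hQ]; exact dvd_pow h1 (by norm_num)
    exact h.not_dvd_q hr hrm (hr.dvd_of_dvd_pow h2)
  have hQ0 : 0 < Q := Nat.pos_of_ne_zero fun h0 => hrQ (h0 ▸ dvd_zero r)
  have hmain : (Q : ZMod r) ^ 12 = 1 := by
    have key : ∀ i : ℕ, r ∣ Q ^ i - 1 → (Q : ZMod r) ^ i = 1 := by
      intro i hi
      have h2 : 1 ≤ Q ^ i := Nat.one_le_pow _ _ hQ0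
      rwa [← ZMod.natCast_eq_zero_iff, Nat.cast_sub h2, Nat.cast_pow, Nat.cast_one, sub_eq_zero] at hi
    rcases (Nat.Prime.dvd_mul hr).1 hd with h2 | h2
    · rcases (Nat.Prime.dvd_mul hr).1 h2 with h3 | h3
      · rcases (Nat.Prime.dvd_mul hr).1 h3 with h4 | h4
        · exact absurd (hr.dvd_of_dvd_pow h4) hrQ
        · have := key 2 h4
          rw [show 12 = 2 * 6 from rfl, pow_mul, this, one_pow]
      · have := key 6 h3
        rw [show 12 = 6 * 2 from rfl, pow_mul, this, one_pow]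
    · rw [← ZMod.natCast_eq_zero_iff] at h2
      push_cast at h2
      linear_combination ((Q : ZMod r) ^ 4 - 1) * h2
  have h3 : (q : ZMod r) ^ (4 * j) = (Q : ZMod r) ^ 12 := by
    rw [mul_comm 4 j, pow_mul]
    have h4 : ((q : ZMod r)) ^ j = (Q : ZMod r) ^ 3 := by
      rw [← Nat.cast_pow, hQ, Nat.cast_pow]
    rw [h4, ← pow_mul]
  rw [h3, hmain]

/-- `q = 2`, `k = 6` -/
theorem kill_six {n m : ℕ} (h : Num 2 n 6 m) : False := by
  have h1 := h.dvd
  have h2 := h.cop 2 (by norm_num) (by norm_num)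
  have h3 := h.cop 3 (by norm_num) (by norm_num)
  have h4 : m ∣ 3 * (3 * 7) := by
    norm_num at h1 ⊢
    exact h1
  have h5 : Nat.Coprime m 3 := by norm_num at h2; exact h2
  have h6 : Nat.Coprime m 7 := by norm_num at h3; exact h3
  have h7 := (Nat.Coprime.mul_right h5 (Nat.Coprime.mul_right h5 h6)).eq_one_of_dvd h4
  have h8 := h.mlt
  omega

theorem pow8 (j : ℕ) (hj : 2 ≤ j) : 24 * j ≤ 8 ^ j := by
  induction j, hj using Nat.le_induction with
  | base => norm_num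
  | succ j hj ih => rw [pow_succ]; omega

theorem pow2 (j : ℕ) (hj : 2 ≤ j) : 8 * j + 6 ≤ 6 * 2 ^ j := by
  induction j, hj using Nat.le_induction with
  | base => norm_num
  | succ j hj ih => rw [pow_succ]; omega

theorem pow86 (j : ℕ) (hj : 1 ≤ j) : 24 * j + 6 ≤ 6 * 8 ^ j := by
  induction j, hj using Nat.le_induction with
  | base => norm_num
  | succ j hj ih => rw [pow_succ]; omega

/-- **Task 2465.** -/
theorem not_3d4 (h : Row k m P) (hg : ∃ r, r.Prime ∧ r ∣ m ∧ r ∣ Nat.card (Soc P)) {p : ℕ} [hp : Fact p.Prime]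
    [CharP F p] {K : Type} [Field K] [Fintype K] [CharP K p] {q₀ : ℕ} (hq : IsPrimePow q₀)
    (hK : Fintype.card K = q₀ ^ 3) (e : Soc P ≃* Lie.twistedD4 K q₀) : False := by
  have hC := h.core
  have hn10 := h.num.ten
  have hnlt := h.num.nlt
  obtain ⟨f⟩ := Cfsg.Agent.H48.DsChev.d4_equiv hC hq hK e
  obtain ⟨φ, hφ⟩ := D4Fixed.exists_frob hq hK
  have hq1 : 1 < q₀ := hq.one_lt
  obtain ⟨aK, -, haK⟩ := FiniteField.card K p
  have hne : Nonempty (Fin n) := hC.nonempty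
  have h2 : 2 ≤ Fintype.card (Fin n) := by rw [Fintype.card_fin]; omega
  have hθ : (P.subtype.comp f.symm.toMonoidHom).range = P := by
    rw [MonoidHom.range_comp, MonoidHom.range_eq_top.2 f.symm.surjective, ← MonoidHom.range_eq_map,
      Subgroup.range_subtype]
  have : Finite CoxeterMatrix.G₂.Group := Cfsg.Agent.H249.PPTwD4.finiteW CoxeterMatrix.G₂.toCoxeterSystem
  obtain ⟨j, hj1, hj⟩ := card_pow_eq p aK.ne_zero (fun x => pow_eq_of_no_subfield hC.absIrred hC.no_subfield p aK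
    (fun g hg => trace_pow (Nodes.RGDTwD4.rgd CoxeterMatrix.G₂.toCoxeterSystem hK hφ p) (GG4 hK hφ)
      Cfsg.Agent.H249.PPTwD4.T_comm hθ hC.absIrred (fun t ht => by rw [← haK]; exact T_pow t ht) hg) x)
  have hjq : Nat.card F ^ j = q₀ ^ 3 := by rw [hj, ← haK, hK]
  obtain ⟨r, hr, hrm, hrd⟩ := hg
  rw [Nat.card_congr e.toEquiv, Cfsg.Agent.S1067.result hq hK] at hrd
  have hk := dvd_of_prime h.num hr hrm hjq hrd
  have hk' := Nat.le_of_dvd (by omega) hk
  obtain ⟨a, ha0, ha⟩ : ∃ a : ℕ, a ≠ 0 ∧ Nat.card F = p ^ a := by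
    have := Fintype.ofFinite F
    obtain ⟨a, -, ha⟩ := FiniteField.card F p
    exact ⟨a, a.ne_zero, by rw [Nat.card_eq_fintype_card, ha]⟩
  obtain ⟨g, -, hgq⟩ := (Nat.dvd_prime_pow hp.out).1 (show q₀ ∣ p ^ (aK : ℕ) by
    rw [← haK, hK]; exact dvd_pow_self q₀ (by norm_num))
  have hag : a * j = 3 * g := by
    have h3 : p ^ (a * j) = p ^ (3 * g) := by
      rw [pow_mul, ← ha, hjq, hgq, ← pow_mul, mul_comm]
    exact Nat.pow_right_injective hp.out.two_le h3
  have hnode := exists_node p hK hφ hθ hC.absIrred h2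
  by_cases h3 : 3 ∣ j
  · obtain ⟨j', rfl⟩ := h3
    have hj' : 1 ≤ j' := by omega
    have hg' : g = a * j' := by
      have : a * (3 * j') = 3 * (a * j') := by ring
      omega
    rcases hnode with h1 | ⟨h1, h0⟩
    · have h4 := short_ge p hK hφ hθ hC.absIrred h1 ha (f := a * (3 * j')) (by rw [hag, hgq, ← pow_mul, mul_comm])
        (s := 3 * j') (by rw [Nat.gcd_eq_left (Dvd.intro (3 * j') rfl), mul_comm])
      rw [Fintype.card_fin, pow_mul] at h4
      have h5 := pow86 j' hj'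
      norm_num at h4
      omega
    · obtain ⟨h4, h5⟩ := long_ge' p hK hφ hθ hC.absIrred hq1 h1 h0 ha0 (j := j') (by omega) ha (by rw [hgq, hg'])
      rw [Fintype.card_fin] at h4 h5
      rcases hj'.eq_or_lt with h6 | h6
      · rcases (show Nat.card F = 2 ∨ 3 ≤ Nat.card F by have := h.num.one_lt_q; omega) with h7 | h7
        · rw [← h6] at hk hk'
          have h8 : k = 6 ∨ k = 12 := by
            have h9 := h.num.six_le
            obtain ⟨x, hx⟩ := hk
            have hx2 : x = 1 ∨ x = 2 := by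
              rcases Nat.lt_or_ge x 3 with h10 | h10
              · interval_cases x
                · omega
                · exact Or.inl rfl
                · exact Or.inr rfl
              · have h11 : k * 3 ≤ k * x := Nat.mul_le_mul_left k h10
                omega
            rcases hx2 with rfl | rfl
            · right; omega
            · left; omega
          rcases h8 with rfl | h8
          · have h9 := h.num
            rw [h7] at h9
            exact kill_six h9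
          · exact G2.kill_four h.num h7 h8
        · have h8 := h5 h6.symm h7
          omega
      · have h7 := pow8 j' h6
        omega
  · have h4 : 3 ∣ a := by
      have h5 : 3 ∣ a * j := ⟨g, hag⟩
      exact (Nat.prime_three.dvd_mul.1 h5).resolve_right h3
    obtain ⟨a', rfl⟩ := h4
    have hg' : g = a' * j := by
      have : 3 * a' * j = 3 * (a' * j) := by ring
      omega
    have hj2 : 2 ≤ j := by
      by_contra hcon
      have : j = 1 := by omega
      subst this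
      omega
    have h5 : 6 * 2 ^ j ≤ Fintype.card (Fin n) + 6 := by
      rcases hnode with h1 | ⟨-, h0⟩
      · exact short_ge p hK hφ hθ hC.absIrred h1 ha (f := 3 * a' * j) (by rw [hag, hgq, ← pow_mul, mul_comm])
          (s := j) (by rw [Nat.gcd_eq_left (Dvd.intro j rfl), mul_comm])
      · refine long_ge p hK hφ hθ hC.absIrred hq1 h0 ha (f := a' * j) (by rw [hgq, hg']) (s := j) ?_
        have h6 : Nat.gcd (3 * a') (a' * j) = a' := by
          rw [mul_comm 3 a', Nat.gcd_mul_left, show Nat.gcd 3 j = 1 from (Nat.Prime.coprime_iff_not_dvd Nat.prime_three).2 h3, mul_one]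
        rw [h6, mul_comm]
    rw [Fintype.card_fin] at h5
    have h6 := pow2 j hj2
    omega

end row

end Cfsg.Agent.H744.Ppd.D4
end

-- part: H269/Ppd/SUFourMain
section
prune_inst 0x52000022000000000010000000000000000200008800008003040200a00000020800080000121020000000000008110000200200000000000000000001000000800000000000020090000000000000000000000000000000000000000000000000000
set_option linter.all false
open scoped Cfsg.Agent.FastGrp

-- part: H269/Ppd/Minor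
section
/-!
# The second coordinate function of a Witt frame of rank two (helper269)

`Fr` a frame with `e_0, e_1, f_0, f_1` (`b (i, true) = e_i`, `b (i, false) = f_i`), `F2 g` the minor
`h(g e_0, f_0) h(g e_1, f_1) - h(g e_0, f_1) h(g e_1, f_0)`.

* `SUp`, `rg_le_up`, `rg_le_lo` : positive (negative) root groups stabilise the flags;
* `F2_mul_up`, `F2_lo_mul` : invariance;
* `exists_pi`, `of_F2` : `F2 ≠ 0` on a representative of `w` implies that `w` preserves the coordinate `1`.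
-/

set_option autoImplicit false
set_option linter.unusedSectionVars false
set_option linter.style.haveILetI false

namespace Cfsg.Agent.H269.Ppd

open CoxeterSystem Cfsg.Agent.ChevalleyStructure.CoxeterGeom Cfsg.Agent.Tits.Roots Cfsg.Agent.Nodes.TypeC
open Cfsg.Agent.Nodes.Comb Cfsg.Agent.Nodes.Reps Cfsg.Agent.Nodes.WittRoot Cfsg.Agent.Nodes.BNOf
open Cfsg.Agent.Nodes.WittRGD Cfsg.Agent.Nodes.RGDLib Cfsg.Agent.Nodes.OppDec Cfsg.Agent.Nodes.Bruhat
open Cfsg.Agent.TitsThree Cfsg.Agent.TitsThree.Siegel Cfsg.Agent.TitsThree.WittFrame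
  Cfsg.Agent.TitsThree.WittWeyl Cfsg.Agent.TitsThree.FrameCN
open Cfsg.Agent.H905.Sp4 (pos_cases ee0 ee1)

variable {K : Type*} [Field K] {V : Type*} [AddCommGroup V] [Module K V] {H : HForm K V} (Fr : Frame H (Fin 2))

/-- isometries which fix `b (0, s)` and fix `b (1, s)` modulo `b (0, s)` -/
def SFl (s : Bool) : Subgroup (V ≃ₗ[K] V) where
  carrier := {g | H.IsIso g ∧ g (Fr.b (0, s)) = Fr.b (0, s) ∧ ∃ a : K, g (Fr.b (1, s)) = Fr.b (1, s) + a • Fr.b (0, s)}
  one_mem' := ⟨fun _ _ => rfl, rfl, 0, by rw [zero_smul, add_zero]; rfl⟩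
  mul_mem' := by
    rintro g k ⟨hg, g0, a, g1⟩ ⟨hk, k0, b, k1⟩
    refine ⟨HForm.IsIso.mul _ hg hk, ?_, a + b, ?_⟩
    · change g (k _) = _
      rw [k0, g0]
    · change g (k _) = _
      rw [k1, map_add, map_smul, g1, g0, add_smul, add_assoc]
  inv_mem' := by
    rintro g ⟨hg, g0, a, g1⟩
    have h0 : g⁻¹ (Fr.b (0, s)) = Fr.b (0, s) := by
      conv_lhs => rw [← g0]
      exact g.symm_apply_apply _
    refine ⟨HForm.IsIso.inv _ hg, h0, -a, ?_⟩
    have h1 : g⁻¹ (g (Fr.b (1, s))) = Fr.b (1, s) := g.symm_apply_apply _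
    rw [g1, map_add, map_smul, h0] at h1
    rw [neg_smul, ← sub_eq_add_neg, eq_sub_iff_add_eq]
    exact h1

/-- the action of a root element on the frame -/
theorem pg_apply {a b : Fin 2 × Bool} (hab : Ok a b) {g : V ≃ₗ[K] V} (hg : g ∈ PG Fr a b) :
    H.IsIso g ∧ (∀ z, z ≠ ng a → z ≠ ng b → g (Fr.b z) = Fr.b z) ∧
      (a ≠ b → ∃ t : K, g (Fr.b (ng a)) = Fr.b (ng a) + t • Fr.b b) ∧
      (a ≠ b → ∃ t : K, g (Fr.b (ng b)) = Fr.b (ng b) + t • Fr.b a) := by
  rcases hab with h | rfl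
  · rw [PG_ne Fr h] at hg
    obtain ⟨t, rfl⟩ := hg
    refine ⟨Fr.isIso_X _ _ _, fun z h1 h2 => X_apply_of_ne Fr h h1 h2 t,
      fun _ => ⟨-(H.ε⁻¹ * Fr.η a * Fr.η b * H.σ t), ?_⟩, fun _ => ⟨t, X_apply_neg Fr h t⟩⟩
    exact (X_apply_neg' Fr h t).trans (by rw [sub_eq_add_neg, ← neg_smul]; rfl)
  · rw [PG_self] at hg
    obtain ⟨p, rfl⟩ := hg
    exact ⟨Fr.isIso_Z _ _, fun z h1 _ => Z_apply_of_ne Fr h1 p, fun h => absurd rfl h, fun h => absurd rfl h⟩

theorem pg_le {a b : Fin 2 × Bool} (s : Bool) (hab : Ok a b) (ha : a ≠ (0, !s)) (hb : b ≠ (0, !s))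
    (h1 : a = (1, !s) → b = (0, s)) (h2 : b = (1, !s) → a = (0, s)) : PG Fr a b ≤ SFl Fr s := by
  intro g hg
  obtain ⟨hi, g1, g2, g3⟩ := pg_apply Fr hab hg
  refine ⟨hi, g1 _ ?_ ?_, ?_⟩
  · intro h
    apply ha
    have := congrArg ng h
    rw [ng_ng] at this
    rw [← this]
    rfl
  · intro h
    apply hb
    have := congrArg ng h
    rw [ng_ng] at this
    rw [← this]
    rfl
  · by_cases ha1 : a = (1, !s)
    · have hb1 := h1 ha1
      obtain ⟨t, ht⟩ := g2 (by rw [ha1, hb1]; intro e; have := congrArg Prod.fst e; simp at this)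
      refine ⟨t, ?_⟩
      rw [ha1, hb1] at ht
      have e : ng ((1 : Fin 2), !s) = (1, s) := by simp [ng]
      rwa [e] at ht
    · by_cases hb1 : b = (1, !s)
      · have ha2 := h2 hb1
        obtain ⟨t, ht⟩ := g3 (by rw [hb1, ha2]; intro e; have := congrArg Prod.fst e; simp at this)
        refine ⟨t, ?_⟩
        rw [hb1, ha2] at ht
        have e : ng ((1 : Fin 2), !s) = (1, s) := by simp [ng]
        rwa [e] at ht
      · refine ⟨0, ?_⟩
        rw [zero_smul, add_zero]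
        apply g1
        · intro h
          apply ha1
          have := congrArg ng h
          rw [ng_ng] at this
          rw [← this]
          rfl
        · intro h
          apply hb1
          have := congrArg ng h
          rw [ng_ng] at this
          rw [← this]
          rfl

section Roots

variable {W : Type*} [Group W] {cs : CoxeterSystem (CoxeterMatrix.B 2) W}

/-- positive root groups -/
theorem rg_le_up {x : Fin 2 → ℤ} (hx : IsRoot cs (isCartan 2) x) (h0 : 0 ≤ x) : rg Fr x ≤ SFl Fr true := by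
  obtain ⟨a, b, hab, e⟩ := exists_of_isRoot cs hx
  rw [rg_eq Fr hab e]
  have e0 := congrFun e 0
  have e1 := congrFun e 1
  rw [ee0] at e0
  rw [ee1] at e1
  have h2 := h0 0
  have h3 := h0 1
  simp only [Pi.zero_apply] at h2 h3
  obtain ⟨h4, h5, h6, h7⟩ := pos_cases hab (by omega) (by omega)
  exact pg_le Fr true hab h4 h5 h6 h7

/-- negative root groups -/
theorem rg_le_lo {x : Fin 2 → ℤ} (hx : IsRoot cs (isCartan 2) x) (h0 : x ≤ 0) : rg Fr x ≤ SFl Fr false := by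
  obtain ⟨a, b, hab, e⟩ := exists_of_isRoot cs hx
  rw [rg_eq Fr hab e]
  have e0 := congrFun e 0
  have e1 := congrFun e 1
  rw [ee0] at e0
  rw [ee1] at e1
  have h2 := h0 0
  have h3 := h0 1
  simp only [Pi.zero_apply] at h2 h3
  have hw : wt (ng a) + wt (ng b) = -(wt a + wt b) := by rw [wt_ng, wt_ng, neg_add]
  obtain ⟨h4, h5, h6, h7⟩ := pos_cases hab.ng (by rw [hw, Pi.neg_apply]; omega)
    (by rw [hw, Pi.neg_apply, Pi.neg_apply]; omega)
  refine pg_le Fr false hab ?_ ?_ ?_ ?_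
  · rintro rfl; exact h4 rfl
  · rintro rfl; exact h5 rfl
  · rintro rfl
    have h8 := h6 rfl
    rw [← ng_ng b, h8]
    rfl
  · rintro rfl
    have h8 := h7 rfl
    rw [← ng_ng a, h8]
    rfl

end Roots

/-! ### the coordinate function -/

/-- the second coordinate function -/
def F2 (g : V ≃ₗ[K] V) : K :=
  H.h (g (Fr.b (0, true))) (Fr.b (0, false)) * H.h (g (Fr.b (1, true))) (Fr.b (1, false)) -
    H.h (g (Fr.b (0, true))) (Fr.b (1, false)) * H.h (g (Fr.b (1, true))) (Fr.b (0, false))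

variable {Fr}

theorem F2_mul_up {u : V ≃ₗ[K] V} (hu : u ∈ SFl Fr true) (g : V ≃ₗ[K] V) : F2 Fr (g * u) = F2 Fr g := by
  obtain ⟨-, h0, a, h1⟩ := hu
  unfold F2
  simp only [mul_apply']
  rw [h0, h1, map_add, map_smul, H.add_left, H.add_left, H.smul_left, H.smul_left]
  ring

theorem lo_coord {u : V ≃ₗ[K] V} (hu : u ∈ SFl Fr false) :
    ∃ a : K, ∀ v, H.h (u v) (Fr.b (0, false)) = H.h v (Fr.b (0, false)) ∧
      H.h (u v) (Fr.b (1, false)) = H.h v (Fr.b (1, false)) + a * H.h v (Fr.b (0, false)) := by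
  obtain ⟨hi, h0, a, h1⟩ := (SFl Fr false).inv_mem hu
  have key : ∀ v w : V, H.h (u v) w = H.h v (u⁻¹ w) := by
    intro v w
    rw [← hi (u v) w]
    congr 1
    exact u.symm_apply_apply v
  refine ⟨H.σ a, fun v => ⟨?_, ?_⟩⟩
  · rw [key, h0]
  · rw [key, h1, H.add_right, H.smul_right]

theorem F2_lo_mul {u : V ≃ₗ[K] V} (hu : u ∈ SFl Fr false) (g : V ≃ₗ[K] V) : F2 Fr (u * g) = F2 Fr g := by
  obtain ⟨a, ha⟩ := lo_coord hu
  unfold F2
  simp only [mul_apply']
  rw [(ha _).1, (ha _).2, (ha _).1, (ha _).2]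
  ring

theorem F2_one : F2 Fr 1 = 1 := by
  unfold F2
  change H.h (Fr.b (0, true)) _ * H.h (Fr.b (1, true)) _ - H.h (Fr.b (0, true)) _ * H.h (Fr.b (1, true)) _ = 1
  rw [Fr.hb, Fr.hb, Fr.hb, Fr.hb]
  simp

/-- the coordinates of the frame vectors -/
theorem h_b_false (x : Fin 2 × Bool) (i : Fin 2) : H.h (Fr.b x) (Fr.b (i, false)) = if x = (i, true) then 1 else 0 := by
  obtain ⟨j, s⟩ := x
  rw [Fr.hb]
  by_cases h : j = i
  · subst h
    cases s <;> simp
  · rw [if_neg (fun h' => h h'.1), if_neg (fun h' => h (congrArg Prod.fst h'))]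

/-- multiplication by an element of the torus -/
theorem F2_mul_tor {g t : V ≃ₗ[K] V} (ht : Mono Fr t id) : F2 Fr (g * t) = F2 Fr g * F2 Fr t := by
  obtain ⟨l, -, e0⟩ := ht (0, true)
  obtain ⟨m, -, e1⟩ := ht (1, true)
  have e0' : t (Fr.b (0, true)) = l • Fr.b (0, true) := e0
  have e1' : t (Fr.b (1, true)) = m • Fr.b (1, true) := e1
  unfold F2
  simp only [mul_apply']
  rw [e0', e1', map_smul, map_smul]
  simp only [H.smul_left, h_b_false]
  simp
  ring

section Pi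

variable {W : Type*} [Group W] {cs : CoxeterSystem (CoxeterMatrix.B 2) W} {Y : Type*} [Group Y]
  {T : Subgroup Y} {n : Fin 2 → Y} (hN : NSys (CoxeterMatrix.B 2) T n) {τ : Y →* (V ≃ₗ[K] V)}
  (hT : ∀ t ∈ T, Mono Fr (τ t) id) (hn : ∀ i, Mono Fr (τ (n i)) (Cfsg.Agent.Nodes.TypeC.sg i))
include hT hn

theorem exists_pi (w : W) : ∃ π : Fin 2 × Bool → Fin 2 × Bool, H905.Md.Act cs w π ∧ (∀ x, π (ng x) = ng (π x)) ∧
    Function.Injective π ∧ ∀ k : Y, Rp cs hN w k → Mono Fr (τ k) π := by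
  have hmain := cs.simple_induction_left (p := fun w => ∃ π : Fin 2 × Bool → Fin 2 × Bool, H905.Md.Act cs w π ∧
    (∀ x, π (ng x) = ng (π x)) ∧ Function.Injective π ∧
    ∀ k : Y, Rp cs hN w k → Mono Fr (τ k) π) w
  refine hmain ?_ fun w i ih => ?_
  · refine ⟨id, H905.Md.Act.one, fun _ => rfl, Function.injective_id, fun k hk => ?_⟩
    exact hT _ hk.mem_of_one
  · obtain ⟨π, h1, h2, h3, h4⟩ := ih
    refine ⟨fun x => sg i (π x), (H905.Md.act_simple i).mul h1, fun x => ?_, fun x y hxy => ?_, fun k hk => ?_⟩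
    · change sg i (π (ng x)) = _
      rw [h2, sg_ng]
    · apply h3
      have h5 : sg i (sg i (π x)) = sg i (sg i (π y)) := congrArg (sg i) hxy
      rwa [sg_sg, sg_sg] at h5
    · have h5 := (rp_simple cs hN i).inv.mul hk
      rw [inv_mul_cancel_left] at h5
      have h6 := (hn i).mul (h4 _ h5)
      rwa [← map_mul, mul_inv_cancel_left] at h6

omit hT hn in
theorem rep_coord (w : W) (x : Fin 2 → ℤ) (i : Fin 2) : rep cs (isCartan 2) w x i =
    x 0 * rep cs (isCartan 2) w (sr 0) i + x 1 * rep cs (isCartan 2) w (sr 1) i := by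
  have h1 : x = x 0 • sr 0 + x 1 • sr 1 := by
    funext j
    (revert j; simp only [sr, _root_.Fin.forall_fin_succ, Fin.isValue, _root_.zsmul_eq_mul, _root_.Pi.add_apply, _root_.Pi.mul_apply, _root_.Pi.intCast_apply, _root_.Int.cast_eq, _root_.Pi.single_eq_same, _root_.mul_one, _root_.ne_eq, _root_.zero_ne_one, _root_.not_false_eq_true, _root_.Pi.single_eq_of_ne, _root_.MulZeroClass.mul_zero, _root_.add_zero, _root_.Fin.succ_ne_zero, _root_.zero_add, _root_.Fin.succ_zero_eq_one, _root_.IsEmpty.forall_iff, _root_.and_self])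
  conv_lhs => rw [h1]
  rw [map_add, map_smul, map_smul]
  rfl

omit hT hn in
theorem act_sr {w : W} {π : Fin 2 × Bool → Fin 2 × Bool} (h : H905.Md.Act cs w π) (i : Fin 2) :
    Cfsg.Agent.Nodes.TypeC.ee (rep cs (isCartan 2) w (sr i)) = wt (π (i, true)) + wt (π (nx i)) :=
  h _ _ _ (ee_sr i)

/-- the second coordinate function -/
theorem of_F2 {w : W} {k : Y} (hk : Rp cs hN w k) (h : F2 Fr (τ k) ≠ 0) (x : Fin 2 → ℤ) :
    rep cs (isCartan 2) w x 1 = x 1 := by
  obtain ⟨π, h1, h2, h3, h4⟩ := exists_pi hN hT hn w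
  obtain ⟨l, hl, e⟩ := h4 k hk (0, true)
  obtain ⟨l', hl', e'⟩ := h4 k hk (1, true)
  have h5 : (π (0, true) = (0, true) ∧ π (1, true) = (1, true)) ∨
      (π (0, true) = (1, true) ∧ π (1, true) = (0, true)) := by
    by_contra hne
    apply h
    unfold F2
    rw [e, e']
    simp only [H.smul_left, h_b_false]
    by_cases c1 : π (0, true) = (0, true)
    · have c2 : ¬ π (1, true) = (1, true) := fun c => hne (Or.inl ⟨c1, c⟩)
      have c3 : ¬ π (0, true) = (1, true) := by rw [c1]; simp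
      rw [if_neg c2, if_neg c3]
      simp
    · rw [if_neg c1]
      by_cases c2 : π (0, true) = (1, true)
      · have c3 : ¬ π (1, true) = (0, true) := fun c => hne (Or.inr ⟨c2, c⟩)
        rw [if_neg c3]
        simp
      · rw [if_neg c2]
        simp
  have key : ∀ y : Fin 2 → ℤ, 2 * y 1 = Cfsg.Agent.Nodes.TypeC.ee y 0 + Cfsg.Agent.Nodes.TypeC.ee y 1 := by
    intro y
    rw [ee0, ee1]; ring
  have h9 : (nx (0 : Fin 2)) = ng (1, true) := rfl
  have h10 : (nx (1 : Fin 2)) = (1, true) := rfl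
  have h11 := key (rep cs (isCartan 2) w (sr 0))
  have h12 := key (rep cs (isCartan 2) w (sr 1))
  rw [act_sr h1, h9, h2, wt_ng] at h11
  rw [act_sr h1, h10] at h12
  rw [rep_coord]
  rcases h5 with ⟨c1, c2⟩ | ⟨c1, c2⟩
  · rw [c1, c2] at h11
    rw [c2] at h12
    simp only [wt_apply, _root_.Fin.isValue, _root_.Pi.add_apply, ↓ _root_.reduceIte, _root_.Pi.neg_apply, _root_.zero_ne_one, _root_.neg_zero, _root_.add_zero, _root_.one_ne_zero, _root_.Int.reduceNeg, _root_.zero_add, _root_.add_neg_cancel, _root_.mul_eq_zero, _root_.OfNat.ofNat_ne_zero, _root_.false_or, _root_.Int.reduceAdd, _root_.ne_eq, _root_.not_false_eq_true, _root_.mul_eq_left₀] at h11 h12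
    rw [h11]
    have h13 : rep cs (isCartan 2) w (sr 1) 1 = 1 := by omega
    rw [h13]
    ring
  · rw [c1, c2] at h11
    rw [c2] at h12
    simp only [wt_apply, _root_.Fin.isValue, _root_.Pi.add_apply, _root_.zero_ne_one, ↓ _root_.reduceIte, _root_.Pi.neg_apply, _root_.Int.reduceNeg, _root_.zero_add, _root_.one_ne_zero, _root_.neg_zero, _root_.add_zero, _root_.neg_add_cancel, _root_.mul_eq_zero, _root_.OfNat.ofNat_ne_zero, _root_.false_or, _root_.Int.reduceAdd, _root_.ne_eq, _root_.not_false_eq_true, _root_.mul_eq_left₀] at h11 h12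
    rw [h11]
    have h13 : rep cs (isCartan 2) w (sr 1) 1 = 1 := by omega
    rw [h13]
    ring

end Pi

end Cfsg.Agent.H269.Ppd
end

-- part: H269/Ppd/Master
section
/-!
# The matrix coefficient for the type `J = {0}` in type `B_2` (helper269)

* `fix_of_mem` : the rank one group of a node of `J` fixes `V^U`;
* **`master`** : `φ (g c) = φ(c) j(F2 g) ^ c₂`;
* `mem_WJ_sub`.
-/

set_option autoImplicit false
set_option linter.unusedSectionVars false
set_option linter.style.haveILetI false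

namespace Cfsg.Agent.H269.Ppd

open CoxeterSystem Cfsg.Agent.ChevalleyStructure.CoxeterGeom Cfsg.Agent.Tits.Roots Cfsg.Agent.Nodes.TypeC
open Cfsg.Agent.Nodes.Comb Cfsg.Agent.Nodes.Reps Cfsg.Agent.Nodes.WittRoot Cfsg.Agent.Nodes.BNOf
open Cfsg.Agent.Nodes.WittRGD Cfsg.Agent.Nodes.RGDLib Cfsg.Agent.Nodes.OppDec Cfsg.Agent.Nodes.Bruhat
open Cfsg.Agent.Omega.CR Cfsg.Agent.Omega.FOne.Lift.Sd Cfsg.Agent.Nodes.StabComb Cfsg.Agent.Tits.Core
open Cfsg.Agent.Tits.Exchange Cfsg.Agent.H905.Md Cfsg.Agent.KFacts.RgdOpp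
open Cfsg.Agent.TitsThree Cfsg.Agent.TitsThree.Siegel Cfsg.Agent.TitsThree.WittFrame
  Cfsg.Agent.TitsThree.WittWeyl Cfsg.Agent.TitsThree.FrameCN

section Gen

variable {I W Y : Type*} [Fintype I] [DecidableEq I] [Group W] [Group Y] {M : CoxeterMatrix I}
  {cs : CoxeterSystem M W} {A : I → I → ℤ} {h : IsCartan M A} {p : ℕ} {T : Subgroup Y} {n : I → Y}
  {X : (I → ℤ) → Subgroup Y} {k E : Type*} [Field k] [AddCommGroup E] [Module k E] {ρ : Y →* Module.End k E}

/-- the rank one group of a node of `J` fixes `V^U` -/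
theorem fix_of_mem {i : I} (hi : i ∈ Jx cs h X ρ) {c : E} (hc : c ∈ D cs h X ρ) {y : Y}
    (hy : y ∈ X (sr i) ⊔ X (-sr i)) : ρ y c = c := by
  have h2 : c ∈ fx ρ (X (sr i) ⊔ X (-sr i)) := by
    rw [fx_sup]
    refine ⟨fun b hb => ?_, fun b hb => hi b hb c hc⟩
    exact hc b (RGD.le_Sup (S := RGD.Pos cs h) ⟨isRoot_sr cs _ i, sr_nonneg i⟩ hb)
  exact h2 y hy

theorem chi_mul {c : E} (hc0 : c ≠ 0) {χ : Y → k} (hχ : ∀ t ∈ T, ρ t c = χ t • c) {t t' : Y} (ht : t ∈ T)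
    (ht' : t' ∈ T) : χ (t * t') = χ t * χ t' := by
  have h1 := hχ _ (mul_mem ht ht')
  rw [rho_mul, hχ t' ht', map_smul, hχ t ht, smul_smul, mul_comm] at h1
  exact (smul_left_injective k hc0 h1).symm

theorem chi_one {c : E} (hc0 : c ≠ 0) {χ : Y → k} (hχ : ∀ t ∈ T, ρ t c = χ t • c) : χ 1 = 1 := by
  have h1 := hχ 1 (one_mem _)
  rw [map_one] at h1
  have h2 : (1 : k) • c = χ 1 • c := by rw [one_smul]; exact h1
  exact (smul_left_injective k hc0 h2).symm

theorem mem_WJ_sub {J : Set I} {i : I} (hJ : J ⊆ {i}) {w : W} (hw : w ∈ WJ cs J) :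
    w = 1 ∨ (i ∈ J ∧ w = cs.simple i) := by
  unfold WJ at hw
  induction hw using Subgroup.closure_induction with
  | mem x hx =>
    obtain ⟨j, hj, rfl⟩ := hx
    have h1 : j = i := hJ hj
    subst h1
    exact Or.inr ⟨hj, rfl⟩
  | one => exact Or.inl rfl
  | mul x y _ _ hx hy =>
    rcases hx with rfl | ⟨h1, rfl⟩
    · rw [one_mul]; exact hy
    · rcases hy with rfl | ⟨h2, rfl⟩
      · rw [mul_one]; exact Or.inr ⟨h1, rfl⟩
      · rw [cs.simple_mul_simple_self]; exact Or.inl rfl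
  | inv x _ hx =>
    rcases hx with rfl | ⟨h1, rfl⟩
    · exact Or.inl inv_one
    · rw [cs.inv_simple]; exact Or.inr ⟨h1, rfl⟩

end Gen

section B2

variable {K : Type*} [Field K] {V : Type*} [AddCommGroup V] [Module K V] {H : HForm K V} {Fr : Frame H (Fin 2)}
  {W Y : Type*} [Group W] [Group Y] {cs : CoxeterSystem (CoxeterMatrix.B 2) W} {p : ℕ} {T : Subgroup Y}
  {n : Fin 2 → Y} {X : (Fin 2 → ℤ) → Subgroup Y}

/-- The realisation of `Y` as a group of isometries of a frame of rank two. -/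
structure Real (Fr : Frame H (Fin 2)) (T : Subgroup Y) (n : Fin 2 → Y) (X : (Fin 2 → ℤ) → Subgroup Y)
    (τ : Y →* (V ≃ₗ[K] V)) : Prop where
  tor : ∀ t ∈ T, Mono Fr (τ t) id
  mono : ∀ i, Mono Fr (τ (n i)) (Cfsg.Agent.Nodes.TypeC.sg i)
  root : ∀ x, ∀ y ∈ X x, τ y ∈ rg Fr x
  sup : ∀ i, n i ∈ X (sr i) ⊔ X (-sr i)
  n0 : τ (n 0) (Fr.b (0, true)) = -Fr.b (1, true)
  n0' : τ (n 0) (Fr.b (1, true)) = Fr.b (0, true)

variable {τ : Y →* (V ≃ₗ[K] V)} (hR : Real Fr T n X τ)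
include hR

theorem Real.U_le {u : Y} (hu : u ∈ RGD.Sup X (RGD.Pos cs (isCartan 2))) : τ u ∈ SFl Fr true := by
  have h1 : RGD.Sup X (RGD.Pos cs (isCartan 2)) ≤ (SFl Fr true).comap τ :=
    RGD.Sup_le fun x hx g hg => rg_le_up Fr hx.1 hx.2 (hR.root x g hg)
  exact h1 hu

theorem Real.UN_le {u : Y} (hu : u ∈ UN cs (isCartan 2) X) : τ u ∈ SFl Fr false := by
  have h1 : UN cs (isCartan 2) X ≤ (SFl Fr false).comap τ := by
    unfold UN
    exact RGD.Sup_le fun x hx g hg => rg_le_lo Fr hx.1 hx.2 (hR.root x g hg)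
  exact h1 hu

theorem Real.F2_mul_n0 (g : V ≃ₗ[K] V) : F2 Fr (g * τ (n 0)) = F2 Fr g := by
  unfold F2
  simp only [mul_apply']
  rw [hR.n0, hR.n0', map_neg, H.neg_left, H.neg_left]
  ring

variable (R : RGD cs (isCartan 2) p T n X) [Finite Y] [Finite W] [Fact p.Prime] {k E : Type*} [Field k] [CharP k p]
  [AddCommGroup E] [Module k E] [FiniteDimensional k E] [Nontrivial E] {ρ : Y →* Module.End k E}
  (hirr : ∀ L : Submodule k E, Ivt ρ (GG cs (isCartan 2) T X) L → L = ⊥ ∨ L = ⊤)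
  {c : E} (hc : c ∈ D cs (isCartan 2) X ρ) (hc0 : c ≠ 0) {χ : Y → k} (hχ : ∀ t ∈ T, ρ t c = χ t • c)
  {j : K →+* k} {c₂ : ℕ} (hc2 : c₂ ≠ 0) (h0 : (0 : Fin 2) ∈ Jx cs (isCartan 2) X ρ)
  (h1 : (1 : Fin 2) ∉ Jx cs (isCartan 2) X ρ) (hχ2 : ∀ t ∈ T, χ t = j (F2 Fr (τ t)) ^ c₂) {φ : Module.Dual k E}
  (hφ : φ ∈ fx ((dualRep ρ :)) (UN cs (isCartan 2) X))
include R hirr hc hc0 hχ hc2 h0 h1 hχ2 hφ

theorem Real.coeff_rp {w : W} {y : Y} (hy : Rp cs R.nsys w y) : φ (ρ y c) = φ c * j (F2 Fr (τ y)) ^ c₂ := by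
  by_cases hw : w ∈ WJ cs (Jx cs (isCartan 2) X ρ)
  · have hmain : ρ y c = (j (F2 Fr (τ y)) ^ c₂) • c := by
      have hJ : Jx cs (isCartan 2) X ρ ⊆ {0} := by
        intro x hx
        fin_cases x
        · rfl
        · exact absurd hx h1
      rcases mem_WJ_sub hJ hw with rfl | ⟨-, rfl⟩
      · have ht := hy.mem_of_one
        rw [hχ y ht, hχ2 y ht]
      · have ht := (hy.mul (rp_simple cs R.nsys 0).inv)
        rw [mul_inv_cancel] at ht
        have ht' := ht.mem_of_one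
        have e : y = (y * (n 0)⁻¹) * n 0 := by group
        have hn : ρ (n 0) c = c := fix_of_mem h0 hc (hR.sup 0)
        have h3 : F2 Fr (τ y) = F2 Fr (τ (y * (n 0)⁻¹)) := by
          conv_lhs => rw [e, map_mul]
          exact hR.F2_mul_n0 _
        conv_lhs => rw [e, rho_mul, hn, hχ _ ht', hχ2 _ ht']
        rw [h3]
    rw [hmain, map_smul, smul_eq_mul, mul_comm]
  · have h3 : φ (ρ y c) = 0 := by
      by_contra hne
      exact hw (mem_WJ_of_pair R hirr hφ hy hc hne)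
    rw [h3]
    symm
    by_contra hne
    apply hw
    rw [mem_WJ_iff]
    have h4 : j (F2 Fr (τ y)) ^ c₂ ≠ 0 := fun h => hne (by rw [h, mul_zero])
    intro x i hi
    fin_cases i
    · exact absurd h0 hi
    · have h6 : F2 Fr (τ y) ≠ 0 := by
        intro h
        apply h4
        rw [h, map_zero, zero_pow hc2]
      exact of_F2 R.nsys hR.tor hR.mono hy h6 x

/-- **The matrix coefficient.** -/
theorem Real.master (hG : GG cs (isCartan 2) T X = ⊤) {v0 : W} (hv : ∀ x, rep cs (isCartan 2) v0 x = -x) (y : Y) :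
    φ (ρ y c) = φ c * j (F2 Fr (τ y)) ^ c₂ := by
  refine coeff_eq R hv hφ hc (F := fun y => φ c * j (F2 Fr (τ y)) ^ c₂) (fun a ha g => ?_) (fun u hu g => ?_)
    (fun w z hz => hR.coeff_rp R hirr hc hc0 hχ hc2 h0 h1 hχ2 hφ hz) (g := y) (by rw [hG]; trivial)
  · change φ c * j (F2 Fr (τ (a * g))) ^ c₂ = _
    rw [map_mul, F2_lo_mul (hR.UN_le ha)]
  · change φ c * j (F2 Fr (τ (g * u))) ^ c₂ = _
    rw [map_mul, F2_mul_up (hR.U_le hu)]

end B2

end Cfsg.Agent.H269.Ppd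
end

-- part: H269/Ppd/Siegel
section
/-!
# The second coordinate function: the Siegel unipotent and the Plücker expansion (helper269)

* `F2_siegel` : the value of `F2` on `Z_0(p) Z_1(p') X(t) g`, `g e_i` a multiple of `f_i`;
* `F2_plucker` : `F2 (g h)` is a sum of six products;
* **`finrank_le_six`** : `φ (ρ y c) = d j(F2 (τ y)) ^ (p ^ i)` implies `dim E ≤ 6`.
-/

set_option autoImplicit false
set_option linter.unusedSectionVars false
set_option linter.style.haveILetI false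

namespace Cfsg.Agent.H269.Ppd

open CoxeterSystem Cfsg.Agent.ChevalleyStructure.CoxeterGeom Cfsg.Agent.Tits.Roots Cfsg.Agent.Nodes.TypeC
open Cfsg.Agent.Nodes.Comb Cfsg.Agent.Nodes.Reps Cfsg.Agent.Nodes.WittRoot Cfsg.Agent.Nodes.BNOf
open Cfsg.Agent.Nodes.WittRGD Cfsg.Agent.Nodes.RGDLib Cfsg.Agent.Nodes.OppDec Cfsg.Agent.Nodes.Bruhat
open Cfsg.Agent.Omega.CR Cfsg.Agent.Omega.FOne.Lift.Sd Cfsg.Agent.Nodes.StabComb Cfsg.Agent.Tits.Core
open Cfsg.Agent.Tits.Exchange Cfsg.Agent.H905.Md Cfsg.Agent.KFacts.RgdOpp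
open Cfsg.Agent.TitsThree Cfsg.Agent.TitsThree.Siegel Cfsg.Agent.TitsThree.WittFrame
  Cfsg.Agent.TitsThree.WittWeyl Cfsg.Agent.TitsThree.FrameCN

variable {K : Type*} [Field K] {V : Type*} [AddCommGroup V] [Module K V] {H : HForm K V} {Fr : Frame H (Fin 2)}

/-- **the value on the Siegel unipotent** -/
theorem F2_siegel {g : V ≃ₗ[K] V} {l m : K} (h0 : g (Fr.b (0, true)) = l • Fr.b (0, false))
    (h1 : g (Fr.b (1, true)) = m • Fr.b (1, false)) {p p' : Fr.Adm} (hp : p.w = 0) (hp' : p'.w = 0) (t : K) :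
    F2 Fr (Fr.Z (0, true) p * Fr.Z (1, true) p' * Fr.X (0, true) (1, true) t * g) =
      l * m * (Fr.η (0, true) * Fr.η (1, true) * (p.c * p'.c) +
        H.ε⁻¹ * Fr.η (0, true) * Fr.η (1, true) * (H.σ t * t)) := by
  have hne : ((0, true) : Fin 2 × Bool).1 ≠ ((1, true) : Fin 2 × Bool).1 := by decide
  have a1 : Fr.X (0, true) (1, true) t (Fr.b (0, false)) = Fr.b (0, false) -
      (H.ε⁻¹ * Fr.η (0, true) * Fr.η (1, true) * H.σ t) • Fr.b (1, true) := X_apply_neg' Fr hne t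
  have a2 : Fr.X (0, true) (1, true) t (Fr.b (1, false)) = Fr.b (1, false) + t • Fr.b (0, true) := X_apply_neg Fr hne t
  have b1 : Fr.Z (1, true) p' (Fr.b (0, false)) = Fr.b (0, false) := Z_apply_of_ne Fr (by simp [neg]) p'
  have b2 : Fr.Z (1, true) p' (Fr.b (1, true)) = Fr.b (1, true) := Z_apply_of_ne Fr (by simp [neg]) p'
  have b3 : Fr.Z (1, true) p' (Fr.b (0, true)) = Fr.b (0, true) := Z_apply_of_ne Fr (by simp [neg]) p'
  have b4 : Fr.Z (1, true) p' (Fr.b (1, false)) = Fr.b (1, false) + (p'.c * Fr.η (1, true)) • Fr.b (1, true) := by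
    have := Z_apply_neg Fr (1, true) p'
    rw [hp', smul_zero, add_zero] at this
    exact this
  have c1 : Fr.Z (0, true) p (Fr.b (0, false)) = Fr.b (0, false) + (p.c * Fr.η (0, true)) • Fr.b (0, true) := by
    have := Z_apply_neg Fr (0, true) p
    rw [hp, smul_zero, add_zero] at this
    exact this
  have c2 : Fr.Z (0, true) p (Fr.b (1, true)) = Fr.b (1, true) := Z_apply_of_ne Fr (by simp [neg]) p
  have c3 : Fr.Z (0, true) p (Fr.b (0, true)) = Fr.b (0, true) := Z_apply_of_ne Fr (by simp [neg]) p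
  have c4 : Fr.Z (0, true) p (Fr.b (1, false)) = Fr.b (1, false) := Z_apply_of_ne Fr (by simp [neg]) p
  unfold F2
  simp only [mul_apply']
  rw [h0, h1]
  simp only [map_smul, map_sub, map_add, a1, a2, b1, b2, b3, b4, c1, c2, c3, c4]
  simp only [H.smul_left, H.sub_left, H.add_left, h_b_false]
  simp only [_root_.Fin.isValue, _root_.Prod.mk.injEq, _root_.Bool.false_eq_true, _root_.and_false, ↓ _root_.reduceIte, _root_.mul_one, _root_.zero_add, _root_.one_ne_zero, _root_.and_true, _root_.MulZeroClass.mul_zero, _root_.sub_zero, _root_.zero_ne_one, _root_.add_zero, _root_.and_self, _root_.zero_sub, _root_.mul_neg, _root_.neg_mul, _root_.sub_neg_eq_add]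
  ring

/-- the Plücker expansion -/
theorem F2_plucker {h : V ≃ₗ[K] V} {a a' : Fin 2 × Bool → K} (h0 : h (Fr.b (0, true)) = ∑ x, a x • Fr.b x)
    (h1 : h (Fr.b (1, true)) = ∑ x, a' x • Fr.b x) (g : V ≃ₗ[K] V) :
    F2 Fr (g * h) =
      (a (0, true) * a' (1, true) - a (1, true) * a' (0, true)) *
        (H.h (g (Fr.b (0, true))) (Fr.b (0, false)) * H.h (g (Fr.b (1, true))) (Fr.b (1, false)) -
          H.h (g (Fr.b (1, true))) (Fr.b (0, false)) * H.h (g (Fr.b (0, true))) (Fr.b (1, false))) +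
      (a (0, true) * a' (0, false) - a (0, false) * a' (0, true)) *
        (H.h (g (Fr.b (0, true))) (Fr.b (0, false)) * H.h (g (Fr.b (0, false))) (Fr.b (1, false)) -
          H.h (g (Fr.b (0, false))) (Fr.b (0, false)) * H.h (g (Fr.b (0, true))) (Fr.b (1, false))) +
      (a (0, true) * a' (1, false) - a (1, false) * a' (0, true)) *
        (H.h (g (Fr.b (0, true))) (Fr.b (0, false)) * H.h (g (Fr.b (1, false))) (Fr.b (1, false)) -
          H.h (g (Fr.b (1, false))) (Fr.b (0, false)) * H.h (g (Fr.b (0, true))) (Fr.b (1, false))) +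
      (a (1, true) * a' (0, false) - a (0, false) * a' (1, true)) *
        (H.h (g (Fr.b (1, true))) (Fr.b (0, false)) * H.h (g (Fr.b (0, false))) (Fr.b (1, false)) -
          H.h (g (Fr.b (0, false))) (Fr.b (0, false)) * H.h (g (Fr.b (1, true))) (Fr.b (1, false))) +
      (a (1, true) * a' (1, false) - a (1, false) * a' (1, true)) *
        (H.h (g (Fr.b (1, true))) (Fr.b (0, false)) * H.h (g (Fr.b (1, false))) (Fr.b (1, false)) -
          H.h (g (Fr.b (1, false))) (Fr.b (0, false)) * H.h (g (Fr.b (1, true))) (Fr.b (1, false))) +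
      (a (0, false) * a' (1, false) - a (1, false) * a' (0, false)) *
        (H.h (g (Fr.b (0, false))) (Fr.b (0, false)) * H.h (g (Fr.b (1, false))) (Fr.b (1, false)) -
          H.h (g (Fr.b (1, false))) (Fr.b (0, false)) * H.h (g (Fr.b (0, false))) (Fr.b (1, false))) := by
  have hsum : ∀ f : Fin 2 × Bool → V, ∑ x, f x = f (0, true) + f (0, false) + (f (1, true) + f (1, false)) := by
    intro f
    rw [Fintype.sum_prod_type, Fin.sum_univ_two, Fintype.sum_bool, Fintype.sum_bool]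
  unfold F2
  simp only [mul_apply']
  rw [h0, h1, hsum, hsum]
  simp only [map_smul, map_add, H.smul_left, H.add_left]
  ring

section kernel

variable {Y k E : Type*} [Group Y] [Field k] [AddCommGroup E] [Module k E] [FiniteDimensional k E]
  {ρ : Y →* Module.End k E} {τ : Y →* (V ≃ₗ[K] V)}

/-- **The exponent `p ^ i`: dimension at most six.** -/
theorem finrank_le_six (p : ℕ) [hp : Fact p.Prime] [CharP k p]
    (hsp : ∀ v : V, ∃ a : Fin 2 × Bool → K, v = ∑ x, a x • Fr.b x)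
    (hirr : ∀ L : Submodule k E, Ivt ρ ⊤ L → L = ⊥ ∨ L = ⊤) (j : K →+* k) {i : ℕ} {c : E} (hc0 : c ≠ 0)
    {φ : Module.Dual k E} (hφ0 : φ ≠ 0) {d : k}
    (hcoef : ∀ y : Y, φ (ρ y c) = d * j (F2 Fr (τ y)) ^ p ^ i) : Module.finrank k E ≤ 6 := by
  obtain ⟨j', hj'⟩ : ∃ j' : K →+* k, ∀ x, j' x = j x ^ p ^ i := by
    have : ExpChar k p := ExpChar.prime hp.out
    exact ⟨(iterateFrobenius k p i).comp j, fun x => iterateFrobenius_def _ _ _⟩
  choose C hC using hsp
  let B : Y → Fin 2 × Bool → Fin 2 × Bool → K := fun y x z =>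
    H.h (τ y (Fr.b x)) (Fr.b (0, false)) * H.h (τ y (Fr.b z)) (Fr.b (1, false)) -
      H.h (τ y (Fr.b z)) (Fr.b (0, false)) * H.h (τ y (Fr.b x)) (Fr.b (1, false))
  let A : Y → Fin 2 × Bool → Fin 2 × Bool → K := fun y x z =>
    C (τ y (Fr.b (0, true))) x * C (τ y (Fr.b (1, true))) z - C (τ y (Fr.b (0, true))) z * C (τ y (Fr.b (1, true))) x
  have h1 := finrank_le_of_kernel (G := ⊤) hirr hc0 hφ0 (α := Fin 6)
    (fun g => ![d * j' (B g (0, true) (1, true)), d * j' (B g (0, true) (0, false)), d * j' (B g (0, true) (1, false)),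
      d * j' (B g (1, true) (0, false)), d * j' (B g (1, true) (1, false)), d * j' (B g (0, false) (1, false))])
    (fun h => ![j' (A h (0, true) (1, true)), j' (A h (0, true) (0, false)), j' (A h (0, true) (1, false)),
      j' (A h (1, true) (0, false)), j' (A h (1, true) (1, false)), j' (A h (0, false) (1, false))])
    (fun g _ h _ => by
      rw [hcoef, ← hj', map_mul τ g h, F2_plucker (hC (τ h (Fr.b (0, true)))) (hC (τ h (Fr.b (1, true))))]
      simp only [Fin.sum_univ_succ, Matrix.cons_val_zero, Matrix.cons_val_succ, Fin.sum_univ_zero, map_add, map_mul, A, B]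
      ring)
  simpa using h1

end kernel

end Cfsg.Agent.H269.Ppd
end

-- part: H269/Ppd/SUFour
section
/-!
# The groups `SU_4(q)`: rank one groups, torus, realisation (helper269)

`W` a Witt frame of rank two with `V0 = ⊥` of the hermitian space of dimension `N`.

* `node_zero`, `node_one` : `SL_2(K)` and `SL_2(q)` at the two nodes (`Nd` of helper650);
* `chi_eq` : `χ(t) = j(F2 t) ^ c₂` on the torus if `0 ∈ J`;
* `real` : the realisation.
-/

set_option autoImplicit false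
set_option linter.unusedSectionVars false
set_option linter.style.haveILetI false

namespace Cfsg.Agent.H269.Ppd

open Matrix (SpecialLinearGroup)
open CoxeterSystem Cfsg.Agent.ChevalleyStructure.CoxeterGeom Cfsg.Agent.Tits.Roots Cfsg.Agent.Nodes.TypeC
open Cfsg.Agent.Nodes Cfsg.Agent.Nodes.Comb Cfsg.Agent.Nodes.Reps Cfsg.Agent.Nodes.WittRoot Cfsg.Agent.Nodes.BNOf
open Cfsg.Agent.Nodes.WittRGD Cfsg.Agent.Nodes.RGDLib Cfsg.Agent.Nodes.OppDec Cfsg.Agent.Nodes.Bruhat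
open Cfsg.Agent.Omega.CR Cfsg.Agent.Omega.FOne.Lift.Sd Cfsg.Agent.Nodes.StabComb Cfsg.Agent.Tits.Core
open Cfsg.Agent.Tits.Exchange Cfsg.Agent.H905.Md Cfsg.Agent.KFacts.RgdOpp
open Cfsg.Agent.TitsThree Cfsg.Agent.TitsThree.Siegel Cfsg.Agent.TitsThree.SiegelGen
  Cfsg.Agent.TitsThree.WittFrame Cfsg.Agent.TitsThree.WittWeyl Cfsg.Agent.TitsThree.FrameCN
  Cfsg.Agent.TitsThree.WBridge Cfsg.Agent.TitsThree.KSideU Cfsg.Agent.TitsThree.KSideUDesc
open Cfsg.Agent.Nodes.WittAll (AmbT rgdC_model)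
open Cfsg.Agent.Nodes.WittU (amb_U exists_adm)
open Cfsg.Agent.LieClassical.HermBasic
open Cfsg.Agent.H61.SUCross (modelSU T_eq X_eq Lv_eq Nv_le exists_delta)
open Cfsg.Agent.H61.SUNode (Nv)
open Cfsg.Agent.H650.Ppd (Nd)
open Cfsg.Agent.H62.FrameSL (phiS phiS_up phiS_lo phiS_e phiS_e' phiS_range phiS_apply linS_apply)
open Cfsg.Agent.H911.SLTwo (U Lo hh)
open Cfsg.Agent.Phan (fixedField mem_fixedField card_fixedField)
open Cfsg

variable {K : Type} [Field K] [Fintype K] {q N : ℕ} {hK : Fintype.card K = q ^ 2} (hN : 3 ≤ N)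
  (W : WFrame (PU hK N) 2)

theorem h01 : (0 : Fin 2) ≠ 1 := by decide

section lift

variable {A : Type*} [Group A]

/-- lift of a homomorphism into the isometries to `SU` -/
noncomputable def liftSU (f : A →* ((Fin N → K) ≃ₗ[K] (Fin N → K))) (hf : ∀ a, f a ∈ IU K q N) : A →* SU N K q :=
  (ofRange K q N).toMonoidHom.comp (f.codRestrict (IU K q N) hf)

theorem toLin_liftSU (f : A →* ((Fin N → K) ≃ₗ[K] (Fin N → K))) (hf : ∀ a, f a ∈ IU K q N) (a : A) :
    toLin K q N (liftSU f hf a) = f a := toLin_ofRange _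

end lift

theorem mem_X4 {x : Fin 2 → ℤ} {y : SU N K q} :
    y ∈ WittModel.X (modelSU hK hN W) x ↔ toLin K q N y ∈ rg (toFrame W) x := by
  rw [X_eq]
  rfl

theorem mem_T4 {y : SU N K q} :
    y ∈ WittModel.T (modelSU hK hN W) ↔ toLin K q N y ∈ Tor (toFrame W) (IU K q N) := by
  rw [T_eq]
  rfl

/-! ### the first node -/

theorem rg_zero : rg (toFrame W) (sr (0 : Fin 2)) = XG (toFrame W) (0, true) (1, false) := by
  have h4 : (nx (0 : Fin 2)) = (1, false) := rfl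
  have h5 : ((0, true) : Fin 2 × Bool).1 ≠ ((1, false) : Fin 2 × Bool).1 := h01
  rw [rg_sr, h4, PG_ne _ h5]

theorem rg_zero' : rg (toFrame W) (-sr (0 : Fin 2)) = XG (toFrame W) (1, true) (0, false) := by
  have h4 : (nx (0 : Fin 2)) = (1, false) := rfl
  have h5 : ((0, true) : Fin 2 × Bool).1 ≠ ((1, false) : Fin 2 × Bool).1 := h01
  rw [rg_neg_sr, h4, PG_ne _ (a := ng (0, true)) (b := ng (1, false)) h5,
    XG_swap _ (a := ng (0, true)) (b := ng (1, false)) h5]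
  rfl

theorem phiS_mem (g : _root_.Matrix.SpecialLinearGroup (Fin 2) K) : phiS (toFrame W) h01 g ∈ IU K q N := by
  have h1 : phiS (toFrame W) h01 g ∈ (phiS (toFrame W) h01).range := ⟨g, rfl⟩
  rw [phiS_range, ← rg_zero, ← rg_zero'] at h1
  exact Nv_le W 0 h1

/-- `SL_2(K)` at the first node -/
noncomputable def sig0 : _root_.Matrix.SpecialLinearGroup (Fin 2) K →* SU N K q := liftSU (phiS (toFrame W) h01) (phiS_mem W)

theorem toLin_sig0 (g : _root_.Matrix.SpecialLinearGroup (Fin 2) K) : toLin K q N (sig0 W g) = phiS (toFrame W) h01 g :=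
  toLin_liftSU _ _ g

theorem phiS_hh_mono (s : Kˣ) : Mono (toFrame W) (phiS (toFrame W) h01 (_root_.Cfsg.Agent.H911.SLTwo.hh s)) id := by
  have e00 : (_root_.Cfsg.Agent.H911.SLTwo.hh s).1 0 0 = (s : K) := rfl
  have e01 : (_root_.Cfsg.Agent.H911.SLTwo.hh s).1 0 1 = 0 := rfl
  have e10 : (_root_.Cfsg.Agent.H911.SLTwo.hh s).1 1 0 = 0 := rfl
  have e11 : (_root_.Cfsg.Agent.H911.SLTwo.hh s).1 1 1 = ((s⁻¹ : Kˣ) : K) := rfl
  rintro ⟨i, b⟩
  cases b
  · fin_cases i
    · refine ⟨(HU hK N).σ ((s⁻¹ : Kˣ) : K), by simp, ?_⟩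
      change phiS (toFrame W) h01 (_root_.Cfsg.Agent.H911.SLTwo.hh s) ((toFrame W).b (0, false)) = _ • (toFrame W).b (0, false)
      rw [phiS_apply, linS_apply, e00, e01, e10, e11]
      simp only [(toFrame W).hb]
      have hε := (HU hK N).ε_ne
      simp [hε]
      module
    · refine ⟨(HU hK N).σ (s : K), by simp, ?_⟩
      change phiS (toFrame W) h01 (_root_.Cfsg.Agent.H911.SLTwo.hh s) ((toFrame W).b (1, false)) = _ • (toFrame W).b (1, false)
      rw [phiS_apply, linS_apply, e00, e01, e10, e11]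
      simp only [(toFrame W).hb]
      have hε := (HU hK N).ε_ne
      simp [hε]
      module
  · fin_cases i
    · refine ⟨s, s.ne_zero, ?_⟩
      change phiS (toFrame W) h01 (_root_.Cfsg.Agent.H911.SLTwo.hh s) ((toFrame W).b (0, true)) = _ • (toFrame W).b (0, true)
      rw [phiS_e, e00, e10, zero_smul, add_zero]
    · refine ⟨((s⁻¹ : Kˣ) : K), (s⁻¹).ne_zero, ?_⟩
      change phiS (toFrame W) h01 (_root_.Cfsg.Agent.H911.SLTwo.hh s) ((toFrame W).b (1, true)) = _ • (toFrame W).b (1, true)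
      rw [phiS_e', e01, e11, zero_smul, zero_add]

/-- **the first node** -/
theorem node_zero : Nd (WittModel.T (modelSU hK hN W)) (WittModel.X (modelSU hK hN W)) 0 (sig0 W) where
  up y := by
    rw [mem_X4, rg_zero]
    constructor
    · rintro ⟨t, ht⟩
      refine ⟨t, toLin_injective ?_⟩
      rw [toLin_sig0, ht]
      exact phiS_up (toFrame W) h01 t
    · rintro ⟨t, rfl⟩
      rw [toLin_sig0]
      exact ⟨t, phiS_up (toFrame W) h01 t⟩
  lo y := by
    rw [mem_X4, rg_zero']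
    constructor
    · rintro ⟨t, ht⟩
      refine ⟨t, toLin_injective ?_⟩
      rw [toLin_sig0, ht]
      exact phiS_lo (toFrame W) h01 t
    · rintro ⟨t, rfl⟩
      rw [toLin_sig0]
      exact ⟨t, phiS_lo (toFrame W) h01 t⟩
  tor s := by
    rw [mem_T4, toLin_sig0]
    exact ⟨phiS_mem W _, phiS_hh_mono W s⟩

theorem F2_phiS (g : _root_.Matrix.SpecialLinearGroup (Fin 2) K) : F2 (toFrame W) (phiS (toFrame W) h01 g) = 1 := by
  have hd : g.1 0 0 * g.1 1 1 - g.1 0 1 * g.1 1 0 = 1 := by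
    rw [← Matrix.det_fin_two]; exact g.2
  unfold F2
  rw [phiS_e, phiS_e']
  simp only [HForm.add_left, HForm.smul_left, h_b_false]
  simp
  linear_combination hd

/-! ### the second node -/

section node1

open Cfsg.Agent.H61.LastEven (P2 R2 Ph rel_up rel_lo adm_w adm_c exists_equiv indep)

variable {W}

theorem rg_one : rg (toFrame W) (sr (1 : Fin 2)) = ZG (toFrame W) (1, true) := by
  have h4 : (nx (1 : Fin 2)) = (1, true) := rfl
  rw [rg_sr, h4, PG_self]

theorem rg_one' : rg (toFrame W) (-sr (1 : Fin 2)) = ZG (toFrame W) (1, false) := by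
  have h4 : (nx (1 : Fin 2)) = (1, true) := rfl
  rw [rg_neg_sr, h4]
  exact PG_self _ _

theorem P2_le : P2 W 1 ≤ IU K q N := by
  have h1 : P2 W 1 = Nv (toFrame W) 1 := by
    unfold P2 Nv
    rw [rg_one, rg_one']
  rw [h1]
  exact Nv_le W 1

/-- **the second node** -/
theorem node_one (hV0 : W.V0 = ⊥) {δ : K} (hδ : δ ^ q = -δ) (hδ0 : δ ≠ 0) :
    ∃ σ : _root_.Matrix.SpecialLinearGroup (Fin 2) (fixedField hK) →* SU N K q,
      Nd (WittModel.T (modelSU hK hN W)) (WittModel.X (modelSU hK hN W)) 1 σ ∧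
      (∀ A, R2 W 1 δ (toLin K q N (σ A)) A) ∧ ∀ y, toLin K q N y ∈ P2 W 1 → ∃ A, σ A = y := by
  obtain ⟨e, he⟩ := exists_equiv (i := (1 : Fin 2)) hV0 hδ hδ0
  let f : _root_.Matrix.SpecialLinearGroup (Fin 2) (fixedField hK) →* ((Fin N → K) ≃ₗ[K] (Fin N → K)) :=
    (P2 W 1).subtype.comp e.symm.toMonoidHom
  have hf : ∀ A, f A = (e.symm A : (Fin N → K) ≃ₗ[K] (Fin N → K)) := fun _ => rfl
  have hfR : ∀ A, R2 W 1 δ (f A) A := by
    intro A
    have h1 := he (e.symm A)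
    rwa [e.apply_symm_apply] at h1
  have hfe : ∀ {g}, g ∈ P2 W 1 → ∀ {A}, R2 W 1 δ g A → f A = g := by
    intro g hg A hA
    have h1 : e ⟨g, hg⟩ = A := (he ⟨g, hg⟩).unique (indep hδ0) hA
    rw [hf, ← h1, e.symm_apply_apply]
  have hmem : ∀ A, f A ∈ IU K q N := fun A => P2_le (e.symm A).2
  have htl : ∀ A, toLin K q N (liftSU f hmem A) = f A := fun A => toLin_liftSU _ _ A
  refine ⟨liftSU f hmem, ⟨fun y => ?_, fun y => ?_, fun s => ?_⟩, fun A => ?_, fun y hy => ?_⟩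
  · rw [mem_X4, rg_one]
    constructor
    · rintro ⟨p, hp⟩
      have hc := adm_c hV0 p
      have hk : (p.c * δ⁻¹) ^ q = p.c * δ⁻¹ := by
        rw [mul_pow, inv_pow, hδ, hc]
        field_simp
      refine ⟨⟨p.c * δ⁻¹, hk⟩, toLin_injective ?_⟩
      rw [htl]
      have hZ : toLin K q N y ∈ P2 W 1 := by
        rw [hp]
        exact (le_sup_left : ZG (toFrame W) (1, true) ≤ P2 W 1) ⟨p, rfl⟩
      refine hfe hZ ?_
      rw [hp]
      exact rel_up (adm_w hV0 p) (inv_mul_cancel_right₀ hδ0 _).symm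
    · rintro ⟨t, rfl⟩
      rw [htl]
      have ht : (t : K) ^ q = t := t.2
      let p : (toFrame W).Adm := ⟨0, t * δ, W.V0.zero_mem, by
        rw [ok_iff, herm_zero_left, mul_pow, hδ, ht]; ring⟩
      exact ⟨p, hfe ((le_sup_left : ZG (toFrame W) (1, true) ≤ P2 W 1) ⟨p, rfl⟩) (rel_up rfl rfl)⟩
  · rw [mem_X4, rg_one']
    constructor
    · rintro ⟨p, hp⟩
      have hc := adm_c hV0 p
      have hk : (δ * p.c) ^ q = δ * p.c := by
        rw [mul_pow, hδ, hc]
        ring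
      refine ⟨⟨δ * p.c, hk⟩, toLin_injective ?_⟩
      rw [htl]
      have hZ : toLin K q N y ∈ P2 W 1 := by
        rw [hp]
        exact (le_sup_right : ZG (toFrame W) (1, false) ≤ P2 W 1) ⟨p, rfl⟩
      refine hfe hZ ?_
      rw [hp]
      exact rel_lo (adm_w hV0 p) rfl
    · rintro ⟨t, rfl⟩
      rw [htl]
      have ht : (t : K) ^ q = t := t.2
      let p : (toFrame W).Adm := ⟨0, δ⁻¹ * t, W.V0.zero_mem, by
        rw [ok_iff, herm_zero_left, mul_pow, inv_pow, hδ, ht, inv_neg]; ring⟩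
      exact ⟨p, hfe ((le_sup_right : ZG (toFrame W) (1, false) ≤ P2 W 1) ⟨p, rfl⟩)
        (rel_lo rfl (mul_inv_cancel_left₀ hδ0 _))⟩
  · rw [mem_T4, htl]
    refine ⟨hmem _, ?_⟩
    have hR := hfR (_root_.Cfsg.Agent.H911.SLTwo.hh s)
    have h1 := hR.fst
    have h2 := hR.snd
    have h3 := hR.fix
    have e00 : (_root_.Cfsg.Agent.H911.SLTwo.hh s) 0 0 = (s : fixedField hK) := rfl
    have e01 : (_root_.Cfsg.Agent.H911.SLTwo.hh s) 0 1 = 0 := rfl
    have e10 : (_root_.Cfsg.Agent.H911.SLTwo.hh s) 1 0 = 0 := rfl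
    have e11 : (_root_.Cfsg.Agent.H911.SLTwo.hh s) 1 1 = ((s⁻¹ : (fixedField hK)ˣ) : fixedField hK) := rfl
    rw [e00, e10] at h1
    rw [e01, e11] at h2
    simp only [ZeroMemClass.coe_zero, zero_smul, add_zero, zero_add] at h1 h2
    rintro ⟨i, b⟩
    cases b
    · fin_cases i
      · exact ⟨1, one_ne_zero, by
          rw [one_smul]
          exact h3 (W.f 0) ⟨by rw [W.fe]; simp, by rw [W.ff]⟩⟩
      · exact ⟨_, fun h0 => (s⁻¹).ne_zero (Subtype.ext h0), h2⟩
    · fin_cases i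
      · exact ⟨1, one_ne_zero, by
          rw [one_smul]
          exact h3 (W.e 0) ⟨by rw [W.ee], by rw [W.ef]; simp⟩⟩
      · refine ⟨_, fun h0 => s.ne_zero (Subtype.ext h0), ?_⟩
        rw [map_smul, smul_comm] at h1
        exact smul_right_injective _ hδ0 h1
  · rw [htl]
    exact hfR A
  · exact ⟨e ⟨_, hy⟩, toLin_injective (by rw [htl, hf, e.symm_apply_apply])⟩

end node1

/-! ### the torus -/

section torus

open Cfsg.Agent.H61.LastEven (P2 R2 indep)

variable {W}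

theorem F2_node_one {δ : K} (hδ0 : δ ≠ 0) {g : (Fin N → K) ≃ₗ[K] (Fin N → K)}
    {A : _root_.Matrix.SpecialLinearGroup (Fin 2) (fixedField hK)} (hR : R2 W 1 δ g A) : F2 (toFrame W) g = (A 0 0 : K) := by
  have h1 : g ((toFrame W).b (0, true)) = (toFrame W).b (0, true) :=
    hR.fix (W.e 0) ⟨by rw [W.ee], by rw [W.ef]; simp⟩
  have h2 : g ((toFrame W).b (1, true)) = (A 0 0 : K) • (toFrame W).b (1, true) +
      (δ⁻¹ * (A 1 0 : K)) • (toFrame W).b (1, false) := by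
    have h3 := hR.fst
    rw [map_smul] at h3
    have h4 : g (W.e 1) = δ⁻¹ • ((A 0 0 : K) • δ • W.e 1 + (A 1 0 : K) • W.f 1) := by
      rw [← h3, inv_smul_smul₀ hδ0]
    change g (W.e 1) = (A 0 0 : K) • W.e 1 + (δ⁻¹ * (A 1 0 : K)) • W.f 1
    rw [h4, smul_add, smul_comm δ⁻¹ (A 0 0 : K), inv_smul_smul₀ hδ0, smul_smul]
  unfold F2
  rw [h1, h2]
  simp only [HForm.add_left, HForm.smul_left, h_b_false]
  simp only [↓ _root_.reduceIte, _root_.Fin.isValue, _root_.mul_one, _root_.Prod.mk.injEq, _root_.Bool.false_eq_true, _root_.and_false, _root_.MulZeroClass.mul_zero, _root_.add_zero, _root_.one_mul, _root_.zero_ne_one, _root_.and_true, _root_.one_ne_zero, _root_.and_self, _root_.sub_zero]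

variable {Wg : Type*} [Group Wg] {cs : CoxeterSystem (CoxeterMatrix.B 2) Wg} {p : ℕ} {n : Fin 2 → SU N K q}
  (R : RGD cs (isCartan 2) p (WittModel.T (modelSU hK hN W)) n (WittModel.X (modelSU hK hN W)))
  [Finite Wg] {k E : Type*} [Field k] [AddCommGroup E] [Module k E] {ρ : SU N K q →* Module.End k E}

/-- **the highest weight** -/
theorem chi_eq (h0 : (0 : Fin 2) ∈ Jx cs (isCartan 2) (WittModel.X (modelSU hK hN W)) ρ)
    {c : E} (hc : c ∈ D cs (isCartan 2) (WittModel.X (modelSU hK hN W)) ρ) (hc0 : c ≠ 0) {χ : SU N K q → k}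
    (hχ : ∀ t ∈ WittModel.T (modelSU hK hN W), ρ t c = χ t • c) {δ : K} (hδ0 : δ ≠ 0)
    {σ : _root_.Matrix.SpecialLinearGroup (Fin 2) (fixedField hK) →* SU N K q}
    (hσ : ∀ A, R2 W 1 δ (toLin K q N (σ A)) A) (hs : ∀ y, toLin K q N y ∈ P2 W 1 → ∃ A, σ A = y)
    (j : K →+* k) {c₂ : ℕ} (hval : ∀ s : (fixedField hK)ˣ, χ (σ (_root_.Cfsg.Agent.H911.SLTwo.hh s)) = j ((s : fixedField hK) : K) ^ c₂)
    (R : RGD cs (isCartan 2) p (WittModel.T (modelSU hK hN W)) n (WittModel.X (modelSU hK hN W)))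
    {t : SU N K q} (ht : t ∈ WittModel.T (modelSU hK hN W)) :
    χ t = j (F2 (toFrame W) (toLin K q N t)) ^ c₂ := by
  have : Finite ((Fin N → K) ≃ₗ[K] (Fin N → K)) :=
    Finite.of_injective (fun g : (Fin N → K) ≃ₗ[K] (Fin N → K) => (g : (Fin N → K) → (Fin N → K))) DFunLike.coe_injective
  let S : Subgroup (SU N K q) :=
    { carrier := {t | t ∈ WittModel.T (modelSU hK hN W) ∧ χ t = j (F2 (toFrame W) (toLin K q N t)) ^ c₂}
      one_mem' := ⟨one_mem _, by rw [chi_one hc0 hχ, map_one, F2_one, map_one, one_pow]⟩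
      mul_mem' := by
        rintro a b ⟨ha, ha'⟩ ⟨hb, hb'⟩
        refine ⟨mul_mem ha hb, ?_⟩
        rw [chi_mul hc0 hχ ha hb, ha', hb', map_mul, F2_mul_tor ((mem_T4 hN W).1 hb).2, map_mul, mul_pow]
      inv_mem' := by
        rintro a ⟨ha, ha'⟩
        have ha1 := inv_mem ha
        refine ⟨ha1, ?_⟩
        have h1 := chi_mul hc0 hχ ha1 ha
        rw [inv_mul_cancel, chi_one hc0 hχ] at h1
        have h2 : F2 (toFrame W) (toLin K q N a⁻¹) * F2 (toFrame W) (toLin K q N a) = 1 := by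
          rw [← F2_mul_tor ((mem_T4 hN W).1 ha).2, ← map_mul, inv_mul_cancel, map_one, F2_one]
        have h3 := congrArg (fun x => j x ^ c₂) h2
        simp only [map_mul, mul_pow, map_one, one_pow] at h3
        rw [← ha'] at h3
        have h4 : χ a ≠ 0 := fun h => by rw [h, mul_zero] at h1; exact one_ne_zero h1
        exact mul_right_cancel₀ h4 (h1.symm.trans h3.symm) }
  suffices hle : WittModel.T (modelSU hK hN W) ≤ S from (hle ht).2
  refine (Cfsg.Agent.H925.Nat.T_le_iSup R (WittModel.G1_eq_top _ (by norm_num) _)).trans (iSup_le fun i => ?_)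
  rintro g ⟨hg, hgT⟩
  have hg' : toLin K q N g ∈ Nv (toFrame W) i := by
    have h1 := Lv_eq hN W i
    have h2 : g ∈ (Nv (toFrame W) i).comap (toLin K q N) := by
      rw [← h1]; exact hg
    exact h2
  refine ⟨hgT, ?_⟩
  fin_cases i
  · -- the first node
    have h1 : ρ g c = c := fix_of_mem h0 hc hg
    have h2 : χ g = 1 := by
      have h3 := hχ g hgT
      rw [h1] at h3
      have h4 : (1 : k) • c = χ g • c := by rw [one_smul]; exact h3
      exact (smul_left_injective k hc0 h4).symm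
    have h5 : toLin K q N g ∈ (phiS (toFrame W) h01).range := by
      rw [phiS_range, ← rg_zero, ← rg_zero']
      exact hg'
    obtain ⟨A, hA⟩ := h5
    rw [h2, ← hA, F2_phiS, map_one, one_pow]
  · -- the second node
    have h5 : toLin K q N g ∈ P2 W 1 := by
      have h1 : P2 W 1 = Nv (toFrame W) 1 := by
        unfold P2 Nv
        rw [rg_one, rg_one']
      rw [h1]
      exact hg'
    obtain ⟨A, rfl⟩ := hs g h5
    have hR := hσ A
    have hm := ((mem_T4 hN W).1 hgT).2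
    have h10 : A 1 0 = 0 := by
      obtain ⟨l, -, hl⟩ := hm (1, true)
      have h6 := hR.fst
      have h7 : toLin K q N (σ A) (W.e 1) = l • W.e 1 := hl
      rw [map_smul, h7] at h6
      have h8 : ((A 0 0 : K) - l) • (δ • W.e 1) + (A 1 0 : K) • W.f 1 = 0 := by
        rw [sub_smul, sub_add_eq_add_sub, ← h6, smul_comm, sub_self]
      exact Subtype.ext (indep hδ0 _ _ h8).2
    have h01' : A 0 1 = 0 := by
      obtain ⟨l, -, hl⟩ := hm (1, false)
      have h6 := hR.snd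
      have h7 : toLin K q N (σ A) (W.f 1) = l • W.f 1 := hl
      rw [h7] at h6
      have h8 : (A 0 1 : K) • (δ • W.e 1) + ((A 1 1 : K) - l) • W.f 1 = 0 := by
        rw [sub_smul, ← add_sub_assoc, ← h6, sub_self]
      exact Subtype.ext (indep hδ0 _ _ h8).1
    have hdet := Cfsg.Agent.H911.SLTwo.det_eq A
    have hA : A = hh ⟨A.1 0 0, A.1 1 1, by
        rw [(show A.1 0 1 = 0 from h01'), zero_mul, sub_zero] at hdet; exact hdet, by
        rw [(show A.1 0 1 = 0 from h01'), zero_mul, sub_zero] at hdet; rw [mul_comm]; exact hdet⟩ := by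
      apply Cfsg.Agent.H911.SLTwo.ext' <;>
        simp only [Cfsg.Agent.H911.SLTwo.hh00, Cfsg.Agent.H911.SLTwo.hh01, Cfsg.Agent.H911.SLTwo.hh10,
          Cfsg.Agent.H911.SLTwo.hh11]
      · exact h01'
      · exact h10
      · rfl
    rw [F2_node_one hδ0 hR]
    conv_lhs => rw [hA, hval]

end torus

/-! ### the realisation -/

/-- **the realisation** -/
theorem real (p0 : (toFrame W).Adm) (hp0 : p0.c ≠ 0) :
    Real (toFrame W) (WittModel.T (modelSU hK hN W))
      (fun i => (modelSU hK hN W).φ ⟨_root_.Cfsg.Agent.Nodes.WittRGD.nn (toFrame W) p0 i, nn_mem (amb_U hK W) p0 i⟩)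
      (WittModel.X (modelSU hK hN W)) (toLin K q N) where
  tor t ht := ((mem_T4 hN W).1 ht).2
  mono i := by
    have h1 : toLin K q N ((modelSU hK hN W).φ ⟨_root_.Cfsg.Agent.Nodes.WittRGD.nn (toFrame W) p0 i, nn_mem (amb_U hK W) p0 i⟩) = _root_.Cfsg.Agent.Nodes.WittRGD.nn (toFrame W) p0 i :=
      toLin_ofRange _
    rw [h1]
    exact mono_nn hp0 i
  root x y hy := (mem_X4 hN W).1 hy
  sup i := WittModel.nw_mem_sup (modelSU hK hN W) (amb_U hK W) p0 i
  n0 := by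
    have h1 : toLin K q N ((modelSU hK hN W).φ ⟨_root_.Cfsg.Agent.Nodes.WittRGD.nn (toFrame W) p0 0, nn_mem (amb_U hK W) p0 0⟩) = _root_.Cfsg.Agent.Nodes.WittRGD.nn (toFrame W) p0 0 :=
      toLin_ofRange _
    have h5 : ((0, true) : Fin 2 × Bool).1 ≠ ((1, false) : Fin 2 × Bool).1 := h01
    have h2 : _root_.Cfsg.Agent.Nodes.WittRGD.nn (toFrame W) p0 0 = nX (toFrame W) (0, true) (1, false) 1 := rfl
    rw [h1, h2, nX_apply_self _ h5 one_ne_zero, inv_one, one_smul]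
    rfl
  n0' := by
    have h1 : toLin K q N ((modelSU hK hN W).φ ⟨_root_.Cfsg.Agent.Nodes.WittRGD.nn (toFrame W) p0 0, nn_mem (amb_U hK W) p0 0⟩) = _root_.Cfsg.Agent.Nodes.WittRGD.nn (toFrame W) p0 0 :=
      toLin_ofRange _
    have h5 : ((0, true) : Fin 2 × Bool).1 ≠ ((1, false) : Fin 2 × Bool).1 := h01
    have h2 : _root_.Cfsg.Agent.Nodes.WittRGD.nn (toFrame W) p0 0 = nX (toFrame W) (0, true) (1, false) 1 := rfl
    have h3 := nX_apply_neg (toFrame W) h5 (t := (1 : K)) one_ne_zero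
    rw [one_smul] at h3
    rw [h1, h2]
    exact h3

end Cfsg.Agent.H269.Ppd
end

-- part: H269/Ppd/Rank
section
/-!
# Ranks of kernels given by monomials (helper269)

* `exists_dual` : the dual system of the monomials `x ^ m`, `m < N`, on `N` points;
* `rank_ge` : `φ_A (v_B) = ∑ C_a f_a(A) g_a(B)` with independent `f`, `g`: the number of `a` with `C_a ≠ 0` is at most
  `dim V`;
* `rank_pow` : the kernel `d (z + z') ^ c` on a finite field;
* **`rank_quad`** : the kernel `d (x x' + (z + z') ^ (Q + 1)) ^ c`: `∑_{e ∈ SS p c} |SS p e| ^ 2 ≤ dim V`.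
-/

set_option autoImplicit false
set_option linter.unusedSectionVars false

namespace Cfsg.Agent.H269.Ppd

open Cfsg.Agent.H875.Fn

section general

variable {k : Type*} [Field k] {V : Type*} [AddCommGroup V] [Module k V]

/-- the dual system of the monomials -/
theorem exists_dual {S : Type*} [Fintype S] {x : S → k} (hx : Function.Injective x) {N : ℕ}
    (hN : Fintype.card S = N) :
    ∃ l : ℕ → S → k, ∀ i, i < N → ∀ m, m < N → ∑ s, l i s * x s ^ m = if i = m then 1 else 0 := by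
  classical
  let e : S ≃ Fin N := Fintype.equivFinOfCardEq hN
  let M : Matrix (Fin N) (Fin N) k := Matrix.vandermonde fun a => x (e.symm a)
  have hdet : IsUnit M.det := by
    rw [isUnit_iff_ne_zero]
    exact Matrix.det_vandermonde_ne_zero_iff.2 (hx.comp e.symm.injective)
  obtain ⟨M', hM'⟩ : ∃ M' : Matrix (Fin N) (Fin N) k, M' * M = 1 := ⟨M⁻¹, Matrix.nonsing_inv_mul M hdet⟩
  refine ⟨fun i s => if h : i < N then M' ⟨i, h⟩ (e s) else 0, fun i hi m hm => ?_⟩
  have h1 := congrFun (congrFun hM' ⟨i, hi⟩) ⟨m, hm⟩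
  rw [Matrix.mul_apply, Matrix.one_apply] at h1
  simp only [Fin.mk.injEq] at h1
  rw [← h1, ← e.sum_comp]
  refine Finset.sum_congr rfl fun s _ => ?_
  simp only [hi, dif_pos]
  congr 1
  change _ = (Matrix.vandermonde fun a => x (e.symm a)) (e s) ⟨m, hm⟩
  rw [Matrix.vandermonde_apply, e.symm_apply_apply]

/-- biorthogonal systems -/
theorem card_le_of_biorth [FiniteDimensional k V] {κ : Type*} [Fintype κ] (Φ : κ → Module.Dual k V) (w : κ → V)
    (d : κ → k) (hd : ∀ a, d a ≠ 0) (h0 : ∀ a b, a ≠ b → Φ a (w b) = 0) (h1 : ∀ a, Φ a (w a) = d a) :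
    Fintype.card κ ≤ Module.finrank k V := by
  have hli : LinearIndependent k w := by
    rw [Fintype.linearIndependent_iff]
    intro g hg a
    have h2 := congrArg (Φ a) hg
    rw [map_sum, map_zero, Finset.sum_eq_single a] at h2
    · rw [map_smul, smul_eq_mul, h1] at h2
      exact (mul_eq_zero.1 h2).resolve_right (hd a)
    · intro b _ hb
      rw [map_smul, h0 a b hb.symm, smul_zero]
    · intro h; exact absurd (Finset.mem_univ a) h
  exact hli.fintype_card_le_finrank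

/-- **the rank of a sum of independent products** -/
theorem rank_ge [FiniteDimensional k V] {SA SB ι : Type*} [Fintype SA] [Fintype SB] [DecidableEq ι]
    {φ : SA → Module.Dual k V}
    {v : SB → V} {τ : Finset ι} {C : ι → k} {f f' : ι → SA → k} {g g' : ι → SB → k}
    (h : ∀ A B, φ A (v B) = ∑ a ∈ τ, C a * f a A * g a B)
    (hf : ∀ a ∈ τ, ∀ b ∈ τ, ∑ A, f' a A * f b A = if a = b then 1 else 0)
    (hg : ∀ a ∈ τ, ∀ b ∈ τ, ∑ B, g' a B * g b B = if a = b then 1 else 0) {σ : Finset ι} (hσ : σ ⊆ τ)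
    (hC : ∀ a ∈ σ, C a ≠ 0) : σ.card ≤ Module.finrank k V := by
  classical
  have key : ∀ a ∈ τ, ∀ b ∈ τ, (∑ A, f' a A • φ A : Module.Dual k V) (∑ B, g' b B • v B) = if a = b then C a else 0 := by
    intro a ha b hb
    have h1 : (∑ A, f' a A • φ A : Module.Dual k V) (∑ B, g' b B • v B) =
        ∑ A, ∑ B, ∑ c ∈ τ, C c * (f' a A * f c A) * (g' b B * g c B) := by
      rw [LinearMap.sum_apply]
      refine Finset.sum_congr rfl fun A _ => ?_
      rw [LinearMap.smul_apply, map_sum, Finset.smul_sum]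
      refine Finset.sum_congr rfl fun B _ => ?_
      rw [map_smul, h, smul_eq_mul, smul_eq_mul, Finset.mul_sum, Finset.mul_sum]
      refine Finset.sum_congr rfl fun c _ => ?_
      ring
    rw [h1]
    have h2 : ∑ A, ∑ B, ∑ c ∈ τ, C c * (f' a A * f c A) * (g' b B * g c B) =
        ∑ c ∈ τ, C c * (∑ A, f' a A * f c A) * (∑ B, g' b B * g c B) := by
      calc ∑ A, ∑ B, ∑ c ∈ τ, C c * (f' a A * f c A) * (g' b B * g c B)
          = ∑ A, ∑ c ∈ τ, ∑ B, C c * (f' a A * f c A) * (g' b B * g c B) :=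
            Finset.sum_congr rfl fun A _ => Finset.sum_comm
        _ = ∑ c ∈ τ, ∑ A, ∑ B, C c * (f' a A * f c A) * (g' b B * g c B) := Finset.sum_comm
        _ = _ := by
            refine Finset.sum_congr rfl fun c _ => ?_
            rw [mul_assoc, Finset.sum_mul_sum, Finset.mul_sum]
            refine Finset.sum_congr rfl fun A _ => ?_
            rw [Finset.mul_sum]
            exact Finset.sum_congr rfl fun B _ => by ring
    rw [h2, Finset.sum_eq_single a]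
    · rw [hf a ha a ha, if_pos rfl, hg b hb a ha]
      by_cases hab : a = b
      · rw [if_pos hab.symm, if_pos hab]; ring
      · rw [if_neg (Ne.symm hab), if_neg hab]; ring
    · intro c hc hca
      rw [hf a ha c hc, if_neg (Ne.symm hca)]; ring
    · intro hna; exact absurd ha hna
  have h3 := card_le_of_biorth (κ := σ) (fun a => ∑ A, f' a A • φ A) (fun a => ∑ B, g' a B • v B) (fun a => C a)
    (fun a => hC a a.2) (fun a b hab => by
      rw [key a (hσ a.2) b (hσ b.2), if_neg (fun e => hab (Subtype.ext e))])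
    (fun a => by rw [key a (hσ a.2) a (hσ a.2), if_pos rfl])
  rwa [Fintype.card_coe] at h3

variable {p : ℕ} [hp : Fact p.Prime] [CharP k p]

theorem choose_ne {r m : ℕ} (hm : m ∈ SS p r) : ((r.choose m : ℕ) : k) ≠ 0 := by
  rw [Ne, CharP.cast_eq_zero_iff k p]
  exact mem_SS'.1 hm

theorem card_SS_mul {t e : ℕ} (he : e < p ^ t) : (SS p ((p ^ t + 1) * e)).card = (SS p e).card ^ 2 := by
  have h1 : (p ^ t + 1) * e = e + p ^ t * e := by ring
  rw [h1, card_SS_add he (Dvd.intro _ rfl), card_SS_pow_mul, sq]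

include hp in
/-- **the kernel `(x x' + (z + z') ^ (Q + 1)) ^ c`** -/
theorem rank_quad [FiniteDimensional k V] {S L : Type*} [Fintype S] [Fintype L] {x : S → k}
    (hx : Function.Injective x) {z : L → k} (hz : Function.Injective z) {t c : ℕ} (hS : Fintype.card S = p ^ t)
    (hL : Fintype.card L = (p ^ t) ^ 2) (hc : c < p ^ t) {φ : S × L → Module.Dual k V} {v : S × L → V} {d : k}
    (hd : d ≠ 0)
    (h : ∀ A B : S × L, φ A (v B) = d * (x A.1 * x B.1 + (z A.2 + z B.2) ^ (p ^ t + 1)) ^ c) :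
    ∑ e ∈ SS p c, (SS p e).card ^ 2 ≤ Module.finrank k V := by
  classical
  set Q := p ^ t with hQ
  obtain ⟨l, hl⟩ := exists_dual hx hS
  obtain ⟨μ, hμ⟩ := exists_dual hz hL
  have hb : ∀ e, e ≤ c → (Q + 1) * e < Q ^ 2 := by
    intro e he
    have h1 : e + 1 ≤ Q := by omega
    nlinarith only [hc, he]
  -- the terms: `(e, m)`, `e ≤ c`, `m ≤ (Q + 1) e`
  let τ : Finset (ℕ × ℕ) := (Finset.range (c + 1)).biUnion fun e => (Finset.range ((Q + 1) * e + 1)).image fun m => (e, m)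
  have hτ : ∀ a : ℕ × ℕ, a ∈ τ ↔ a.1 ≤ c ∧ a.2 ≤ (Q + 1) * a.1 := by
    rintro ⟨e, m⟩
    simp only [τ, Finset.mem_biUnion, Finset.mem_range, Finset.mem_image, Prod.mk.injEq]
    constructor
    · rintro ⟨e', he', m', hm', rfl, rfl⟩
      exact ⟨by omega, by omega⟩
    · rintro ⟨h1, h2⟩
      exact ⟨e, by omega, m, by omega, rfl, rfl⟩
  let σ : Finset (ℕ × ℕ) := (SS p c).biUnion fun e => (SS p ((Q + 1) * e)).image fun m => (e, m)
  have hσ : ∀ a : ℕ × ℕ, a ∈ σ ↔ a.1 ∈ SS p c ∧ a.2 ∈ SS p ((Q + 1) * a.1) := by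
    rintro ⟨e, m⟩
    simp only [σ, Finset.mem_biUnion, Finset.mem_image, Prod.mk.injEq]
    constructor
    · rintro ⟨e', he', m', hm', rfl, rfl⟩
      exact ⟨he', hm'⟩
    · rintro ⟨h1, h2⟩
      exact ⟨e, h1, m, h2, rfl, rfl⟩
  have hcard : σ.card = ∑ e ∈ SS p c, (SS p e).card ^ 2 := by
    rw [Finset.card_biUnion]
    · refine Finset.sum_congr rfl fun e he => ?_
      rw [Finset.card_image_of_injective _ (fun a b hab => (Prod.mk.inj hab).2)]
      exact card_SS_mul (by have := (mem_SS.1 he).1; omega)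
    · intro e _ e' _ hne
      rw [Function.onFun, Finset.disjoint_left]
      intro a ha ha'
      rw [Finset.mem_image] at ha ha'
      obtain ⟨m, -, rfl⟩ := ha
      obtain ⟨m', -, h2⟩ := ha'
      exact hne (Prod.mk.inj h2).1.symm
  rw [← hcard]
  refine rank_ge (τ := τ) (C := fun a => d * ((c.choose a.1 : ℕ) * (((Q + 1) * a.1).choose a.2 : ℕ)))
    (f := fun a A => x A.1 ^ (c - a.1) * z A.2 ^ a.2)
    (g := fun a B => x B.1 ^ (c - a.1) * z B.2 ^ ((Q + 1) * a.1 - a.2))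
    (f' := fun a A => l (c - a.1) A.1 * μ a.2 A.2)
    (g' := fun a B => l (c - a.1) B.1 * μ ((Q + 1) * a.1 - a.2) B.2) (φ := φ) (v := v) (fun A B => ?_)
    (fun a ha b hb' => ?_) (fun a ha b hb' => ?_) (fun a ha => ?_) (fun a ha => ?_)
  · rw [h, Finset.sum_biUnion]
    · rw [add_comm (x A.1 * x B.1), add_pow, Finset.mul_sum]
      refine Finset.sum_congr rfl fun e he => ?_
      rw [Finset.sum_image (fun a _ b _ hab => (Prod.mk.inj hab).2), ← pow_mul, add_pow, Finset.sum_mul,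
        Finset.sum_mul, Finset.mul_sum]
      refine Finset.sum_congr rfl fun m _ => ?_
      rw [mul_pow]
      ring
    · intro e _ e' _ hne
      rw [Function.onFun, Finset.disjoint_left]
      intro a ha ha'
      rw [Finset.mem_image] at ha ha'
      obtain ⟨m, -, rfl⟩ := ha
      obtain ⟨m', -, h2⟩ := ha'
      exact hne (Prod.mk.inj h2).1.symm
  · rw [hτ] at ha hb'
    have h1 : ∑ A : S × L, l (c - a.1) A.1 * μ a.2 A.2 * (x A.1 ^ (c - b.1) * z A.2 ^ b.2) =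
        (∑ s, l (c - a.1) s * x s ^ (c - b.1)) * (∑ s, μ a.2 s * z s ^ b.2) := by
      rw [Fintype.sum_mul_sum, Fintype.sum_prod_type]
      exact Finset.sum_congr rfl fun s _ => Finset.sum_congr rfl fun s' _ => by ring
    have h2 := hb _ ha.1
    have h3 := hb _ hb'.1
    rw [h1, hl _ (by omega) _ (by omega), hμ _ (by omega) _ (by omega)]
    by_cases hab : a = b
    · rw [if_pos hab, if_pos (by rw [hab]), if_pos (by rw [hab]), one_mul]
    · rw [if_neg hab]
      by_cases h4 : a.1 = b.1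
      · rw [if_neg (fun h5 => hab (Prod.ext h4 h5)), mul_zero]
      · rw [if_neg (by omega), zero_mul]
  · rw [hτ] at ha hb'
    have h1 : ∑ A : S × L, l (c - a.1) A.1 * μ ((Q + 1) * a.1 - a.2) A.2 *
        (x A.1 ^ (c - b.1) * z A.2 ^ ((Q + 1) * b.1 - b.2)) =
        (∑ s, l (c - a.1) s * x s ^ (c - b.1)) * (∑ s, μ ((Q + 1) * a.1 - a.2) s * z s ^ ((Q + 1) * b.1 - b.2)) := by
      rw [Fintype.sum_mul_sum, Fintype.sum_prod_type]
      exact Finset.sum_congr rfl fun s _ => Finset.sum_congr rfl fun s' _ => by ring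
    have h2 := hb _ ha.1
    have h3 := hb _ hb'.1
    rw [h1, hl _ (by omega) _ (by omega), hμ _ (by omega) _ (by omega)]
    by_cases hab : a = b
    · rw [if_pos hab, if_pos (by rw [hab]), if_pos (by rw [hab]), one_mul]
    · rw [if_neg hab]
      by_cases h4 : a.1 = b.1
      · have h5 : ¬ (Q + 1) * a.1 - a.2 = (Q + 1) * b.1 - b.2 := by
          intro h5
          have h6 := ha.2
          have h7 := hb'.2
          rw [h4] at h5 h6
          exact hab (Prod.ext h4 (by omega))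
        rw [if_neg h5, mul_zero]
      · rw [if_neg (by omega), zero_mul]
  · rw [hσ] at ha
    rw [hτ]
    exact ⟨(mem_SS.1 ha.1).1, (mem_SS.1 ha.2).1⟩
  · rw [hσ] at ha
    exact mul_ne_zero hd (mul_ne_zero (choose_ne ha.1) (choose_ne ha.2))

end general

/-! ### the numbers -/

section numbers

variable {p : ℕ} [hp : Fact p.Prime]

include hp in
/-- `c` is no power of `p`: at least 14 -/
theorem fourteen_le {c : ℕ} (h : 3 ≤ (SS p c).card) : 14 ≤ ∑ e ∈ SS p c, (SS p e).card ^ 2 := by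
  have hc0 : c ≠ 0 := by
    rintro rfl
    rw [card_SS_lt hp.out.pos] at h
    omega
  obtain ⟨e, he, he0, hec⟩ : ∃ e ∈ SS p c, e ≠ 0 ∧ e ≠ c := by
    by_contra hcon
    push Not at hcon
    have h1 : SS p c ⊆ {0, c} := by
      intro m hm
      rw [Finset.mem_insert, Finset.mem_singleton]
      by_cases hm0 : m = 0
      · exact Or.inl hm0
      · exact Or.inr (hcon m hm hm0)
    have h2 := (Finset.card_le_card h1).trans Finset.card_le_two
    omega
  have h1 : ({0, e, c} : Finset ℕ) ⊆ SS p c := by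
    intro m hm
    rw [Finset.mem_insert, Finset.mem_insert, Finset.mem_singleton] at hm
    rcases hm with rfl | rfl | rfl
    · exact zero_mem_SS _
    · exact he
    · exact self_mem_SS _
  have h2 := Finset.sum_le_sum_of_subset (f := fun e => (SS p e).card ^ 2) h1
  have h3 : ∑ e ∈ ({0, e, c} : Finset ℕ), (SS p e).card ^ 2 = (SS p 0).card ^ 2 + ((SS p e).card ^ 2 + (SS p c).card ^ 2) := by
    rw [Finset.sum_insert, Finset.sum_insert, Finset.sum_singleton]
    · rw [Finset.mem_singleton]; exact hec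
    · rw [Finset.mem_insert, Finset.mem_singleton]
      rintro (h | h)
      · exact he0 h.symm
      · exact hc0 h.symm
  have h4 := card_SS_pos (p := p) 0
  have h5 := two_le_card_SS (p := p) he0
  have h6 : 1 ≤ (SS p 0).card ^ 2 := Nat.one_le_pow _ _ h4
  have h7 : 2 ^ 2 ≤ (SS p e).card ^ 2 := Nat.pow_le_pow_left h5 2
  have h8 : 3 ^ 2 ≤ (SS p c).card ^ 2 := Nat.pow_le_pow_left h 2
  rw [h3] at h2
  omega

include hp in
/-- two blocks: at least 25 -/
theorem twentyfive_le {a r₀ : ℕ} (h : r₀ < p ^ a) (h0 : r₀ ≠ 0) :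
    25 ≤ ∑ e ∈ SS p (r₀ * ∑ i ∈ Finset.range 2, (p ^ a) ^ i), (SS p e).card ^ 2 := by
  have hc : r₀ * ∑ i ∈ Finset.range 2, (p ^ a) ^ i = r₀ + p ^ a * r₀ := by
    rw [Finset.sum_range_succ, Finset.sum_range_one]; ring
  have hcard : (SS p (r₀ + p ^ a * r₀)).card = (SS p r₀).card ^ 2 := by
    have := card_SS_geom h 2
    rwa [hc] at this
  rw [hc]
  have hpa : 1 ≤ p ^ a := Nat.one_le_pow _ _ hp.out.pos
  have hr1 : r₀ < p ^ a * r₀ := by
    have h2 : 2 ≤ p ^ a := by omega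
    nlinarith only [h2, Nat.pos_of_ne_zero h0]
  have hm1 : r₀ ∈ SS p (r₀ + p ^ a * r₀) := by
    rw [mem_SS_add h (Dvd.intro _ rfl), Nat.mod_eq_of_lt h, Nat.sub_self]
    exact ⟨self_mem_SS _, zero_mem_SS _⟩
  have hm2 : p ^ a * r₀ ∈ SS p (r₀ + p ^ a * r₀) := by
    rw [mem_SS_add h (Dvd.intro _ rfl), Nat.mul_mod_right, Nat.sub_zero]
    exact ⟨zero_mem_SS _, self_mem_SS _⟩
  have h1 : ({0, r₀, p ^ a * r₀, r₀ + p ^ a * r₀} : Finset ℕ) ⊆ SS p (r₀ + p ^ a * r₀) := by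
    intro m hm
    rw [Finset.mem_insert, Finset.mem_insert, Finset.mem_insert, Finset.mem_singleton] at hm
    rcases hm with rfl | rfl | rfl | rfl
    · exact zero_mem_SS _
    · exact hm1
    · exact hm2
    · exact self_mem_SS _
  have h2 := Finset.sum_le_sum_of_subset (f := fun e => (SS p e).card ^ 2) h1
  rw [Finset.sum_insert, Finset.sum_insert, Finset.sum_insert, Finset.sum_singleton] at h2
  · have h4 := card_SS_pos (p := p) 0
    have h5 := two_le_card_SS (p := p) h0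
    have h6 : 1 ≤ (SS p 0).card ^ 2 := Nat.one_le_pow _ _ h4
    have h7 : 2 ^ 2 ≤ (SS p r₀).card ^ 2 := Nat.pow_le_pow_left h5 2
    have h8 : (SS p (p ^ a * r₀)).card = (SS p r₀).card := card_SS_pow_mul _ _
    rw [hcard, h8] at h2
    have h9 : (2 ^ 2) ^ 2 ≤ ((SS p r₀).card ^ 2) ^ 2 := Nat.pow_le_pow_left h7 2
    omega
  · rw [Finset.mem_singleton]; omega
  · rw [Finset.mem_insert, Finset.mem_singleton]; omega
  · rw [Finset.mem_insert, Finset.mem_insert, Finset.mem_singleton]; omega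

include hp in
/-- `t` blocks: at least `4 ^ t` -/
theorem four_pow_le {a r₀ : ℕ} (h : r₀ < p ^ a) (h0 : r₀ ≠ 0) (t : ℕ) :
    4 ^ t ≤ ∑ e ∈ SS p (r₀ * ∑ i ∈ Finset.range t, (p ^ a) ^ i), (SS p e).card ^ 2 := by
  have h1 := Finset.single_le_sum (f := fun e => (SS p e).card ^ 2) (fun _ _ => Nat.zero_le _)
    (self_mem_SS (p := p) (r₀ * ∑ i ∈ Finset.range t, (p ^ a) ^ i))
  refine le_trans ?_ h1
  simp only [card_SS_geom h t]
  have h2 : (4 : ℕ) ^ t = (2 ^ t) ^ 2 := by rw [← pow_mul, mul_comm, pow_mul]; norm_num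
  rw [h2]
  exact Nat.pow_le_pow_left (Nat.pow_le_pow_left (two_le_card_SS h0) t) 2

end numbers

end Cfsg.Agent.H269.Ppd
end

-- part: H269/Ppd/SUFourMain
section
/-!
# Simple modules of `SU_4(q)` in the defining characteristic (helper269)

* `dim_of_edge` : `0 ∉ J`: `4 m ^ N ≤ n + 4`;
* `dim_of_siegel` : `0 ∈ J`;
* **`core_bound4`**.
-/

set_option autoImplicit false
set_option linter.unusedSectionVars false
set_option linter.style.haveILetI false

namespace Cfsg.Agent.H269.Ppd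

open Matrix (SpecialLinearGroup)
open scoped MatrixGroups
open CoxeterSystem Cfsg.Agent.ChevalleyStructure.CoxeterGeom Cfsg.Agent.Tits.Roots Cfsg.Agent.Nodes.TypeC
open Cfsg.Agent.Nodes Cfsg.Agent.Nodes.Comb Cfsg.Agent.Nodes.Reps Cfsg.Agent.Nodes.WittRoot Cfsg.Agent.Nodes.BNOf
open Cfsg.Agent.Nodes.WittRGD Cfsg.Agent.Nodes.RGDLib Cfsg.Agent.Nodes.OppDec Cfsg.Agent.Nodes.Bruhat
open Cfsg.Agent.Omega.CR Cfsg.Agent.Omega.FOne.Lift.Sd Cfsg.Agent.Nodes.StabComb Cfsg.Agent.Tits.Core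
open Cfsg.Agent.Tits.Exchange Cfsg.Agent.H905.Md Cfsg.Agent.KFacts.RgdOpp
open Cfsg.Agent.TitsThree Cfsg.Agent.TitsThree.Siegel Cfsg.Agent.TitsThree.SiegelGen
  Cfsg.Agent.TitsThree.WittFrame Cfsg.Agent.TitsThree.WittWeyl Cfsg.Agent.TitsThree.FrameCN
  Cfsg.Agent.TitsThree.WBridge Cfsg.Agent.TitsThree.KSideU Cfsg.Agent.TitsThree.KSideUDesc
open Cfsg.Agent.Nodes.WittAll (AmbT rgdC_model)
open Cfsg.Agent.Nodes.WittU (amb_U exists_adm)
open Cfsg.Agent.LieClassical.HermBasic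
open Cfsg.Agent.H61.SUCross (modelSU T_eq X_eq Lv_eq Nv_le exists_delta)
open Cfsg.Agent.H61.LastEven (P2 R2 η_eq)
open Cfsg.Agent.H650.Ppd (Nd)
open Cfsg.Agent.H911.SLTwo (U Lo hh)
open Cfsg.Agent.H911 (lin)
open Cfsg.Agent.H875.Fn
open Cfsg.Agent.Phan (fixedField mem_fixedField card_fixedField)
open Cfsg Cfsg.Geo
open Cfsg.Agent.H915.LD (Core Soc)

section edge

variable {Wg Y : Type*} [Group Wg] [Group Y] {cs : CoxeterSystem (CoxeterMatrix.B 2) Wg} {p : ℕ} {T : Subgroup Y}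
  {n : Fin 2 → Y} {X : (Fin 2 → ℤ) → Subgroup Y} {k V : Type*} [Field k] [AddCommGroup V] [Module k V]
variable (R : RGD cs (isCartan 2) p T n X) [Finite Y] [Finite Wg] [Fact p.Prime] [CharP k p]
  {ρ : Y →* Module.End k V} [FiniteDimensional k V] [Nontrivial V]
  (hirr : ∀ L : Submodule k V, Ivt ρ (GG cs (isCartan 2) T X) L → L = ⊥ ∨ L = ⊤)
include R hirr

/-- four vertices and four edges -/
theorem four_four {i : Fin 2} (hi : i ∉ Jx cs (isCartan 2) X ρ) :
    4 * Module.finrank k (D cs (isCartan 2) X ρ) + 4 * Module.finrank k (Io cs (isCartan 2) T X ρ i) ≤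
      Module.finrank k V := by
  fin_cases i
  · exact Cfsg.Agent.H650.Ppd.dim_ge_list R hirr hi [[], [0], [0, 1], [0, 1, 0]] [[], [1], [1, 0], [1, 0, 1]]
      (by decide) (by decide)
  · exact Cfsg.Agent.H650.Ppd.dim_ge_list R hirr hi [[], [1], [1, 0], [1, 0, 1]] [[], [0], [0, 1], [0, 1, 0]]
      (by decide) (by decide)

end edge

section siegel

variable {K : Type} [Field K] [Fintype K] {q N : ℕ} {hK : Fintype.card K = q ^ 2} {W : WFrame (PU hK N) 2}

/-- admissible pairs -/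
def aE (W : WFrame (PU hK N) 2) {δ : K} (hδ : δ ^ q = -δ) (t : fixedField hK) : (toFrame W).Adm :=
  ⟨0, t * δ, W.V0.zero_mem, by
    have ht : (t : K) ^ q = t := t.2
    rw [ok_iff, herm_zero_left, mul_pow, hδ, ht]; ring⟩

/-- root elements of `SU` -/
noncomputable def zE (W : WFrame (PU hK N) 2) (i : Fin 2) (p : (toFrame W).Adm) : SU N K q :=
  ofRange K q N ⟨(toFrame W).Z (i, true) p, Z_mem hK W _ _⟩

/-- root elements of `SU` -/
noncomputable def xE (W : WFrame (PU hK N) 2) (t : K) : SU N K q :=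
  ofRange K q N ⟨(toFrame W).X (0, true) (1, true) t, X_mem hK W _ _ _⟩

theorem toLin_zE (i : Fin 2) (p : (toFrame W).Adm) : toLin K q N (zE W i p) = (toFrame W).Z (i, true) p :=
  toLin_ofRange _

theorem toLin_xE (t : K) : toLin K q N (xE W t) = (toFrame W).X (0, true) (1, true) t := toLin_ofRange _

variable {k E : Type*} [Field k] [AddCommGroup E] [Module k E] [FiniteDimensional k E] {ρ : SU N K q →* Module.End k E}

/-- **the bound from the Siegel unipotent** -/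
theorem siegel_bound (p : ℕ) [hp : Fact p.Prime] [CharP k p] {f c₂ : ℕ} (hq : q = p ^ f) (hc2 : c₂ < q) {δ : K}
    (hδ : δ ^ q = -δ) (hδ0 : δ ≠ 0) {j : K →+* k} {φ : Module.Dual k E} {c : E} {d : k} (hd : d ≠ 0)
    (hcoef : ∀ y : SU N K q, φ (ρ y c) = d * j (F2 (toFrame W) (toLin K q N y)) ^ c₂) {y0 : SU N K q} {l m : K}
    (hl : l ≠ 0) (hm : m ≠ 0)
    (h0 : toLin K q N y0 ((toFrame W).b (0, true)) = l • (toFrame W).b (0, false))
    (h1 : toLin K q N y0 ((toFrame W).b (1, true)) = m • (toFrame W).b (1, false)) :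
    ∑ e ∈ SS p c₂, (SS p e).card ^ 2 ≤ Module.finrank k E := by
  have : Fintype (fixedField hK) := Fintype.ofFinite _
  have hS : Fintype.card (fixedField hK) = p ^ f := by
    rw [← Nat.card_eq_fintype_card, card_fixedField, hq]
  have hL : Fintype.card K = (p ^ f) ^ 2 := by rw [hK, hq]
  refine rank_quad (S := fixedField hK) (L := K) (x := fun s => j (s * δ)) (z := j) (t := f) (c := c₂)
    (fun a b hab => ?_) j.injective hS hL (by rw [← hq]; exact hc2)
    (φ := fun A => φ.comp (ρ (zE W 0 (aE W hδ A.1) * xE W A.2)))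
    (v := fun B => ρ (zE W 1 (aE W hδ B.1) * xE W B.2 * y0) c) (d := d * j (l * m) ^ c₂)
    (mul_ne_zero hd (pow_ne_zero _ ?_)) (fun A B => ?_)
  · have h2 : (a : K) * δ = b * δ := j.injective hab
    exact Subtype.ext (mul_right_cancel₀ hδ0 h2)
  · rw [Ne, map_eq_zero]
    exact mul_ne_zero hl hm
  · change φ (ρ (zE W 0 (aE W hδ A.1) * xE W A.2) (ρ (zE W 1 (aE W hδ B.1) * xE W B.2 * y0) c)) = _
    have hcomm : Commute ((toFrame W).Z (1, true) (aE W hδ B.1)) ((toFrame W).X (0, true) (1, true) A.2) :=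
      Frame.commute_ZX _ (by simp [neg]) (by simp [neg]) _ _
    have e1 : toLin K q N (zE W 0 (aE W hδ A.1) * xE W A.2 * (zE W 1 (aE W hδ B.1) * xE W B.2 * y0)) =
        (toFrame W).Z (0, true) (aE W hδ A.1) * (toFrame W).Z (1, true) (aE W hδ B.1) *
          (toFrame W).X (0, true) (1, true) (A.2 + B.2) * toLin K q N y0 := by
      simp only [map_mul, toLin_zE, toLin_xE]
      rw [Frame.X_add]
      calc (toFrame W).Z (0, true) (aE W hδ A.1) * (toFrame W).X (0, true) (1, true) A.2 *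
            ((toFrame W).Z (1, true) (aE W hδ B.1) * (toFrame W).X (0, true) (1, true) B.2 * toLin K q N y0)
          = (toFrame W).Z (0, true) (aE W hδ A.1) * ((toFrame W).X (0, true) (1, true) A.2 *
            (toFrame W).Z (1, true) (aE W hδ B.1)) * (toFrame W).X (0, true) (1, true) B.2 * toLin K q N y0 := by
            simp only [mul_assoc]
        _ = _ := by rw [← hcomm.eq]; simp only [mul_assoc]
    have e2 : (aE W hδ A.1).c = A.1 * δ := rfl
    have e3 : (aE W hδ B.1).c = B.1 * δ := rfl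
    rw [← rho_mul, hcoef, e1, F2_siegel h0 h1 (p := aE W hδ A.1) (p' := aE W hδ B.1) rfl rfl, e2, e3, η_eq, η_eq,
      HU_ε, HU_σ, ← hq]
    simp only [inv_one, one_mul]
    have e4 : j (l * m * ((A.1 : K) * δ * ((B.1 : K) * δ) + (A.2 + B.2) ^ q * (A.2 + B.2))) =
        j (l * m) * (j ((A.1 : K) * δ) * j ((B.1 : K) * δ) + (j A.2 + j B.2) ^ (q + 1)) := by
      rw [map_mul, map_add, map_mul j ((A.1 : K) * δ), map_mul j ((A.2 + B.2) ^ q), map_pow, map_add, pow_succ]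
    rw [e4, mul_pow, ← mul_assoc]

end siegel

/-! ### the numbers -/

theorem exists_digits {a f N : ℕ} (ha : a ≠ 0) (hf : f ≠ 0) (h : a * N = 2 * f) :
    ∃ s, s * Nat.gcd a f = f ∧ 1 ≤ s ∧ (N = 2 * s ∨ (N = s ∧ ¬ 2 ∣ s)) := by
  rcases Nat.even_or_odd N with hN | hN
  · obtain ⟨t, ht⟩ := hN
    have h1 : a * t = f := by
      have : 2 * (a * t) = 2 * f := by rw [← h, ht]; ring
      omega
    have h2 : Nat.gcd a f = a := Nat.gcd_eq_left (Dvd.intro t h1)
    refine ⟨t, by rw [h2, mul_comm]; exact h1, ?_, Or.inl (by omega)⟩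
    rcases Nat.eq_zero_or_pos t with h0 | h0
    · rw [h0, mul_zero] at h1
      exact absurd h1.symm hf
    · exact h0
  · have h2 : 2 ∣ a := by
      have h3 : 2 ∣ a * N := Dvd.intro f h.symm
      exact (Nat.Coprime.dvd_of_dvd_mul_right (Nat.coprime_two_left.2 hN) h3)
    obtain ⟨b, rfl⟩ := h2
    have h3 : b * N = f := by
      have : 2 * (b * N) = 2 * f := by rw [← h]; ring
      omega
    have h4 : Nat.gcd (2 * b) f = b := by
      rw [← h3, mul_comm 2 b, Nat.gcd_mul_left, Nat.coprime_two_left.2 hN, mul_one]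
    refine ⟨N, by rw [h4, mul_comm]; exact h3, ?_, Or.inr ⟨rfl, ?_⟩⟩
    · have := hN.pos
      omega
    · intro h5
      rw [← Nat.not_even_iff_odd] at hN
      exact hN (even_iff_two_dvd.2 h5)

section main

universe u

variable {F : Type u} [Field F] [Finite F] {ι : Type} [Fintype ι] [DecidableEq ι] {P : Subgroup (GL ι F)}
  (p : ℕ) [hp : Fact p.Prime] [hFp : CharP F p] {K : Type} [Field K] [Fintype K] [hKp : CharP K p]

include hp hFp hKp in
/-- **cores of type `PSU(4, q)`** -/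
theorem core_bound4 {q N : ℕ} (hC : Core P) (hK : Fintype.card K = q ^ 2) (e : Soc P ≃* PSU 4 K q)
    (hN : Nat.card F ^ N = q ^ 2) (h7 : 7 ≤ Fintype.card ι) :
    4 * 2 ^ N ≤ Fintype.card ι + 4 ∨ ∃ s, 1 ≤ s ∧ (N = 2 * s ∨ (N = s ∧ ¬ 2 ∣ s)) ∧ 4 ^ s ≤ Fintype.card ι ∧
      (s = 2 → 25 ≤ Fintype.card ι) ∧ (s = 1 → 14 ≤ Fintype.card ι) := by
  classical
  have hne : Nonempty ι := Fintype.card_pos_iff.1 (by omega)
  have : Fintype F := Fintype.ofFinite F
  have hchar : CharP (AlgebraicClosure F) p := charP_of_injective_algebraMap (algebraMap F _).injective p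
  have hn4 : 3 ≤ 4 := by norm_num
  have hp1 := hp.out.one_lt
  obtain ⟨φ, h1, -, -⟩ := psu_cover p hC.perfect hn4 hK (by omega) e
  obtain ⟨W, hV0⟩ := exists_wframe_even (N := 4) hK (m := 2) rfl
  obtain ⟨p0, hp0, -⟩ := exists_adm hK W
  have hA : AmbT (toFrame W) p (modelSU hK hn4 W).I := AmbT.of_amb (amb_U hK W) p
  have hfinW : Finite (CoxeterMatrix.B 2).Group := finite_W (CoxeterMatrix.B 2).toCoxeterSystem
  have R := rgdC_model (modelSU hK hn4 W) hA hp0 (CoxeterMatrix.B 2).toCoxeterSystem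
  have hGG := gg_top (T := WittModel.T (modelSU hK hn4 W)) (WittModel.G1_eq_top (modelSU hK hn4 W) (by norm_num)
    (CoxeterMatrix.B 2).toCoxeterSystem)
  have hT := modelT_comm hA (Or.inl hV0)
  have hirr := ac_irr R hGG hT h1 hC.absIrred
  have hfr : Module.finrank (AlgebraicClosure F) (ι → AlgebraicClosure F) = Fintype.card ι := by simp
  by_cases h0 : (0 : Fin 2) ∈ Jx (CoxeterMatrix.B 2).toCoxeterSystem (isCartan 2)
      (WittModel.X (modelSU hK hn4 W)) (_root_.Cfsg.Agent.H911.lin (acRep φ))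
  swap
  · -- the first node is not in `J`
    left
    obtain ⟨m, hm, hfin⟩ := Cfsg.Agent.H650.Ppd.edge_pow_of_card R hGG hT h1 hC.absIrred (node_zero hn4 W) h0
      (s := N) (by rw [Nat.card_eq_fintype_card, hK, hN])
    have h2 := four_four R hirr h0
    have h3 := finrank_Io R hirr (ρ := _root_.Cfsg.Agent.H911.lin (acRep φ)) 0
    rw [finrank_D R hirr hT] at h2 h3
    rw [hfr] at h2
    rw [hfin] at h3
    have h4 := Nat.pow_le_pow_left hm N
    omega
  · right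
    have hcD := finrank_D R hirr hT
    obtain ⟨i, hi⟩ := exists_not_mem R hirr (by rw [hcD, hfr]; omega)
    have h1J : (1 : Fin 2) ∉ Jx (CoxeterMatrix.B 2).toCoxeterSystem (isCartan 2)
        (WittModel.X (modelSU hK hn4 W)) (_root_.Cfsg.Agent.H911.lin (acRep φ)) := by
      fin_cases i
      · exact absurd h0 hi
      · exact hi
    obtain ⟨c, hc, hc0, χ, hχ⟩ := exists_chi R hirr hT
    obtain ⟨δ, hδ, hδ0⟩ := exists_delta hK
    obtain ⟨σ, hNd, hσR, hσs⟩ := node_one hn4 hV0 hδ hδ0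
    obtain ⟨j⟩ := Cfsg.Agent.H875.Psl2.exists_emb F K p
    -- the numbers
    obtain ⟨a, -, ha⟩ := FiniteField.card F p
    have hF : Nat.card F = p ^ (a : ℕ) := by rw [Nat.card_eq_fintype_card, ha]
    obtain ⟨b, -, hb⟩ := FiniteField.card K p
    obtain ⟨f, hq⟩ : ∃ f, q = p ^ f := by
      have h2 : q ∣ p ^ (b : ℕ) := by rw [← hb, hK, sq]; exact Dvd.intro _ rfl
      obtain ⟨f, -, hf⟩ := (Nat.dvd_prime_pow hp.out).1 h2
      exact ⟨f, hf⟩
    have haN : (a : ℕ) * N = 2 * f := by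
      apply Nat.pow_right_injective hp.out.two_le
      simp only
      rw [pow_mul, ← hF, hN, hq, ← pow_mul, mul_comm]
    have hf0 : f ≠ 0 := by
      rintro rfl
      rw [pow_zero] at hq
      rw [hq] at hK
      have := Fintype.one_lt_card (α := K)
      omega
    obtain ⟨s, hs, hs1, hsN⟩ := exists_digits a.pos.ne' hf0 haN
    have : Fintype (fixedField hK) := Fintype.ofFinite _
    have hEp : CharP (fixedField hK) p :=
      (RingHom.charP_iff (fixedField hK).subtype (fixedField hK).subtype_injective p).2 inferInstance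
    obtain ⟨r₀, hr0, hr1, hr2, -⟩ := Cfsg.Agent.H650.Ppd.edge_data R hGG hT h1 hC.absIrred hNd h1J hF
      (by rw [card_fixedField, hq]) hs (j.comp (fixedField hK).subtype) hc hc0 hχ
    set! c₂ := r₀ * ∑ l ∈ Finset.range s, (p ^ Nat.gcd a f) ^ l with hc₂; rewrite [← hc₂] at hr2
    have hg0 : Nat.gcd a f ≠ 0 := Nat.gcd_ne_zero_left a.pos.ne'
    have hQ2 : 1 < p ^ Nat.gcd a f := Nat.one_lt_pow hg0 hp1
    have hgeo : (∑ l ∈ Finset.range s, (p ^ Nat.gcd a f) ^ l) * (p ^ Nat.gcd a f - 1) = q - 1 := by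
      have h2 := Nat.geomSum_eq (m := p ^ Nat.gcd a f) hQ2 s
      have h3 := Nat.sub_dvd_pow_sub_pow (p ^ Nat.gcd a f) 1 s
      rw [one_pow] at h3
      rw [h2, Nat.div_mul_cancel h3, ← pow_mul, mul_comm _ s, hs, ← hq]
    have hq1 : 1 < q := by rw [hq]; exact Nat.one_lt_pow hf0 hp1
    have hsum0 : (∑ l ∈ Finset.range s, (p ^ Nat.gcd a f) ^ l) ≠ 0 := by
      intro h2
      rw [h2, zero_mul] at hgeo
      omega
    have hc20 : c₂ ≠ 0 := mul_ne_zero hr0 hsum0
    have hc2q : c₂ < q := by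
      have h2 : c₂ ≤ q - 1 := by
        rw [hc₂, ← hgeo, mul_comm]
        exact Nat.mul_le_mul_left _ (by omega)
      omega
    -- the coefficient
    have hχ2 : ∀ t ∈ WittModel.T (modelSU hK hn4 W), χ t = j (F2 (toFrame W) (toLin K q 4 t)) ^ c₂ :=
      fun t ht => chi_eq hn4 h0 hc hc0 hχ hδ0 hσR hσs j hr2 R ht
    obtain ⟨ψ, hψ, hψc⟩ := exists_pair_D R hirr hc hc0
    obtain ⟨v0, hv0, g, hg, -, hgm⟩ := exists_neg (modelSU hK hn4 W)
      (cs := (CoxeterMatrix.B 2).toCoxeterSystem) hA hp0 R.nsys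
    have hcoef := (real hn4 W p0 hp0).master R hirr hc hc0 hχ hc20 h0 h1J hχ2 hψ hGG hv0
    obtain ⟨l, hl, hl'⟩ := hgm (0, true)
    obtain ⟨m, hm, hm'⟩ := hgm (1, true)
    have hy0 : toLin K q 4 ((modelSU hK hn4 W).φ ⟨g, hg⟩) = g := toLin_ofRange _
    have hsb := siegel_bound p hq hc2q hδ hδ0 hψc hcoef (y0 := (modelSU hK hn4 W).φ ⟨g, hg⟩) hl hm
      (by rw [hy0]; exact hl') (by rw [hy0]; exact hm')
    rw [hfr] at hsb
    refine ⟨s, hs1, hsN, (four_pow_le hr1 hr0 s).trans hsb, ?_, ?_⟩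
    · rintro rfl
      exact (twentyfive_le hr1 hr0).trans hsb
    · rintro rfl
      by_cases h3 : 3 ≤ (SS p c₂).card
      · exact (fourteen_le h3).trans hsb
      · exfalso
        have h4 := two_le_card_SS (p := p) hc20
        obtain ⟨t, ht⟩ := Cfsg.Agent.H875.Psl2.eq_pow_of_card_two (p := p) (r := c₂) (by omega)
        have hsp : ∀ v : Fin 4 → K, ∃ a : Fin 2 × Bool → K, v = ∑ x, a x • (toFrame W).b x := by
          intro v
          obtain ⟨x, y, w, hw, hv⟩ := W.span v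
          rw [hV0, Submodule.mem_bot] at hw
          refine ⟨fun z => if z.2 then x z.1 else y z.1, ?_⟩
          rw [hv, hw, add_zero, Fintype.sum_prod_type]
          simp only [Fintype.sum_bool, if_true, Bool.false_eq_true, if_false, toFrame_b_true, toFrame_b_false]
          rw [Finset.sum_add_distrib]
        have h5 := finrank_le_six (Fr := toFrame W) (τ := toLin K q 4) (φ := ψ) p hsp (by rw [← hGG]; exact hirr) j (i := t) hc0
          (fun h => hψc (by rw [h]; rfl)) (by rw [← ht]; exact hcoef)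
        rw [hfr] at h5
        omega

end main

end Cfsg.Agent.H269.Ppd
end

private theorem dce_ac61eccb05b1 : _root_.True := by
  try have : _root_.True := by simp only [_root_.Cfsg.Agent.H269.Ppd.aE.congr_simp]
  exact _root_.True.intro
end

-- part: H269/Ppd/PsuFour
section
set_option linter.all false
open scoped Cfsg.Agent.FastGrp

/-!
# TEAM PPD (S5948): `PSU(4, q₀)` in the defining characteristic (helper269)

* `dvd_of_card4` : the primes dividing the order of `PSU(4, q)`;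
* **`not_psu4`** : the row.
-/

set_option autoImplicit false
set_option linter.unusedSectionVars false

namespace Cfsg.Agent.H269.Ppd

open Cfsg Cfsg.Geo Matrix Cfsg.Agent.H100.Ppd Cfsg.Agent.H915.LD
open scoped MatrixGroups

universe u

/-- the primes dividing the order of `PSU(4, q)` -/
theorem dvd_of_card4 {K : Type} [Field K] [Fintype K] {q r : ℕ} (hK : Fintype.card K = q ^ 2) (hq : 2 ≤ q)
    (hr : r.Prime) (hrq : ¬ r ∣ q) (hd : r ∣ Nat.card (PSU 4 K q)) : r ∣ q ^ 6 - 1 ∨ r ∣ q ^ 4 - 1 := by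
  have h1 := S0280.result hK 4 (by norm_num)
  simp only [Finset.prod_range_succ, Finset.prod_range_zero, one_mul] at h1
  have e0 : (if Even 0 then q ^ (0 + 1) + 1 else q ^ (0 + 1) - 1) = q + 1 := by norm_num
  have e1 : (if Even 1 then q ^ (1 + 1) + 1 else q ^ (1 + 1) - 1) = q ^ 2 - 1 := by norm_num
  have e2 : (if Even 2 then q ^ (2 + 1) + 1 else q ^ (2 + 1) - 1) = q ^ 3 + 1 := by norm_num
  have e3 : (if Even 3 then q ^ (3 + 1) + 1 else q ^ (3 + 1) - 1) = q ^ 4 - 1 := by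
    rw [if_neg (by decide)]
  rw [e0, e1, e2, e3] at h1
  have h2 : r ∣ q ^ (4 * (4 - 1) / 2) * ((q + 1) * (q ^ 2 - 1) * (q ^ 3 + 1) * (q ^ 4 - 1)) := by
    have h3 : r ∣ Nat.gcd 4 (q + 1) * ((q + 1) * Nat.card (PSU 4 K q)) := (hd.mul_left _).mul_left _
    rwa [h1] at h3
  have e6 : q ^ 6 - 1 = (q ^ 3 - 1) * (q ^ 3 + 1) := by
    have hq3 : 1 ≤ q ^ 3 := Nat.one_le_pow _ _ (by omega)
    obtain ⟨s, hs⟩ : ∃ s, q ^ 3 = s + 1 := ⟨q ^ 3 - 1, (Nat.sub_add_cancel hq3).symm⟩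
    have h7 : q ^ 6 = q ^ 3 * q ^ 3 := by ring
    have h8 : (s + 1) * (s + 1) = s * (s + 1 + 1) + 1 := by ring
    rw [h7, hs, h8, Nat.add_sub_cancel, Nat.add_sub_cancel]
  have h4 : q ^ 2 - 1 ∣ q ^ 4 - 1 := Nat.pow_sub_one_dvd_pow_sub_one q (by norm_num)
  have h5 : q + 1 ∣ q ^ 2 - 1 := ⟨q - 1, by rw [← Nat.sq_sub_sq q 1, one_pow]⟩
  have h6 : q ^ 3 + 1 ∣ q ^ 6 - 1 := by rw [e6]; exact dvd_mul_left _ _
  rcases hr.dvd_mul.1 h2 with h | h
  · exact absurd (hr.dvd_of_dvd_pow h) hrq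
  rcases hr.dvd_mul.1 h with h | h
  · rcases hr.dvd_mul.1 h with h | h
    · rcases hr.dvd_mul.1 h with h | h
      · exact Or.inr (h.trans (h5.trans h4))
      · exact Or.inr (h.trans h4)
    · exact Or.inl (h.trans h6)
  · exact Or.inr h

theorem bound_A : ∀ N : ℕ, 2 ≤ N → 6 * N + 4 ≤ 4 * 2 ^ N := by
  intro N hN
  induction N, hN using Nat.le_induction with
  | base => norm_num
  | succ N hN ih =>
    rw [pow_succ]
    omega

theorem bound_B : ∀ s : ℕ, 3 ≤ s → 12 * s ≤ 4 ^ s := by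
  intro s hs
  induction s, hs using Nat.le_induction with
  | base => norm_num
  | succ N hN ih =>
    rw [pow_succ]
    omega

variable {F : Type u} [Field F] [Finite F]

/-- the field of definition of a core of type `PSU(4, q)` -/
theorem exists_card_pow {ι : Type} [Fintype ι] [DecidableEq ι] [Nonempty ι] {P : Subgroup (GL ι F)} (hC : Core P)
    (p : ℕ) [hp : Fact p.Prime] [hFp : CharP F p] {K : Type} [Field K] [Fintype K] [hKp : CharP K p] {q M : ℕ}
    (hM : 3 ≤ M) (h32 : ¬ (M = 3 ∧ q = 2)) (hK : Fintype.card K = q ^ 2) (e : Soc P ≃* PSU M K q) :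
    ∃ N, 1 ≤ N ∧ Nat.card F ^ N = q ^ 2 := by
  obtain ⟨b, -, hb⟩ := FiniteField.card K p
  have h1 : ∀ x : F, x ^ p ^ (b : ℕ) = x := H905.Md.pow_eq_of_no_subfield hC.absIrred hC.no_subfield p b
    (fun g hg => by
      have h2 := (H905.Md.psu_both p hC.absIrred hC.perfect hM hK h32 e hg).1
      rwa [← hK, hb] at h2)
  obtain ⟨N, hN1, hN⟩ := H905.Md.card_pow_eq p b.pos.ne' h1
  exact ⟨N, hN1, by rw [hN, ← hb, hK]⟩

/-- **The row `PSU(4, q₀)`, defining characteristic** -/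
theorem not_psu4 {n k m : ℕ} {P : Subgroup (GL (Fin n) F)} (h : Row k m P)
    (hg : ∃ r, r.Prime ∧ r ∣ m ∧ r ∣ Nat.card (Soc P)) {p : ℕ} [hp : Fact p.Prime] [hFp : CharP F p] {K : Type}
    [Field K] [Fintype K] [hKp : CharP K p] {q₀ : ℕ} (hK : Fintype.card K = q₀ ^ 2)
    (e : Soc P ≃* PSU 4 K q₀) : False := by
  have hten := h.num.ten
  have hlt := h.num.nlt
  have hne : Nonempty (Fin n) := ⟨⟨0, by omega⟩⟩
  have hq2 : 2 ≤ q₀ := by
    by_contra hcon
    have h1 := Fintype.one_lt_card (α := K)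
    rw [hK] at h1
    have h2 : q₀ = 0 ∨ q₀ = 1 := by omega
    rcases h2 with rfl | rfl <;> norm_num at h1
  obtain ⟨N, hN1, hN⟩ := exists_card_pow h.core p (M := 4) (by norm_num) (by omega) hK e
  have hb := core_bound4 p h.core hK e hN (by rw [Fintype.card_fin]; omega)
  rw [Fintype.card_fin] at hb
  obtain ⟨r, hr, hrm, hrc⟩ := hg
  have hrq : ¬ r ∣ q₀ := by
    intro hd
    have h1 : r ∣ Nat.card F ^ N := by
      rw [hN]
      exact dvd_pow hd (by norm_num)
    exact h.num.not_dvd_q hr hrm (hr.dvd_of_dvd_pow h1)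
  rw [Nat.card_congr e.toEquiv] at hrc
  have hkey : ∀ c : ℕ, r ∣ q₀ ^ (2 * c) - 1 → k ∣ c * N := by
    intro c hc
    rw [← h.num.pow_eq_one_iff hr hrm]
    have : Fact r.Prime := ⟨hr⟩
    have h2 : Nat.card F ^ (c * N) = q₀ ^ (2 * c) := by
      rw [mul_comm, pow_mul, hN, ← pow_mul]
    have h3 : 1 ≤ q₀ ^ (2 * c) := Nat.one_le_pow _ _ (by omega)
    rw [← Nat.cast_pow, h2, ← sub_eq_zero, ← Nat.cast_one, ← Nat.cast_sub h3, ZMod.natCast_eq_zero_iff]
    exact hc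
  have hk : k ≤ 3 * N := by
    rcases dvd_of_card4 hK hq2 hr hrq hrc with h1 | h1
    · exact Nat.le_of_dvd (by omega) (hkey 3 h1)
    · exact (Nat.le_of_dvd (by omega) (hkey 2 h1)).trans (Nat.mul_le_mul_right _ (by norm_num))
  rcases hb with hb | ⟨s, hs1, hsN, h4, h25, h14⟩
  · have := bound_A N (by omega)
    omega
  · by_cases hs3 : 3 ≤ s
    · have := bound_B s hs3
      rcases hsN with h5 | h5 <;> omega
    · have hs : s = 1 ∨ s = 2 := by omega
      rcases hs with rfl | rfl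
      · have := h14 rfl
        rcases hsN with h5 | h5 <;> omega
      · have := h25 rfl
        rcases hsN with h5 | ⟨h5, h6⟩
        · omega
        · exact h6 (dvd_refl _)

end Cfsg.Agent.H269.Ppd
end

-- part: H909/ReePer
section
set_option linter.all false
open scoped Cfsg.Agent.FastGrp

/-!
# The kernel of the Ree groups, periodic exponents (helper909)

`|K| = 3 ^ (2 m + 1) = q ^ s`, `q = 3 ^ g`, `r = t (1 + q + ... + q ^ (s - 1))`, `1 ≤ t ≤ q - 1`: the rank of the kernel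
is at least `4 ^ s` or at least `|K| - 2`.
-/

set_option autoImplicit false
set_option linter.unusedSectionVars false

namespace Cfsg.Agent.H909.ReeKer

open Cfsg.Agent.H875.Fn Cfsg.Agent.H909.Sp4Ker Cfsg.Agent.H141.ReeK

universe u v w

/-- `1 + q + ... + q ^ (s - 1)`, `q = 3 ^ g` -/
def Gm (g s : ℕ) : ℕ := ∑ i ∈ Finset.range s, (3 ^ g) ^ i

theorem Gm_succ (g s : ℕ) : Gm g (s + 1) = 1 + 3 ^ g * Gm g s := by
  unfold Gm
  rw [Finset.sum_range_succ', pow_zero, Finset.mul_sum, add_comm]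
  congr 1
  exact Finset.sum_congr rfl fun i _ => pow_succ' _ _

theorem Gm_mul (g s : ℕ) : Gm g s * (3 ^ g - 1) + 1 = 3 ^ (g * s) := by
  have h1 : 3 ^ g = 3 ^ g - 1 + 1 := by
    have : 1 ≤ 3 ^ g := Nat.one_le_pow _ _ (by norm_num)
    omega
  have h2 := geom_sum_mul_add (3 ^ g - 1) s
  rw [← h1, ← pow_mul] at h2
  exact h2

theorem Gm_pos {g s : ℕ} (hs : 1 ≤ s) : 1 ≤ Gm g s := by
  obtain ⟨s', rfl⟩ : ∃ s', s = s' + 1 := ⟨s - 1, by omega⟩
  rw [Gm_succ]
  exact Nat.le_add_right _ _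

theorem mul_Gm_le {g s t : ℕ} (ht : t ≤ 3 ^ g - 1) : t * Gm g s ≤ 3 ^ (g * s) - 1 := by
  have h1 := Gm_mul g s
  have h2 : t * Gm g s ≤ (3 ^ g - 1) * Gm g s := Nat.mul_le_mul_right _ ht
  rw [mul_comm (3 ^ g - 1)] at h2
  omega

theorem dg_geom {g s t i l : ℕ} (hi : i < s) (hl : l < g) (ht : t < 3 ^ g) :
    dg (t * Gm g s) (l + g * i) = dg t l := by
  induction i generalizing s with
  | zero =>
    obtain ⟨s', rfl⟩ : ∃ s', s = s' + 1 := ⟨s - 1, by omega⟩
    have h1 : t * Gm g (s' + 1) = 3 ^ l * (3 * (3 ^ (g - l - 1) * (t * Gm g s'))) + t := by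
      rw [Gm_succ]
      have h2 : (3 : ℕ) ^ g = 3 ^ l * (3 * 3 ^ (g - l - 1)) := by
        rw [← pow_succ', ← pow_add]; congr 1; omega
      rw [h2]; ring
    rw [mul_zero, add_zero, dg, h1, Nat.mul_add_div (pow_pos (by norm_num) l), Nat.mul_add_mod]
    rfl
  | succ i ih =>
    obtain ⟨s', rfl⟩ : ∃ s', s = s' + 1 := ⟨s - 1, by omega⟩
    rw [← ih (s := s') (by omega)]
    have h1 : t * Gm g (s' + 1) = 3 ^ g * (t * Gm g s') + t := by rw [Gm_succ]; ring
    rw [dg, dg, h1, show l + g * (i + 1) = g + (l + g * i) by ring, pow_add, ← Nat.div_div_eq_div_mul,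
      Nat.mul_add_div (pow_pos (by norm_num) g), Nat.div_eq_of_lt ht, add_zero]

theorem exists_coord {g s i : ℕ} (hi : i < g * s) : ∃ l a, l < g ∧ a < s ∧ i = l + g * a := by
  have hg : 0 < g := Nat.pos_of_ne_zero (by rintro rfl; omega)
  refine ⟨i % g, i / g, Nat.mod_lt _ hg, ?_, (Nat.mod_add_div i g).symm⟩
  rw [Nat.div_lt_iff_lt_mul hg, mul_comm]
  exact hi

theorem dg_one (i : ℕ) : dg 1 i = if i = 0 then 1 else 0 := by
  rcases Nat.eq_zero_or_pos i with rfl | h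
  · simp [dg]
  · rw [if_neg (by omega), dg, Nat.div_eq_of_lt (Nat.one_lt_pow (by omega) (by norm_num))]

theorem four_mul_le {s : ℕ} (hs : 3 ≤ s) : 12 * s ≤ 4 ^ s := by
  induction s, hs using Nat.le_induction with
  | base => norm_num
  | succ s hs ih => rw [pow_succ]; omega

theorem three_mul_le {s : ℕ} (hs : 4 ≤ s) : 12 * s ≤ 3 ^ s - 2 := by
  induction s, hs using Nat.le_induction with
  | base => norm_num
  | succ s hs ih =>
    have : 27 ≤ 3 ^ s := by
      calc 27 = 3 ^ 3 := by norm_num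
        _ ≤ 3 ^ s := Nat.pow_le_pow_right (by norm_num) (by omega)
    rw [pow_succ]; omega

section main

variable {K : Type u} [Field K] [Fintype K] {k : Type v} [Field k] (j : K →+* k)
variable {V : Type w} [AddCommGroup V] [Module k V] [FiniteDimensional k V]

/-- the rows `(0, u, v)` and the columns `(0, y, 0)` -/
theorem rows_eq {m : ℕ} (hK : Fintype.card K = 3 ^ (2 * m + 1)) {c : ℕ} {f : K → K → K → Module.Dual k V}
    {w : K → K → K → V} (h : ∀ t u v t' u' v', f t u v (w t' u' v') = j (ker (3 ^ m) t u v t' u' v') ^ c)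
    (u V y : K) : f 0 u (V ^ (3 ^ m * 3)) (w 0 y 0) = j ((1 - u * y) ^ (1 + 3 ^ m) + V ^ 2 * y ^ (1 + 3 ^ m)) ^ c := by
  have : CharP K 3 := charP_of_card_eq_prime_pow hK
  rw [h, ker_uv']
  rw [show 3 ^ m * 3 ^ m * 3 = Fintype.card K by rw [hK]; ring]
  exact FiniteField.pow_card V

/-- no digit vanishes -/
theorem full_le {m : ℕ} (hm : 1 ≤ m) (hK : Fintype.card K = 3 ^ (2 * m + 1)) {c : ℕ}
    (hcq : c ≤ Fintype.card K - 1) (hall : ∀ p < 2 * m + 1, dg c p ≠ 0) {f : K → K → K → Module.Dual k V}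
    {w : K → K → K → V}
    (h : ∀ t u v t' u' v', f t u v (w t' u' v') = j (ker (3 ^ m) t u v t' u' v') ^ c) :
    Fintype.card K - 2 ≤ Module.finrank k V := by
  have h27 : 27 ≤ 3 ^ (2 * m + 1) := by
    calc 27 = 3 ^ 3 := by norm_num
      _ ≤ 3 ^ (2 * m + 1) := Nat.pow_le_pow_right (by norm_num) (by omega)
  have : CharP K 3 := charP_of_card_eq_prime_pow hK
  have : CharP k 3 := charP_of_injective_ringHom j.injective 3
  have hcq' : c < 3 ^ (2 * m + 1) := by omega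
  have huv := rows_eq j hK h
  have hC : ¬ 3 ∣ c.choose (H (2 * m + 1)) := (choose_ne hcq' (H_lt _)).2 fun i hi => by
    rw [dg_H hi]
    exact Nat.one_le_iff_ne_zero.2 (hall i hi)
  have hHc : H (2 * m + 1) ≤ c := by
    by_contra hcon
    apply hC
    rw [Nat.choose_eq_zero_of_lt (by omega)]
    exact dvd_zero _
  have hH2 := two_H (2 * m + 1)
  have hred : red (Fintype.card K) ((1 + 3 ^ m) * (c - (c - H (2 * m + 1)))) = 3 ^ (2 * m + 1) - 1 := by
    rw [hK, Nat.sub_sub_self hHc]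
    have h1 : 2 * H (2 * m + 1) = 3 ^ (2 * m + 1) - 1 := by omega
    have h2 : (1 + 3 ^ m) * H (2 * m + 1) = (3 ^ (2 * m + 1) - 1) * (1 + H m) := by
      rw [← h1, ← two_H m]; ring
    rw [h2, red_congr (m := 3 ^ (2 * m + 1) - 1) _ (by omega), red_eq le_rfl]
    · exact (Nat.modEq_zero_iff_dvd.2 (Dvd.intro _ rfl)).trans (Nat.modEq_zero_iff_dvd.2 (dvd_refl _)).symm
    · exact Nat.mul_ne_zero (by omega) (by omega)
  have hex : ∀ i : Fin (Fintype.card K - 2), ∃ G : Module.Dual k V, ∀ y, G (w 0 y 0) =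
      (c.choose (c - H (2 * m + 1)) : k) * j y ^ ((1 + 3 ^ m) * (c - H (2 * m + 1)) + ((i : ℕ) + 1)) := by
    intro i
    refine exists_fun j (fun u V => f 0 u (V ^ (3 ^ m * 3))) (fun y => w 0 y 0) huv
      (Nat.sub_le _ _) ?_ ?_
    · rw [hred, mem_SS']
      have := i.2
      refine (choose_ne (n := 2 * m + 1) (by omega) (by omega)).2 fun l hl => ?_
      rw [dg_pred hl]
      have := dg_lt ((i : ℕ) + 1) l
      omega
    · intro d hd _ hcol
      rw [hK] at hcol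
      rcases collision (by omega) hHc hd hcol with h1 | h1
      · exact Or.inl h1
      · exact Or.inr ⟨h1, by omega⟩
  choose G hG using hex
  have h1 := le_of_powers j G (fun y => w 0 y 0) (fun _ => (c.choose (c - H (2 * m + 1)) : k))
    (fun i => (1 + 3 ^ m) * (c - H (2 * m + 1)) + ((i : ℕ) + 1)) (fun _ => by
      rw [Nat.choose_symm hHc]
      intro h2
      exact hC ((CharP.cast_eq_zero_iff k 3 _).1 h2)) hG (by
      intro i l hil
      have := i.2
      have := l.2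
      have h2 := inj_aux (q := Fintype.card K) (by omega) (by omega) hil
      exact Fin.ext (by omega))
  rwa [Fintype.card_fin] at h1

/-- some digit vanishes, `3 ∤ t` -/
theorem zero_le {m : ℕ} (hm : 1 ≤ m) (hK : Fintype.card K = 3 ^ (2 * m + 1)) {g s t : ℕ} (hgs : g * s = 2 * m + 1)
    (ht3 : ¬ 3 ∣ t) (ht : t ≤ 3 ^ g - 1) {p : ℕ} (hp : p < 2 * m + 1) (hcp : dg (t * Gm g s) p = 0)
    {f : K → K → K → Module.Dual k V} {w : K → K → K → V}
    (h : ∀ t' u v t'' u' v', f t' u v (w t'' u' v') = j (ker (3 ^ m) t' u v t'' u' v') ^ (t * Gm g s)) :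
    4 ^ s ≤ Module.finrank k V := by
  have h27 : 27 ≤ 3 ^ (2 * m + 1) := by
    calc 27 = 3 ^ 3 := by norm_num
      _ ≤ 3 ^ (2 * m + 1) := Nat.pow_le_pow_right (by norm_num) (by omega)
  have : CharP K 3 := charP_of_card_eq_prime_pow hK
  have : CharP k 3 := charP_of_injective_ringHom j.injective 3
  have huv := rows_eq j hK h
  have hg0 : 0 < g := Nat.pos_of_ne_zero (by rintro rfl; omega)
  have hs0 : 0 < s := Nat.pos_of_ne_zero (by rintro rfl; omega)
  have hG3 : 0 < 3 ^ g := pow_pos (by norm_num) g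
  have htg : t < 3 ^ g := by omega
  have hcq' : t * Gm g s < 3 ^ (2 * m + 1) := by
    have := mul_Gm_le (s := s) ht
    rw [hgs] at this
    omega
  -- `g ≥ 2`
  have hg2 : 2 ≤ g := by
    by_contra hcon
    have hg1 : g = 1 := by omega
    subst hg1
    obtain ⟨l, a, hl, ha, rfl⟩ := exists_coord (g := 1) (s := s) (i := p) (by omega)
    rw [dg_geom ha hl htg] at hcp
    have hl0 : l = 0 := by omega
    subst hl0
    exact dg_zero_ne ht3 hcp
  have hGle : Gm g s ≤ t * Gm g s := Nat.le_mul_of_pos_left _ (Nat.pos_of_ne_zero (by rintro rfl; exact ht3 (dvd_zero _)))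
  have h1G : ∀ i, i < 2 * m + 1 → dg (Gm g s) i ≤ dg (t * Gm g s) i := by
    intro i hi
    obtain ⟨l, a, hl, ha, rfl⟩ := exists_coord (g := g) (s := s) (i := i) (by omega)
    have h1 := dg_geom (t := 1) ha hl (by
      calc 1 < 3 ^ 1 := by norm_num
        _ ≤ 3 ^ g := Nat.pow_le_pow_right (by norm_num) (by omega))
    rw [one_mul] at h1
    rw [h1, dg_geom ha hl htg, dg_one]
    split_ifs with h2
    · subst h2
      exact Nat.one_le_iff_ne_zero.2 (dg_zero_ne ht3)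
    · exact Nat.zero_le _
  have hC : ¬ 3 ∣ (t * Gm g s).choose (Gm g s) := (choose_ne hcq' (lt_of_le_of_lt hGle hcq')).2 h1G
  -- the exponent
  obtain ⟨a, b, ha, hmab⟩ : ∃ a b, a < g ∧ m = a + g * b := ⟨m % g, m / g, Nat.mod_lt _ hg0, (Nat.mod_add_div m g).symm⟩
  have ha0 : a ≠ 0 := by
    rintro rfl
    rw [zero_add] at hmab
    have h1 : g ∣ 1 := by
      have h2 : g ∣ 2 * m + 1 := Dvd.intro _ hgs
      have h3 : g ∣ 2 * m := by rw [hmab]; exact Dvd.dvd.mul_left (Dvd.intro _ rfl) 2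
      exact (Nat.dvd_add_right h3).1 h2
    have := Nat.le_of_dvd (by norm_num) h1
    omega
  have hGq : Gm g s * (3 ^ g - 1) = 3 ^ (2 * m + 1) - 1 := by
    have := Gm_mul g s
    rw [hgs] at this
    omega
  have hshift : ∀ b : ℕ, (3 ^ g) ^ b * Gm g s ≡ Gm g s [MOD 3 ^ (2 * m + 1) - 1] := by
    intro b
    induction b with
    | zero => rw [pow_zero, one_mul]
    | succ b ih =>
      rw [pow_succ' (3 ^ g) b, mul_assoc]
      refine (Nat.ModEq.mul_left _ ih).trans ?_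
      have h1 : 3 ^ g * Gm g s = Gm g s + Gm g s * (3 ^ g - 1) := by
        obtain ⟨x, hx⟩ : ∃ x, 3 ^ g = x + 1 := ⟨3 ^ g - 1, by omega⟩
        rw [hx, Nat.add_sub_cancel]; ring
      rw [h1, hGq]
      exact (Nat.modEq_zero_iff_dvd.2 (dvd_refl _)).add_left _ |>.trans (by rw [add_zero])
  have hG0 : Gm g s ≠ 0 := by have := Gm_pos (g := g) (s := s) hs0; omega
  have hag : 3 * 3 ^ a ≤ 3 ^ g := by
    rw [← pow_succ']; exact Nat.pow_le_pow_right (by norm_num) ha
  have ha3 : 3 ^ 1 ≤ 3 ^ a := Nat.pow_le_pow_right (by norm_num) (by omega)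
  have hred : red (3 ^ (2 * m + 1)) ((1 + 3 ^ m) * Gm g s) = (1 + 3 ^ a) * Gm g s := by
    rw [← red_eq (q := 3 ^ (2 * m + 1)) (n := (1 + 3 ^ a) * Gm g s)]
    · apply red_congr
      · exact Nat.mul_ne_zero (by positivity) hG0
      · exact Nat.mul_ne_zero (by positivity) hG0
      · have hm3 : 3 ^ m * Gm g s = 3 ^ a * ((3 ^ g) ^ b * Gm g s) := by
          rw [← mul_assoc, ← pow_mul, ← pow_add, ← hmab]
        rw [add_mul, add_mul, one_mul, hm3]
        exact Nat.ModEq.add_left _ (Nat.ModEq.mul_left _ (hshift b))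
    · rw [← hGq, mul_comm]
      exact Nat.mul_le_mul_left _ (by omega)
  have hRlt : (1 + 3 ^ a) * Gm g s < 3 ^ (2 * m + 1) - 1 := by
    rw [← hGq, mul_comm]
    exact Nat.mul_lt_mul_of_pos_left (by omega) (Nat.pos_of_ne_zero hG0)
  have hcard : (SS 3 ((1 + 3 ^ a) * Gm g s)).card = 4 ^ s := by
    unfold Gm
    rw [card_SS_geom (by omega)]
    have h1 : (SS 3 (1 + 3 ^ a)).card = 4 := by
      have h2 := card_SS_add (p := 3) (t := a) (r₁ := 1) (r₂ := 3 ^ a) (by omega) (dvd_refl _)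
      rw [h2, card_SS_lt (by norm_num)]
      have h3 := card_SS_digit (p := 3) (c := 1) (by norm_num) a
      rw [mul_one] at h3
      rw [h3]
    rw [h1]
  have hsub : t * Gm g s - (t * Gm g s - Gm g s) = Gm g s := Nat.sub_sub_self hGle
  have hex : ∀ κ : SS 3 ((1 + 3 ^ a) * Gm g s), ∃ G : Module.Dual k V,
      ∀ y, G (w 0 y 0) = ((t * Gm g s).choose (t * Gm g s - Gm g s) : k) *
        j y ^ ((1 + 3 ^ m) * (t * Gm g s - Gm g s) + (κ : ℕ)) := by
    intro κ
    refine exists_fun j (fun u V => f 0 u (V ^ (3 ^ m * 3))) (fun y => w 0 y 0) huv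
      (Nat.sub_le _ _) ?_ ?_
    · rw [hK, hsub, hred]
      exact κ.2
    · intro d hd hCd hcol
      rw [hK] at hcol
      exact Or.inl (no_collision hcq' hp hcp hd (Nat.sub_le _ _) hCd
        (by rwa [Nat.choose_symm hGle]) hcol)
  choose G hG using hex
  have h1 := le_of_powers j G (fun y => w 0 y 0) (fun _ => ((t * Gm g s).choose (t * Gm g s - Gm g s) : k))
    (fun κ => (1 + 3 ^ m) * (t * Gm g s - Gm g s) + (κ : ℕ)) (fun _ => by
      rw [Nat.choose_symm hGle]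
      intro h2
      exact hC ((CharP.cast_eq_zero_iff k 3 _).1 h2)) hG (by
      intro i l hil
      rw [hK] at hil
      have hi := (mem_SS.1 i.2).1
      have hl := (mem_SS.1 l.2).1
      exact Subtype.ext (inj_aux (by omega) (by omega) hil))
  rwa [Fintype.card_coe, hcard] at h1

/-- **Periodic exponents.** -/
theorem per_le {m : ℕ} (hm : 1 ≤ m) (hK : Fintype.card K = 3 ^ (2 * m + 1)) {g s t : ℕ} (hgs : g * s = 2 * m + 1)
    (ht1 : 1 ≤ t) (ht : t ≤ 3 ^ g - 1) {f : K → K → K → Module.Dual k V} {w : K → K → K → V}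
    (h : ∀ t' u v t'' u' v', f t' u v (w t'' u' v') = j (ker (3 ^ m) t' u v t'' u' v') ^ (t * Gm g s)) :
    4 ^ s ≤ Module.finrank k V ∨ Fintype.card K - 2 ≤ Module.finrank k V := by
  have : CharP K 3 := charP_of_card_eq_prime_pow hK
  obtain ⟨i, t₁, ht₁, htt⟩ := Nat.exists_eq_pow_mul_and_not_dvd (show t ≠ 0 by omega) 3 (by norm_num)
  have h0 : 0 < t₁ := Nat.pos_of_ne_zero (by rintro rfl; exact ht₁ (dvd_zero 3))
  have h2 : t₁ ≤ t := by
    rw [htt]
    exact Nat.le_mul_of_pos_left _ (pow_pos (by norm_num) i)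
  have h' : ∀ t' u v t'' u' v', f t' u v (w t'' u' v') =
      (j.comp (iterateFrobenius K 3 i)) (ker (3 ^ m) t' u v t'' u' v') ^ (t₁ * Gm g s) := by
    intro t' u v t'' u' v'
    rw [h, RingHom.comp_apply, iterateFrobenius_def, map_pow, ← pow_mul, ← mul_assoc, ← htt]
  by_cases hall : ∀ p < 2 * m + 1, dg (t₁ * Gm g s) p ≠ 0
  · right
    refine full_le (j.comp (iterateFrobenius K 3 i)) hm hK ?_ hall h'
    rw [hK, ← hgs]
    exact mul_Gm_le (h2.trans ht)
  · push Not at hall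
    obtain ⟨p, hp, hcp⟩ := hall
    left
    exact zero_le (j.comp (iterateFrobenius K 3 i)) hm hK hgs ht₁ (h2.trans ht) hp hcp h'

end main

end Cfsg.Agent.H909.ReeKer
end

-- part: H909/PpdReeB
section
prune_inst 0x20203004002202000000058001001c42ca0000000008880000010a040680ac0000000820840011034828000c00300008110000b00200000000000400011c0080808012003040a000060099000000400000000000000000000000000000000004000000000
set_option linter.all false
open scoped Cfsg.Agent.FastGrp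

-- part: H909/PpdRee
section
/-!
# TEAM PPD (S5948), defining characteristic: Ree groups (helper909)

* `fixed_unique` : rank one, the `U`-fixed vectors form a line;
* `steinberg_le` : rank one, trivial torus character, `φ (n v) = 0`: `|U| - 1 ≤ dim V`;
* `not_ree` : a row with socle a Ree group in characteristic three, one prime of `m` dividing the order, is impossible.
-/

set_option autoImplicit false
set_option linter.unusedSectionVars false

namespace Cfsg.Agent.H909.Ppd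

open Cfsg Cfsg.Geo Matrix Cfsg.Agent.H915.LD Cfsg.Agent.H100.Ppd Cfsg.Agent.H905.Md

universe u v w

section rankone

open CoxeterSystem Cfsg.Agent.ChevalleyStructure.CoxeterGeom Cfsg.Agent.Tits.Roots Cfsg.Agent.Tits.Core
  Cfsg.Agent.Nodes.Reps Cfsg.Agent.Nodes.BNOf Cfsg.Agent.Nodes.Bruhat Cfsg.Agent.Nodes.OppDec Cfsg.Agent.Omega.CR
  Cfsg.Agent.Omega.FOne.Lift.Sd Cfsg.Agent.Nodes.RootsA
open Cfsg.Agent.LieRecognition.BNCox (cA cA_apply)

variable {p : ℕ} [Fact p.Prime] {Y : Type*} [Group Y] [Finite Y] {U T : Subgroup Y} {n : Y}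
  {k V : Type*} [Field k] [AddCommGroup V] [Module k V] [FiniteDimensional k V]
  {ρ : Y →* Module.End k V}

/-- **The fixed vectors of `U` form a line.** -/
theorem fixed_unique [IsAlgClosed k] [CharP k p] (hD : Sp1 p U T n) (hT : ∀ s ∈ T, ∀ t ∈ T, s * t = t * s)
    (hirr : ∀ L : Submodule k V, (∀ g, ∀ v ∈ L, ρ g v ∈ L) → L = ⊥ ∨ L = ⊤) {x y : V} (hx0 : x ≠ 0)
    (hx : ∀ u ∈ U, ρ u x = x) (hy : ∀ u ∈ U, ρ u y = y) : ∃ a : k, y = a • x := by
  have : Nontrivial V := ⟨x, 0, hx0⟩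
  have : Finite (cA 1).Group := finite_W (cA 1).toCoxeterSystem (isCartan 1)
  have R := hD.rgd (cA 1).toCoxeterSystem (isCartan 1)
  have hG := hD.gg (cA 1).toCoxeterSystem (isCartan 1)
  have hirr' : ∀ L : Submodule k V, Ivt ρ (GG (cA 1).toCoxeterSystem (isCartan 1) T (X1 U n)) L → L = ⊥ ∨ L = ⊤ := by
    intro L hL
    exact hirr L fun g v hv => hL g (by rw [hG]; trivial) v hv
  have h1 := finrank_D R hirr' hT
  have hle : RGD.Sup (X1 U n) (RGD.Pos (cA 1).toCoxeterSystem (isCartan 1)) ≤ U := by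
    refine RGD.Sup_le fun z hz => ?_
    rcases (isRoot_one _ _).1 hz.1 with rfl | rfl
    · rw [X1_pos]
    · exfalso
      have h2 : (0 : Fin 1 → ℤ) 0 ≤ (-sr (0 : Fin 1) : Fin 1 → ℤ) 0 := hz.2 0
      rw [Pi.neg_apply, sr_self, Pi.zero_apply] at h2
      omega
  have hxD : x ∈ D (cA 1).toCoxeterSystem (isCartan 1) (X1 U n) ρ := fun u hu => hx u (hle hu)
  have hyD : y ∈ D (cA 1).toCoxeterSystem (isCartan 1) (X1 U n) ρ := fun u hu => hy u (hle hu)
  obtain ⟨a, ha⟩ := (finrank_eq_one_iff_of_nonzero' (⟨x, hxD⟩ : D (cA 1).toCoxeterSystem (isCartan 1) (X1 U n) ρ)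
    (fun h => hx0 (congrArg Subtype.val h))).1 h1 ⟨y, hyD⟩
  exact ⟨a, (congrArg Subtype.val ha).symm⟩

/-- **The Steinberg module.** -/
theorem steinberg_le [Finite U] (hD : Sp1 p U T n) {v : V} {ψ : Module.Dual k V} (hU : ∀ u ∈ U, ρ u v = v)
    (hχ : ∀ t ∈ T, ρ t v = v) (hψ : ∀ u ∈ U, ∀ x, ψ (ρ (n * u * n⁻¹) x) = ψ x) (h1 : ψ v = 1)
    (h0 : ψ (ρ n v) = 0) : Nat.card U - 1 ≤ Module.finrank k V := by
  classical
  have := Fintype.ofFinite U
  have hm : ∀ a b x, ρ (a * b) x = ρ a (ρ b x) := fun a b x => by rw [map_mul]; rfl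
  have key : ∀ x ∈ U, ψ (ρ (x * n) v) = if x = 1 then 0 else 1 := by
    intro x hx
    split_ifs with hx1
    · rw [hx1, one_mul, h0]
    · rcases hD.br (n * x * n⁻¹) with ⟨u, hu, t, ht, e⟩ | ⟨u, hu, t, ht, u', hu', e⟩
      · exact absurd (hD.tr x hx u hu t ht e) hx1
      · have e2 : x * n = (n * ((n * n)⁻¹ * u * (n * n)) * n⁻¹) * ((n⁻¹ * t * n) * (u' * (n * n))) := by
          calc x * n = n⁻¹ * (n * x * n⁻¹) * (n * n) := by group
            _ = _ := by rw [e]; group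
        have h2 : (n * n)⁻¹ * u * (n * n) ∈ U := by
          have := hD.tu _ (inv_mem hD.nn) u hu
          rwa [inv_inv] at this
        have e3 : ρ ((n⁻¹ * t * n) * (u' * (n * n))) v = v := by
          rw [hm (n⁻¹ * t * n), hm u', hχ _ hD.nn, hU _ hu', hχ _ (hD.nt' ht)]
        rw [e2, hm, hψ _ h2, e3, h1]
  have h2 := H909.Sp4Ker.le_of_biorth (k := k) (V := V) (ι := {x : U // x ≠ 1})
    (fun x => ψ.comp (ρ ((x : U) : Y)⁻¹) - ψ) (fun y => ρ (((y : U) : Y) * n) v) (d := -1)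
    (neg_ne_zero.2 one_ne_zero) (by
      intro x y
      have h3 : ψ (ρ (((x : U) : Y)⁻¹) (ρ (((y : U) : Y) * n) v)) = if x = y then 0 else 1 := by
        rw [← hm, ← mul_assoc, key _ (mul_mem (inv_mem (x : U).2) (y : U).2)]
        have h4 : (((x : U) : Y)⁻¹ * ((y : U) : Y) = 1) ↔ x = y := by
          rw [inv_mul_eq_one]
          exact ⟨fun h => Subtype.ext (Subtype.ext h), fun h => by rw [h]⟩
        simp only [h4]
      have h5 : ψ (ρ (((y : U) : Y) * n) v) = 1 := by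
        rw [key _ (y : U).2, if_neg]
        exact fun h => y.2 (Subtype.ext h)
      change ψ (ρ (((x : U) : Y)⁻¹) (ρ (((y : U) : Y) * n) v)) - ψ (ρ (((y : U) : Y) * n) v) = _
      rw [h3, h5]
      split_ifs <;> simp)
  have h3 : Fintype.card {x : U // x ≠ 1} = Nat.card U - 1 := by
    rw [Fintype.card_subtype_compl, Fintype.card_subtype_eq, Nat.card_eq_fintype_card]
  rwa [h3] at h2

end rankone

section involution

variable {k V : Type*} [Field k] [AddCommGroup V] [Module k V] [FiniteDimensional k V] {G : Type*} [Group G]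
  {ρ : G →* Module.End k V}

/-- the vectors negated by `z` -/
def ng (ρ : G →* Module.End k V) (z : G) : Submodule k V where
  carrier := {x | ρ z x = -x}
  add_mem' {a b} ha hb := by
    change ρ z (a + b) = -(a + b)
    rw [map_add, ha, hb, neg_add]
  zero_mem' := by
    change ρ z 0 = -0
    rw [map_zero, neg_zero]
  smul_mem' c a ha := by
    change ρ z (c • a) = -(c • a)
    rw [map_smul, ha, smul_neg]

theorem mem_ng {z : G} {x : V} : x ∈ ng ρ z ↔ ρ z x = -x := Iff.rfl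

theorem ng_conj_le {z x : G} : Module.finrank k (ng ρ z) ≤ Module.finrank k (ng ρ (x⁻¹ * z * x)) := by
  have hm : ∀ a b y, ρ (a * b) y = ρ a (ρ b y) := fun a b y => by rw [map_mul]; rfl
  let f : ng ρ z →ₗ[k] ng ρ (x⁻¹ * z * x) :=
    { toFun := fun y => ⟨ρ x⁻¹ y, by
        rw [mem_ng, ← hm, mul_assoc, mul_inv_cancel, mul_one, hm, mem_ng.1 y.2, map_neg]⟩
      map_add' := fun a b => Subtype.ext (map_add _ _ _)
      map_smul' := fun c a => Subtype.ext (map_smul _ _ _) }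
  refine LinearMap.finrank_le_finrank_of_injective (f := f) fun a b hab => ?_
  have h1 : ρ x⁻¹ (a : V) = ρ x⁻¹ b := congrArg Subtype.val hab
  have h2 : ∀ y : V, ρ x (ρ x⁻¹ y) = y := fun y => by rw [← hm, mul_inv_cancel, map_one]; rfl
  exact Subtype.ext (by rw [← h2 a, h1, h2])

/-- three commuting involutions with product one -/
theorem ng_three (h2 : (2 : k) ≠ 0) {z z' : G} (d : ℕ) (hz : d ≤ Module.finrank k (ng ρ z))
    (hz' : d ≤ Module.finrank k (ng ρ z')) (hzz : d ≤ Module.finrank k (ng ρ (z * z'))) :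
    3 * d ≤ 2 * Module.finrank k V := by
  have hm : ∀ a b y, ρ (a * b) y = ρ a (ρ b y) := fun a b y => by rw [map_mul]; rfl
  have e1 := Submodule.finrank_sup_add_finrank_inf_eq (ng ρ z) (ng ρ z')
  have e2 := Submodule.finrank_le (ng ρ z ⊔ ng ρ z')
  have e3 := Submodule.finrank_sup_add_finrank_inf_eq (ng ρ z ⊓ ng ρ z') (ng ρ (z * z'))
  have e4 := Submodule.finrank_le (ng ρ z ⊓ ng ρ z' ⊔ ng ρ (z * z'))
  have e5 : ng ρ z ⊓ ng ρ z' ⊓ ng ρ (z * z') = ⊥ := by
    rw [eq_bot_iff]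
    rintro x ⟨⟨h3, h4⟩, h5⟩
    have h6 : ρ (z * z') x = -x := h5
    rw [hm, mem_ng.1 h4, map_neg, mem_ng.1 h3, neg_neg] at h6
    have h7 : (2 : k) • x = 0 := by
      rw [two_smul]
      nth_rewrite 2 [h6]
      exact add_neg_cancel x
    exact (smul_eq_zero.1 h7).resolve_left h2
  rw [e5, finrank_bot] at e3
  omega

/-- the elements of a group of order eight and exponent two permuted by an element of order seven -/
theorem exists_conj {S : Subgroup G} (h8 : Nat.card S = 8) {g : G} (hg : ∀ s ∈ S, g⁻¹ * s * g ∈ S) (hg7 : g ^ 7 = 1)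
    (hfix : ∀ s ∈ S, g⁻¹ * s * g = s → s = 1) {z s : G} (hz : z ∈ S) (hz1 : z ≠ 1) (hs : s ∈ S) (hs1 : s ≠ 1) :
    ∃ x : G, s = x⁻¹ * z * x := by
  classical
  have hfin : Finite S := Nat.finite_of_card_ne_zero (by omega)
  have := Fintype.ofFinite S
  have hmem : ∀ i : ℕ, (g ^ i)⁻¹ * z * g ^ i ∈ S := by
    intro i
    induction i with
    | zero => simpa using hz
    | succ i ih =>
      have h1 := hg _ ih
      have e : g⁻¹ * ((g ^ i)⁻¹ * z * g ^ i) * g = (g ^ (i + 1))⁻¹ * z * g ^ (i + 1) := by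
        rw [pow_succ]; group
      rwa [e] at h1
  have hne : ∀ i : ℕ, (g ^ i)⁻¹ * z * g ^ i ≠ 1 := by
    intro i h1
    apply hz1
    have h2 : z = g ^ i * ((g ^ i)⁻¹ * z * g ^ i) * (g ^ i)⁻¹ := by group
    rw [h2, h1]
    group
  -- a power fixing `z`
  have hfixi : ∀ i : ℕ, 0 < i → i < 7 → (g ^ i)⁻¹ * z * g ^ i ≠ z := by
    intro i hi hi7 h1
    apply hz1
    have hcomm : Commute (g ^ i) z := by
      have h2 : g ^ i * ((g ^ i)⁻¹ * z * g ^ i) = g ^ i * z := by rw [h1]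
      have h3 : g ^ i * ((g ^ i)⁻¹ * z * g ^ i) = z * g ^ i := by group
      exact h2.symm.trans h3
    obtain ⟨b, hb⟩ : ∃ b : ℕ, i * b % 7 = 1 := by
      interval_cases i
      · exact ⟨1, by norm_num⟩
      · exact ⟨4, by norm_num⟩
      · exact ⟨5, by norm_num⟩
      · exact ⟨2, by norm_num⟩
      · exact ⟨3, by norm_num⟩
      · exact ⟨6, by norm_num⟩
    have h2 : (g ^ i) ^ b = g := by
      rw [← pow_mul, ← Nat.div_add_mod (i * b) 7, hb, pow_add, pow_mul, hg7, one_pow, one_mul, pow_one]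
    have h3 : Commute g z := by
      have := hcomm.pow_left b
      rwa [h2] at this
    apply hfix z hz
    calc g⁻¹ * z * g = g⁻¹ * (z * g) := by group
      _ = g⁻¹ * (g * z) := by rw [h3.eq]
      _ = z := by group
  let f : Fin 7 → {s : S // s ≠ 1} := fun i => ⟨⟨(g ^ (i : ℕ))⁻¹ * z * g ^ (i : ℕ), hmem i⟩, fun h =>
    hne i (congrArg Subtype.val h)⟩
  have hinj : Function.Injective f := by
    have key : ∀ i l : Fin 7, (i : ℕ) < l → f i ≠ f l := by
      intro i l hil h1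
      have h2 : (g ^ (i : ℕ))⁻¹ * z * g ^ (i : ℕ) = (g ^ (l : ℕ))⁻¹ * z * g ^ (l : ℕ) :=
        congrArg (fun x : {s : S // s ≠ 1} => ((x : S) : G)) h1
      have h3 : g ^ (l : ℕ) = g ^ ((l : ℕ) - i) * g ^ (i : ℕ) := by
        rw [← pow_add]; congr 1; omega
      rw [h3] at h2
      apply hfixi ((l : ℕ) - i) (by omega) (by have := l.2; omega)
      have h4 : (g ^ ((l : ℕ) - i))⁻¹ * z * g ^ ((l : ℕ) - i) =
          g ^ (i : ℕ) * ((g ^ ((l : ℕ) - i) * g ^ (i : ℕ))⁻¹ * z * (g ^ ((l : ℕ) - i) * g ^ (i : ℕ))) *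
            (g ^ (i : ℕ))⁻¹ := by group
      rw [h4, ← h2]
      group
    intro i l hil
    by_contra hne'
    rcases lt_or_gt_of_ne (fun h => hne' (Fin.ext h) : (i : ℕ) ≠ l) with h | h
    · exact key i l h hil
    · exact key l i h hil.symm
  have hcard : Fintype.card (Fin 7) = Fintype.card {s : S // s ≠ 1} := by
    rw [Fintype.card_subtype_compl, Fintype.card_subtype_eq, ← Nat.card_eq_fintype_card (α := S), h8, Fintype.card_fin]
  obtain ⟨i, hi⟩ := ((Fintype.bijective_iff_injective_and_card f).2 ⟨hinj, hcard⟩).2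
    ⟨⟨s, hs⟩, fun h => hs1 (congrArg Subtype.val h)⟩
  exact ⟨g ^ (i : ℕ), (congrArg (fun x : {s : S // s ≠ 1} => ((x : S) : G)) hi).symm⟩

end involution

end Cfsg.Agent.H909.Ppd
end

-- part: H909/PpdReeB
section
/-!
# TEAM PPD (S5948), defining characteristic: Ree groups, the row (helper909)
-/

set_option autoImplicit false
set_option linter.unusedSectionVars false

namespace Cfsg.Agent.H909.Ppd

open Matrix
open Cfsg Cfsg.Geo Cfsg.Lie Cfsg.Agent.ChevalleyStructure.Ree Cfsg.Agent.ChevalleyStructure.Ree.Words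
  Cfsg.Agent.ChevalleyStructure.Ree.Gens Cfsg.Agent.ChevalleyStructure.Ree.Normal
  Cfsg.Agent.ChevalleyStructure.Ree.Bruhat Cfsg.Agent.ChevalleyStructure.Ree.Blocks
  Cfsg.Agent.LieRecognition.ReeSylowThree Cfsg.Agent.FixBN.ReeSplit Cfsg.Agent.H905.Md Cfsg.Agent.H915.LD
  Cfsg.Agent.H911 Cfsg.Agent.H100.Ppd Cfsg.Agent.H141.ReeK

universe u v w

section period

variable {F : Type*} [Field F] [Finite F] {ι : Type} [Fintype ι] [DecidableEq ι] {K : Type*} [Field K] [Fintype K]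
  {m : ℕ} {P : Subgroup (GL ι F)}

/-- the values of the torus character lie in `F` -/
theorem period_aux [CharP F 3] (hC : Core P) (hK : Fintype.card K = 3 ^ (2 * m + 1)) {θ : K →+* K}
    (c : Ctx θ (3 ^ m)) (j : K →+* AlgebraicClosure F) {φ : ↥(twistedG2 K (3 ^ m)) →* GL ι F} (hφ : φ.range = P)
    {v : ι → AlgebraicClosure F} {r : ℕ} (hv : v ≠ 0)
    (hU : ∀ t u w, lin (acRep φ) (Data.U K (3 ^ m) t u w) v = v)
    (hT : ∀ α : Kˣ, lin (acRep φ) (Data.T c α) v = j (c.dd α) ^ r • v) (α : Kˣ) :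
    (j (c.dd α) ^ r) ^ Nat.card F = j (c.dd α) ^ r := by
  classical
  have h3p : Fact (Nat.Prime 3) := ⟨Nat.prime_three⟩
  have hk : CharP (AlgebraicClosure F) 3 :=
    charP_of_injective_ringHom (algebraMap F (AlgebraicClosure F)).injective 3
  have hfin : Finite ↥(twistedG2 K (3 ^ m)) := finite (Data.data c)
  have := Fintype.ofFinite F
  obtain ⟨f, hf0, hf⟩ := FiniteField.card F 3
  set fr : AlgebraicClosure F →+* AlgebraicClosure F := iterateFrobenius (AlgebraicClosure F) 3 f with hfr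
  have hfrx : ∀ x, fr x = x ^ Nat.card F := by
    intro x
    rw [hfr, iterateFrobenius_def, Nat.card_eq_fintype_card, hf]
  have hfrF : ∀ a : F, fr (algebraMap F (AlgebraicClosure F) a) = algebraMap F (AlgebraicClosure F) a := by
    intro a
    rw [hfrx, ← map_pow, Nat.card_eq_fintype_card, FiniteField.pow_card]
  have hcomm : ∀ g (x : ι → AlgebraicClosure F), lin (acRep φ) g (fr ∘ x) = fr ∘ lin (acRep φ) g x := by
    intro g x
    rw [lin_apply, lin_apply, acRep_apply]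
    funext i
    have h1 := RingHom.map_mulVec fr ((φ g : Matrix ι ι F).map (algebraMap F (AlgebraicClosure F))) x i
    have h2 : ((φ g : Matrix ι ι F).map (algebraMap F (AlgebraicClosure F))).map fr =
        (φ g : Matrix ι ι F).map (algebraMap F (AlgebraicClosure F)) := by
      ext a b
      exact hfrF _
    rw [h2] at h1
    exact h1.symm
  have hfrv : ∀ w, w ∈ uSub (Data.data c) → lin (acRep φ) w (fr ∘ v) = fr ∘ v := by
    rintro _ ⟨t, u, w, rfl⟩
    rw [hcomm, hU]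
  obtain ⟨a, ha⟩ := fixed_unique (ree_sp1 hK (Data.data c)) (reeT_comm (Data.data c)) (ρ := lin (acRep φ))
    (fun L hL => acRep_irr hφ (H920.span_eq_top hC.absIrred) rfl L fun g _ v hv => hL g v hv) hv
    (by rintro _ ⟨t, u, w, rfl⟩; exact hU t u w) hfrv
  have hfr0 : fr ∘ v ≠ 0 := by
    intro h
    apply hv
    funext i
    have h1 : fr (v i) = 0 := congrFun h i
    exact (map_eq_zero fr).1 h1
  have h1 := hcomm (Data.T c α) v
  have h2 : fr ∘ (j (c.dd α) ^ r • v) = fr (j (c.dd α) ^ r) • (fr ∘ v) := by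
    funext i
    exact map_mul fr _ _
  rw [hT, h2] at h1
  have h3 : lin (acRep φ) (Data.T c α) (fr ∘ v) = j (c.dd α) ^ r • (fr ∘ v) := by
    rw [ha, map_smul, hT, smul_comm]
  rw [h3] at h1
  rw [← hfrx]
  exact (smul_left_injective (AlgebraicClosure F) hfr0 h1).symm

theorem dd_surj {θ : K →+* K} (c : Ctx θ (3 ^ m)) (x : Kˣ) : ∃ α : Kˣ, c.dd α = x := by
  have h1 : Function.Injective (ddU c) := fun a b h => by rw [← ddInv_ddU c a, h, ddInv_ddU c b]
  obtain ⟨α, hα⟩ := (Finite.surjective_of_injective h1) x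
  exact ⟨α, congrArg Units.val hα⟩

/-- **The exponent is periodic.** -/
theorem period [CharP F 3] (hC : Core P) (hK : Fintype.card K = 3 ^ (2 * m + 1)) {θ : K →+* K}
    (c : Ctx θ (3 ^ m)) (j : K →+* AlgebraicClosure F) {φ : ↥(twistedG2 K (3 ^ m)) →* GL ι F} (hφ : φ.range = P)
    {v : ι → AlgebraicClosure F} {r : ℕ} (hv : v ≠ 0)
    (hU : ∀ t u w, lin (acRep φ) (Data.U K (3 ^ m) t u w) v = v)
    (hT : ∀ α : Kˣ, lin (acRep φ) (Data.T c α) v = j (c.dd α) ^ r • v) :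
    Fintype.card K - 1 ∣ r * (Nat.card F - 1) := by
  classical
  obtain ⟨ζ, hζ⟩ := IsCyclic.exists_generator (α := Kˣ)
  have hord : orderOf ζ = Fintype.card K - 1 := by
    rw [orderOf_eq_card_of_forall_mem_zpowers hζ, Nat.card_eq_fintype_card, Fintype.card_units]
  rw [← hord]
  apply orderOf_dvd_of_pow_eq_one
  obtain ⟨α, hα⟩ := dd_surj c ζ
  have h1 := period_aux hC hK c j hφ hv hU hT α
  rw [hα, ← map_pow, ← map_pow, ← pow_mul] at h1
  have h2 := j.injective h1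
  apply Units.ext
  rw [Units.val_pow_eq_pow_val, Units.val_one]
  have hq : 1 ≤ Nat.card F := Nat.card_pos
  obtain ⟨q', hq'⟩ : ∃ q', Nat.card F = q' + 1 := ⟨Nat.card F - 1, by omega⟩
  rw [hq', Nat.add_sub_cancel]
  rw [hq', mul_add, mul_one, pow_add] at h2
  have h3 : (ζ : K) ^ r ≠ 0 := pow_ne_zero _ ζ.ne_zero
  exact mul_right_cancel₀ h3 (by rw [h2, one_mul])

end period

section small

open Cfsg.Agent.H909.ReeKer Cfsg.Agent.H909.Sp4Ker Cfsg.Agent.H875.Fn

variable {k V : Type*} [Field k] [CharP k 3] [AddCommGroup V] [Module k V] [FiniteDimensional k V] {K : Type*}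
  [Field K] [Fintype K]
  {ρ : ↥(twistedG2 K (3 ^ 1)) →* Module.End k V} {θ : K →+* K} (c : Ctx θ (3 ^ 1)) (j : K →+* k)

/-- the involution commutes with the columns -/
theorem comm_col (y : K) : Data.T c (-1) * (Data.N c * Data.U K (3 ^ 1) 0 y 0 * Data.N c) =
    (Data.N c * Data.U K (3 ^ 1) 0 y 0 * Data.N c) * Data.T c (-1) := by
  have D := Data.data c
  have h1 : Data.N c * Data.T c (-1) = Data.T c (-1) * Data.N c := by
    have := D.n_h (-1)
    rwa [inv_neg, inv_one] at this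
  have h2 : Data.T c (-1) * Data.U K (3 ^ 1) 0 y 0 = Data.U K (3 ^ 1) 0 y 0 * Data.T c (-1) := by
    rw [D.h_U]
    congr 1
    have e1 : ((-1 : Kˣ) : K) ^ (3 ^ (1 + 1) + 3) = 1 := by
      rw [Units.val_neg, Units.val_one]; norm_num
    rw [e1, one_mul, mul_zero, mul_zero]
  calc Data.T c (-1) * (Data.N c * Data.U K (3 ^ 1) 0 y 0 * Data.N c)
      = (Data.T c (-1) * Data.N c) * Data.U K (3 ^ 1) 0 y 0 * Data.N c := by group
    _ = Data.N c * (Data.T c (-1) * Data.U K (3 ^ 1) 0 y 0) * Data.N c := by rw [← h1]; group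
    _ = Data.N c * Data.U K (3 ^ 1) 0 y 0 * (Data.T c (-1) * Data.N c) := by rw [h2]; group
    _ = _ := by rw [← h1]; group

theorem dd_neg_one : c.dd (-1) = -1 := by
  unfold Ctx.dd
  rw [Units.val_neg, Units.val_one, map_neg, map_one]
  ring

theorem negone_sq : Data.T c (-1) * Data.T c (-1) = 1 := by
  rw [← (Data.data c).h_mul, neg_mul_neg, one_mul, (Data.data c).h_one]

/-- the vectors negated by the involution, exponent 13, `|K| = 27` -/
theorem ng_ge (hK : Fintype.card K = 3 ^ (2 * 1 + 1)) {v : V} {ψ : Module.Dual k V}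
    (hT : ∀ α : Kˣ, ρ (Data.T c α) v = j (c.dd α) ^ 13 • v)
    (hker : ∀ t u w t' u' w', ψ (ρ (Data.U K (3 ^ 1) t u w) (ρ
        (Data.N c * Data.U K (3 ^ 1) t' u' w' * Data.N c) v)) = j (ker (3 ^ 1) t u w t' u' w') ^ 13) :
    27 ≤ Module.finrank k (ng ρ (Data.T c (-1))) := by
  classical
  have hm : ∀ a b y, ρ (a * b) y = ρ a (ρ b y) := fun a b y => by rw [map_mul]; rfl
  have hzv : ρ (Data.T c (-1)) v = -v := by
    rw [hT, dd_neg_one, map_neg, map_one, neg_one_pow_eq_neg_one_iff_odd (by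
      intro h
      have h2 : (2 : k) = 0 := by
        linear_combination -h
      have h1 : ((2 : ℕ) : k) = 0 := by exact_mod_cast h2
      rw [CharP.cast_eq_zero_iff k 3] at h1
      omega) |>.2 (by decide), neg_one_smul]
  have hmem : ∀ y : K, ρ (Data.N c * Data.U K (3 ^ 1) 0 y 0 * Data.N c) v ∈ ng ρ (Data.T c (-1)) := by
    intro y
    rw [mem_ng, ← hm, comm_col, hm, hzv, map_neg]
  have hrows := rows_eq j hK (f := fun t u w => ψ.comp (ρ (Data.U K (3 ^ 1) t u w)))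
    (w := fun t u w => ρ (Data.N c * Data.U K (3 ^ 1) t u w * Data.N c) v) (c := 13) hker
  have h27 : Fintype.card K = 27 := by rw [hK]; norm_num
  have hred : red (Fintype.card K) ((1 + 3 ^ 1) * (13 - 0)) = 26 := by rw [h27]; decide
  have hex : ∀ κ : SS 3 26, ∃ G : Module.Dual k (ng ρ (Data.T c (-1))), ∀ y : K,
      G ⟨ρ (Data.N c * Data.U K (3 ^ 1) 0 y 0 * Data.N c) v, hmem y⟩ =
        (Nat.choose 13 0 : k) * j y ^ ((1 + 3 ^ 1) * 0 + (κ : ℕ)) := by
    intro κ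
    refine exists_fun j (e := 3 ^ 1) (c := 13) (δ := 0)
      (fun u V' => (ψ.comp (ρ (Data.U K (3 ^ 1) 0 u (V' ^ (3 ^ 1 * 3))))).comp (ng ρ (Data.T c (-1))).subtype)
      (fun y => ⟨ρ (Data.N c * Data.U K (3 ^ 1) 0 y 0 * Data.N c) v, hmem y⟩) hrows (Nat.zero_le _) ?_ ?_
    · rw [hred]
      exact κ.2
    · intro d hd _ hcol
      left
      rw [mul_zero, red_zero] at hcol
      by_contra hne
      exact red_ne_zero (by omega) hcol
  choose G hG using hex
  have h1 := le_of_powers j G (fun y => ⟨ρ (Data.N c * Data.U K (3 ^ 1) 0 y 0 * Data.N c) v, hmem y⟩)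
    (fun _ => (Nat.choose 13 0 : k)) (fun κ => (1 + 3 ^ 1) * 0 + (κ : ℕ)) (fun _ => by simp) hG (by
      intro i l hil
      have hi := (mem_SS.1 i.2).1
      have hl := (mem_SS.1 l.2).1
      change red _ ((1 + 3 ^ 1) * 0 + (i : ℕ)) = red _ ((1 + 3 ^ 1) * 0 + (l : ℕ)) at hil
      rw [h27, mul_zero, zero_add, zero_add, red_eq (by omega), red_eq (by omega)] at hil
      exact Subtype.ext hil)
  have h2 : (SS 3 26).card = 27 := by
    have := card3 (x := 2) (y := 2) (z := 2) (show 0 < 1 by norm_num) (show 1 < 2 by norm_num) (by norm_num)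
      (by norm_num) (by norm_num)
    norm_num at this
    exact this
  rwa [Fintype.card_coe, h2] at h1

end small

section row

open Cfsg.Agent.H909.ReeKer

variable {n : ℕ} {F : Type u} [Field F] [Finite F] {k m : ℕ} {P : Subgroup (GL (Fin n) F)}

theorem dvd_six {r Q : ℕ} (hr : r.Prime) (hQ : ¬ r ∣ Q) (h : r ∣ Q ^ 3 * (Q - 1) * (Q ^ 3 + 1)) :
    r ∣ Q ^ 6 - 1 := by
  rcases Nat.eq_zero_or_pos Q with rfl | hQ1
  · exact absurd (dvd_zero r) hQ
  obtain ⟨Q', rfl⟩ : ∃ Q', Q = Q' + 1 := ⟨Q - 1, by omega⟩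
  have h2 : (Q' + 1) ^ 6 - 1 = (Q' + 1 - 1) * ((Q' + 1) ^ 2 + (Q' + 1) + 1) * ((Q' + 1) ^ 3 + 1) := by
    have h3 : (Q' + 1) ^ 6 = (Q' + 1 - 1) * ((Q' + 1) ^ 2 + (Q' + 1) + 1) * ((Q' + 1) ^ 3 + 1) + 1 := by
      rw [Nat.add_sub_cancel]; ring
    omega
  rw [h2]
  rcases (Nat.Prime.dvd_mul hr).1 h with h3 | h3
  · rcases (Nat.Prime.dvd_mul hr).1 h3 with h4 | h4
    · exact absurd (hr.dvd_of_dvd_pow h4) hQ
    · exact (h4.mul_right _).mul_right _
  · exact h3.mul_left _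

/-- **Ree groups in characteristic three.** -/
theorem not_ree_of [CharP F 3] (h : Row k m P) (hg : ∃ r, r.Prime ∧ r ∣ m ∧ r ∣ Nat.card (Soc P))
    {K : Type v} [Field K] [Fintype K] {l : ℕ} (hl : 1 ≤ l) (hK : Fintype.card K = 3 ^ (2 * l + 1))
    (e : Soc P ≃* ↥(twistedG2 K (3 ^ l))) : False := by
  classical
  have h3p : Fact (Nat.Prime 3) := ⟨Nat.prime_three⟩
  have hk : CharP (AlgebraicClosure F) 3 :=
    charP_of_injective_ringHom (algebraMap F (AlgebraicClosure F)).injective 3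
  have hC := h.core
  have hn := h.num.nlt
  have hten := h.num.ten
  -- `|F| ^ s = |K|`
  obtain ⟨s, hs, hFs⟩ := card_pow_eq (F := F) 3 (a := 2 * l + 1) (by omega)
    (pow_eq_of_no_subfield hC.absIrred hC.no_subfield 3 _ fun g hg => by
      rw [← hK]
      exact (ree_both hC.absIrred hC.perfect hl hK e hg).1)
  have hF := Fintype.ofFinite F
  obtain ⟨f, hf0, hf⟩ := FiniteField.card F 3
  have hF3 : Nat.card F = 3 ^ (f : ℕ) := by rw [Nat.card_eq_fintype_card, hf]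
  have hfs : (f : ℕ) * s = 2 * l + 1 := by
    rw [hF3, ← pow_mul] at hFs
    exact Nat.pow_right_injective (show 2 ≤ 3 by norm_num) hFs
  -- `k ≤ 6 s`
  obtain ⟨r', hr', hrm, hrc⟩ := hg
  have hkd : k ∣ 6 * s := by
    refine k_dvd h hr' hrm ?_
    rw [Nat.card_congr e.toEquiv, Cfsg.Agent.LieRecognition.ReeFinal.card hK, ← hFs] at hrc
    rw [mul_comm, pow_mul]
    exact dvd_six hr' (fun h1 => h.num.not_dvd_q hr' hrm (hr'.dvd_of_dvd_pow h1)) hrc
  have hk2 : k ≤ 6 * s := Nat.le_of_dvd (by omega) hkd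
  -- `s = 1`
  by_cases hs1 : s = 1
  · have h7 := Cfsg.Agent.H708.ReeSix.ree_eq_seven hC hl hK e (by rw [Fintype.card_fin]; omega)
    rw [Fintype.card_fin] at h7
    omega
  have hs3 : 3 ≤ s := by
    have hodd : Odd (f * s : ℕ) := ⟨l, by rw [hfs]⟩
    have := (Nat.odd_mul.1 hodd).2
    obtain ⟨b, hb⟩ := this
    omega
  -- the coefficient
  obtain ⟨θ, c⟩ := exists_ctx hK
  obtain ⟨j⟩ := H141.ReeK.exists_emb F hK
  obtain ⟨φ, v, ψ, r, hφ, hinj, hr1, hr2, hψv, hU, hT, hψU, hψn, -, hker⟩ := core_coef hC hl hK e c j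
  have hv : v ≠ 0 := by
    rintro rfl
    rw [map_zero] at hψv
    exact zero_ne_one hψv
  -- `r = t (1 + q + ...)`
  have hper := period hC hK c j hφ hv hU hT
  have hq3 : 3 ^ 1 ≤ 3 ^ (f : ℕ) := Nat.pow_le_pow_right (by norm_num) f.pos
  have hGm := Gm_mul f s
  rw [hfs] at hGm
  obtain ⟨t, ht⟩ : Gm f s ∣ r := by
    rw [hK, hF3] at hper
    have h1 : 3 ^ (2 * l + 1) - 1 = Gm f s * (3 ^ (f : ℕ) - 1) := by omega
    rw [h1] at hper
    exact Nat.dvd_of_mul_dvd_mul_right (by omega) hper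
  have ht1 : 1 ≤ t := by
    rcases Nat.eq_zero_or_pos t with rfl | h1
    · rw [mul_zero] at ht; omega
    · exact h1
  have ht2 : t ≤ 3 ^ (f : ℕ) - 1 := by
    have h1 : Gm f s * t ≤ Gm f s * (3 ^ (f : ℕ) - 1) := by
      rw [← ht]
      rw [hK] at hr2
      omega
    exact Nat.le_of_mul_le_mul_left h1 (Gm_pos (by omega))
  rw [mul_comm] at ht
  have hfr : Module.finrank (AlgebraicClosure F) (Fin n → AlgebraicClosure F) = n := by
    rw [Module.finrank_fintype_fun_eq_card, Fintype.card_fin]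
  rcases per_le (V := Fin n → AlgebraicClosure F) j hl hK hfs ht1 ht2
    (f := fun t u w => ψ.comp (lin (acRep φ) (Data.U K (3 ^ l) t u w)))
    (w := fun t u w => lin (acRep φ) (Data.N c * Data.U K (3 ^ l) t u w * Data.N c) v)
    (by rw [← ht]; exact hker) with h4 | h4
  · rw [hfr] at h4
    have := four_mul_le hs3
    omega
  · rw [hfr, hK, ← hfs] at h4
    by_cases hs4 : 4 ≤ s
    · have h5 := three_mul_le hs4
      have h6 : 3 ^ s ≤ 3 ^ ((f : ℕ) * s) := Nat.pow_le_pow_right (by norm_num) (Nat.le_mul_of_pos_left _ f.pos)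
      omega
    · have hs3' : s = 3 := by omega
      subst hs3'
      by_cases hf1 : (f : ℕ) = 1
      · -- `|K| = 27`
        rw [hf1] at hfs ht ht2
        have hl1 : l = 1 := by omega
        subst hl1
        have hG13 : Gm 1 3 = 13 := by decide
        rw [hG13] at ht
        have h2k : (2 : AlgebraicClosure F) ≠ 0 := by
          intro h0
          have h1 : ((2 : ℕ) : AlgebraicClosure F) = 0 := by exact_mod_cast h0
          rw [CharP.cast_eq_zero_iff (AlgebraicClosure F) 3] at h1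
          omega
        have hfin : Finite ↥(twistedG2 K (3 ^ 1)) := finite (Data.data c)
        have ht12 : t = 1 ∨ t = 2 := by
          norm_num at ht2
          omega
        rcases ht12 with rfl | rfl
        · -- exponent 13
          rw [one_mul] at ht
          subst ht
          have h27 := ng_ge c j hK hT hker
          set z := Data.T c (-1) with hz
          have hzz : z * z = 1 := negone_sq c
          have hz1 : z ≠ 1 := by
            intro h1
            have h5 := hT (-1)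
            rw [← hz, h1, map_one, Module.End.one_apply, dd_neg_one, map_neg, map_one] at h5
            have h6 : v = -v := by
              refine h5.trans ?_
              norm_num
            have h7 : (2 : AlgebraicClosure F) • v = 0 := by
              rw [two_smul]
              nth_rewrite 2 [h6]
              exact add_neg_cancel v
            exact hv ((smul_eq_zero.1 h7).resolve_left h2k)
          have h2g : IsPGroup 2 (Subgroup.zpowers z) := by
            apply IsPGroup.of_card (n := 1)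
            rw [Nat.card_zpowers, orderOf_eq_prime (p := 2) (by rw [pow_two, hzz]) hz1, pow_one]
          obtain ⟨S, hS⟩ := h2g.exists_le_sylow
          have hzS : z ∈ (S : Subgroup ↥(twistedG2 K (3 ^ 1))) := hS (Subgroup.mem_zpowers z)
          obtain ⟨a, haH, ha1, ha2⟩ := Cfsg.Agent.S1157.exists_involution hK
          obtain ⟨h8, -⟩ := (Cfsg.Agent.S1152.result hK a haH ha1 ha2).2 S
          obtain ⟨g, hgS, hg7, hfix⟩ := Cfsg.Agent.H708.ReeSix.ree_data' (by norm_num) hK S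
          have hz'S := hgS z hzS
          have hz'1 : g⁻¹ * z * g ≠ 1 := by
            intro h1
            apply hz1
            have h5 : z = g * (g⁻¹ * z * g) * g⁻¹ := by group
            rw [h5, h1]
            group
          have hzz'1 : z * (g⁻¹ * z * g) ≠ 1 := by
            intro h1
            apply hz1
            apply hfix z hzS
            have h5 : z⁻¹ = z := inv_eq_of_mul_eq_one_left hzz
            have h6 : g⁻¹ * z * g = z⁻¹ := eq_inv_of_mul_eq_one_right h1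
            rw [h6, h5]
          obtain ⟨x, hx⟩ := exists_conj h8 hgS hg7 hfix hzS hz1 (mul_mem hzS hz'S) hzz'1
          have h5 := ng_three (ρ := lin (acRep φ)) h2k (z := z) (z' := g⁻¹ * z * g) 27 h27
            (h27.trans ng_conj_le) (by rw [hx]; exact h27.trans ng_conj_le)
          rw [hfr] at h5
          omega
        · -- exponent 26
          have hcard : Nat.card (uSub (Data.data c)) = 27 ^ 3 := by rw [card_uSub, hK]; norm_num
          have h5 := steinberg_le (ree_sp1 hK (Data.data c)) (ρ := lin (acRep φ)) (v := v) (ψ := ψ)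
            (by rintro _ ⟨t, u, w, rfl⟩; exact hU t u w)
            (by
              rintro _ ⟨α, rfl⟩
              rw [hT, ht, ← map_pow]
              have h6 : c.dd α ^ (2 * 13) = 1 := by
                have := FiniteField.pow_card_sub_one_eq_one _ (c.dd_ne α)
                rw [hK] at this
                norm_num at this
                exact this
              rw [h6, map_one, one_smul])
            (by
              rintro _ ⟨t, u, w, rfl⟩ x
              rw [(Data.data c).n_inv]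
              exact hψU t u w x) hψv hψn
          rw [hcard, hfr] at h5
          omega
      · have hf2 : 2 ≤ (f : ℕ) := by
          have := f.pos
          omega
        have h6 : 3 ^ (2 * 3) ≤ 3 ^ ((f : ℕ) * 3) := Nat.pow_le_pow_right (by norm_num) (by omega)
        norm_num at h6
        omega

/-- **Ree groups in characteristic three.** -/
theorem not_ree {p : ℕ} [Fact p.Prime] [CharP F p] (h : Row k m P)
    (hg : ∃ r, r.Prime ∧ r ∣ m ∧ r ∣ Nat.card (Soc P)) (hp : p = 3) (hT : Lie.IsoRee (Soc P)) : False := by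
  subst hp
  obtain ⟨K, _, _, l, hl, hK, ⟨e⟩⟩ := hT
  exact not_ree_of h hg hl hK e

end row

end Cfsg.Agent.H909.Ppd
end
end
end
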