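import Cfsg.Agent.H909.Sp4List
import Cfsg.Agent.ClassicalGeometry.SympBasic
import Cfsg.Agent.H920.Basic
import Mathlib
import Cfsg.Agent.H930.SpOrdC
import Cfsg.Agent.S5787
import Cfsg.Agent.H950.Quad
import Cfsg.Prelude.Def_GeometricClasses
import Cfsg.Agent.Schreier.ClassBase
import Cfsg.Agent.H955.Sp
import Cfsg.Agent.H910.Transv
import Cfsg.Agent.H97.Sp4Sub
import Cfsg.Agent.H97.Sp4Ext
import Cfsg.Agent.FastGrp
import Cfsg.Agent.Prune
set_option linter.all false

section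
prune_inst 0x7ffeb9f9abbcbddfdfff7e77a6d8cffc39901fffe6dff94b7fe261cf0bdf138c0fcdfbaf09e010fe0ee3e21410b87843f9fffabfea6bdc7ffffd5ff41ffbee0ff5f7b508519698340fbc0fff03f0778e7f3fffffffffffffffffffffffffffaeffbfffffffff

-- part: H64/Sp4Three
section
prune_inst 0x10006104340000000018009061001c62b20000000008000000c1000204810c0020440820a230010140800c4428300040001000000228000000000000000200800000000090480000000000000000000000000000000000000000000000000000000000000
set_option linter.all false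
open scoped Cfsg.Agent.FastGrp

-- part: H64/Sp4Base
section
/-!
# Elements of `Sp₄(F)` given by linear maps, and the involution attached to a non-degenerate
2-decomposition (helper64, for S5786 task 606)
-/

set_option autoImplicit false

namespace Cfsg.Agent.H64.Sp4Base

open Cfsg Cfsg.Geo Matrix
open Cfsg.Agent.H909.Sp4List
open Cfsg.Agent.ClassicalGeometry.SympBasic

universe u
variable {F : Type u} [Field F]

theorem exists_sp (φ : (I4 → F) →ₗ[F] (I4 → F))
    (h : ∀ x y, sympForm 2 F (φ x) (φ y) = sympForm 2 F x y) :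
    ∃ g : GL I4 F, g ∈ spGL 2 F ∧ ∀ x, (g : Matrix I4 I4 F) *ᵥ x = φ x := by
  have hinj : Function.Injective φ := by
    rw [injective_iff_map_eq_zero]
    intro x hx
    apply eq_zero_of_forall_sympForm_right
    intro y
    rw [← h, hx, sympForm_zero_left]
  let e := LinearEquiv.ofInjectiveEndo φ hinj
  have he : ∀ x, e x = φ x := fun x => rfl
  have h1 : LinearMap.toMatrix' φ * LinearMap.toMatrix' (e.symm : (I4 → F) →ₗ[F] (I4 → F)) = 1 := by
    rw [← LinearMap.toMatrix'_comp, ← LinearMap.toMatrix'_id]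
    congr 1
    refine LinearMap.ext fun x => ?_
    show φ (e.symm x) = x
    rw [← he, LinearEquiv.apply_symm_apply]
  refine ⟨⟨_, _, h1, mul_eq_one_comm.1 h1⟩, ?_, ?_⟩
  · intro u v
    show sympForm 2 F (LinearMap.toMatrix' φ *ᵥ u) (LinearMap.toMatrix' φ *ᵥ v) = _
    rw [LinearMap.toMatrix'_mulVec, LinearMap.toMatrix'_mulVec, h]
  · intro x
    show LinearMap.toMatrix' φ *ᵥ x = _
    rw [LinearMap.toMatrix'_mulVec]

/-- The two summands of a 2-decomposition. -/
theorem isCompl {D : Fin 2 → Submodule F (I4 → F)} (hD : IsMDecomposition 2 D) :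
    IsCompl (D 0) (D 1) := by
  constructor
  · exact (iSupIndep_pair (by decide : (0 : Fin 2) ≠ 1) (by decide)).1 hD.indep
  · rw [codisjoint_iff, eq_top_iff, ← hD.iSup_eq_top]
    apply iSup_le
    intro i
    fin_cases i
    · exact le_sup_left
    · exact le_sup_right

theorem exists_add {D : Fin 2 → Submodule F (I4 → F)} (hD : IsMDecomposition 2 D)
    (x : I4 → F) : ∃ a ∈ D 0, ∃ b ∈ D 1, x = a + b := by
  have h : x ∈ D 0 ⊔ D 1 := by rw [(isCompl hD).sup_eq_top]; trivial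
  obtain ⟨a, ha, b, hb, rfl⟩ := Submodule.mem_sup.1 h
  exact ⟨a, ha, b, hb, rfl⟩

theorem exists_ne {D : Fin 2 → Submodule F (I4 → F)} (hD : IsMDecomposition 2 D) (i : Fin 2) :
    ∃ x ∈ D i, x ≠ 0 := by
  have h : D i ≠ ⊥ := by
    intro h
    have := hD.finrank_eq i
    rw [h, finrank_bot] at this
    omega
  obtain ⟨x, hx, h0⟩ := Submodule.exists_mem_ne_zero_of_ne_bot h
  exact ⟨x, hx, h0⟩

/-- a linear map preserving each summand, in the stabiliser -/
theorem mem_stab_of {D : Fin 2 → Submodule F (I4 → F)} {g : GL I4 F}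
    (σ : Equiv.Perm (Fin 2)) (hD : IsMDecomposition 2 D)
    (h : ∀ i, ∀ x ∈ D i, (g : Matrix I4 I4 F) *ᵥ x ∈ D (σ i)) : g ∈ decompositionStabilizer D := by
  refine ⟨σ, fun i => ?_⟩
  apply Submodule.eq_of_le_of_finrank_eq
  · rw [Submodule.map_le_iff_le_comap]
    intro x hx
    exact h i x hx
  · have hinj : Function.Injective (Matrix.toLin' (g : Matrix I4 I4 F)) := ?_
    · rw [← (Submodule.equivMapOfInjective _ hinj (D i)).finrank_eq, hD.finrank_eq,
        hD.finrank_eq]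
    intro x y hxy
    have hxy' : (g : Matrix I4 I4 F) *ᵥ x = (g : Matrix I4 I4 F) *ᵥ y := hxy
    have h3 := congrArg (fun z => ((g⁻¹ : GL I4 F) : Matrix I4 I4 F) *ᵥ z) hxy'
    simp only [Matrix.mulVec_mulVec, ← Units.val_mul, inv_mul_cancel, Units.val_one,
      Matrix.one_mulVec] at h3
    exact h3

/-- the involution attached to a non-degenerate 2-decomposition -/
theorem exists_invol {L : Subgroup (GL I4 F)} (hL : T2 L) :
    ∃ z : (I4 → F) →ₗ[F] (I4 → F), (∀ x, z (z x) = x) ∧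
      (∀ x y, sympForm 2 F (z x) (z y) = sympForm 2 F x y) ∧ (∃ x, x ≠ 0 ∧ z x = x) ∧
      (∃ x, x ≠ 0 ∧ z x = -x) ∧ (∀ x, ∃ a b, x = a + b ∧ z a = a ∧ z b = -b) ∧
      ∀ g ∈ L, ∀ x, z ((g : Matrix I4 I4 F) *ᵥ ((g : Matrix I4 I4 F) *ᵥ x)) =
        (g : Matrix I4 I4 F) *ᵥ ((g : Matrix I4 I4 F) *ᵥ (z x)) := by
  obtain ⟨E, hE, rfl⟩ := hL
  have hD := hE.decomp
  have hc := isCompl hD
  let z : (I4 → F) →ₗ[F] (I4 → F) := LinearMap.ofIsCompl hc (E 0).subtype (-(E 1).subtype)
  have h0 : ∀ x ∈ E 0, z x = x := fun x hx =>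
    LinearMap.ofIsCompl_apply_left hc (⟨x, hx⟩ : E 0)
  have h1 : ∀ x ∈ E 1, z x = -x := fun x hx =>
    LinearMap.ofIsCompl_apply_right hc (⟨x, hx⟩ : E 1)
  refine ⟨z, ?_, ?_, ?_, ?_, ?_, ?_⟩
  · intro x
    obtain ⟨a, ha, b, hb, rfl⟩ := exists_add hD x
    rw [map_add, map_add, h0 a ha, h1 b hb, map_neg, h0 a ha, h1 b hb, neg_neg]
  · intro x y
    obtain ⟨a, ha, b, hb, rfl⟩ := exists_add hD x
    obtain ⟨c, hc', d, hd, rfl⟩ := exists_add hD y
    have e1 := hE.orthogonal 0 1 (by decide) a ha d hd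
    have e2 := hE.orthogonal 1 0 (by decide) b hb c hc'
    rw [map_add, map_add, h0 a ha, h1 b hb, h0 c hc', h1 d hd]
    simp only [sympForm_add_left, sympForm_add_right, sympForm_neg_left, sympForm_neg_right,
      e1, e2]
    ring
  · obtain ⟨x, hx, hx0⟩ := exists_ne hD 0
    exact ⟨x, hx0, h0 x hx⟩
  · obtain ⟨x, hx, hx0⟩ := exists_ne hD 1
    exact ⟨x, hx0, h1 x hx⟩
  · intro x
    obtain ⟨a, ha, b, hb, rfl⟩ := exists_add hD x
    exact ⟨a, b, rfl, h0 a ha, h1 b hb⟩
  · rintro g ⟨⟨σ, hσ⟩, -⟩ x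
    have hs : ∀ σ : Equiv.Perm (Fin 2), ∀ i, σ (σ i) = i := by decide
    have hm : ∀ i, ∀ x ∈ E i, (g : Matrix I4 I4 F) *ᵥ ((g : Matrix I4 I4 F) *ᵥ x) ∈ E i := by
      intro i x hx
      have h2 : (g : Matrix I4 I4 F) *ᵥ x ∈ E (σ i) := by
        rw [← hσ i]
        exact ⟨x, hx, rfl⟩
      have h3 : (g : Matrix I4 I4 F) *ᵥ ((g : Matrix I4 I4 F) *ᵥ x) ∈ E (σ (σ i)) := by
        rw [← hσ (σ i)]
        exact ⟨_, h2, rfl⟩
      rwa [hs] at h3
    obtain ⟨a, ha, b, hb, rfl⟩ := exists_add hD x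
    simp only [map_add, Matrix.mulVec_add]
    rw [h0 _ (hm 0 a ha), h1 _ (hm 1 b hb), h0 a ha, h1 b hb, Matrix.mulVec_neg,
      Matrix.mulVec_neg]

/-- A quadratic map vanishing off the two eigenspaces of an involution vanishes. -/
theorem quad_zero [Fintype F] (h5 : 5 ≤ Fintype.card F) (h2 : (2 : F) ≠ 0)
    (z k : (I4 → F) →ₗ[F] (I4 → F)) (hw0 : ∃ x, x ≠ 0 ∧ z x = x)
    (hw1 : ∃ x, x ≠ 0 ∧ z x = -x) (hdec : ∀ x, ∃ a b, x = a + b ∧ z a = a ∧ z b = -b)
    (hQ : ∀ v, sympForm 2 F v (k v) ≠ 0 → z v = v ∨ z v = -v) (v : I4 → F) :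
    sympForm 2 F v (k v) = 0 := by
  classical
  have key : ∀ a b : I4 → F, a ≠ 0 → b ≠ 0 → z a = a → z b = -b → ∀ c : F, c ≠ 0 →
      sympForm 2 F (a + c • b) (k (a + c • b)) = 0 := by
    intro a b ha hb hza hzb c hc
    by_contra hne
    rcases hQ _ hne with h | h
    · rw [map_add, map_smul, hza, hzb, add_right_inj, smul_neg, neg_eq_iff_add_eq_zero,
        ← two_smul F, smul_smul, smul_eq_zero] at h
      rcases h with h | h
      · exact (mul_ne_zero h2 hc) h
      · exact hb h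
    · rw [map_add, map_smul, hza, hzb, neg_add, smul_neg, add_left_inj, eq_neg_iff_add_eq_zero,
        ← two_smul F, smul_eq_zero] at h
      rcases h with h | h
      · exact h2 h
      · exact ha h
  -- an element `c` with `c ≠ 0`, `c ^ 2 ≠ 1`
  obtain ⟨c, hc0, hc1⟩ : ∃ c : F, c ≠ 0 ∧ c ^ 2 ≠ 1 := by
    by_contra hcon
    push Not at hcon
    have hsub : (Finset.univ : Finset F) ⊆ {0, 1, -1} := by
      intro c _
      by_cases h : c = 0
      · simp only [h, _root_.Finset.mem_insert, _root_.zero_ne_one, _root_.Finset.mem_singleton, _root_.zero_eq_neg, _root_.one_ne_zero, _root_.or_self, _root_.or_false]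
      · have := hcon c h
        rw [sq_eq_one_iff] at this
        rcases this with h | h <;> simp only [h, _root_.Finset.mem_insert, _root_.one_ne_zero, _root_.Finset.mem_singleton, _root_.true_or, _root_.or_true, _root_.neg_eq_zero]
    have := Finset.card_le_card hsub
    have h3 : ({0, 1, -1} : Finset F).card ≤ 3 := Finset.card_le_three
    rw [Finset.card_univ] at this
    omega
  have key2 : ∀ a b : I4 → F, a ≠ 0 → b ≠ 0 → z a = a → z b = -b →
      sympForm 2 F a (k a) = 0 ∧ sympForm 2 F b (k b) = 0 := by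
    intro a b ha hb hza hzb
    have e1 := key a b ha hb hza hzb 1 one_ne_zero
    have e2 := key a b ha hb hza hzb (-1) (neg_ne_zero.2 one_ne_zero)
    have e3 := key a b ha hb hza hzb c hc0
    simp only [map_add, map_smul, sympForm_add_left, sympForm_add_right, sympForm_smul_left,
      sympForm_smul_right] at e1 e2 e3
    have f1 : (2 : F) * (sympForm 2 F a (k a) + sympForm 2 F b (k b)) = 0 := by
      linear_combination e1 + e2
    have f2 := (mul_eq_zero.1 f1).resolve_left h2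
    have f3 : (2 : F) * (sympForm 2 F a (k b) + sympForm 2 F b (k a)) = 0 := by
      linear_combination e1 - e2
    have f4 := (mul_eq_zero.1 f3).resolve_left h2
    have f5 : (c ^ 2 - 1) * sympForm 2 F b (k b) = 0 := by
      linear_combination e3 - f2 - c * f4
    have f6 := (mul_eq_zero.1 f5).resolve_left (sub_ne_zero.2 hc1)
    refine ⟨?_, f6⟩
    linear_combination f2 - f6
  obtain ⟨w0, hw0, hz0⟩ := hw0
  obtain ⟨w1, hw1, hz1⟩ := hw1
  obtain ⟨a, b, rfl, hza, hzb⟩ := hdec v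
  by_cases ha : a = 0
  · by_cases hb : b = 0
    · simp [ha, hb]
    · rw [ha, zero_add]
      exact (key2 w0 b hw0 hb hz0 hzb).2
  · by_cases hb : b = 0
    · rw [hb, add_zero]
      exact (key2 a w1 ha hw1 hza hz1).1
    · have := key a b ha hb hza hzb 1 one_ne_zero
      rwa [one_smul] at this

end Cfsg.Agent.H64.Sp4Base
end

-- part: H64/Sp4Core
section
/-!
# Elements of the geometric types `T3`, `T4`, `T5` of `Sp₄(F)` (helper64, for S5786 task 606)
-/

set_option autoImplicit false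

namespace Cfsg.Agent.H64.Sp4Core

open Cfsg Cfsg.Geo Matrix
open Cfsg.Agent.H909.Sp4List Cfsg.Agent.H64.Sp4Base
open Cfsg.Agent.ClassicalGeometry.SympBasic

universe u
variable {F : Type u} [Field F]

/-- the functional `x ↦ f(x, w)` -/
def fr (w : I4 → F) : (I4 → F) →ₗ[F] F where
  toFun x := sympForm 2 F x w
  map_add' x y := sympForm_add_left x y w
  map_smul' c x := sympForm_smul_left c x w

@[simp] theorem fr_apply (w x : I4 → F) : fr w x = sympForm 2 F x w := rfl

/-- `x ↦ x + p(x) v + q(x) w` -/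
def two (v w : I4 → F) (p q : (I4 → F) →ₗ[F] F) : (I4 → F) →ₗ[F] (I4 → F) :=
  LinearMap.id + p.smulRight v + q.smulRight w

@[simp] theorem two_apply (v w : I4 → F) (p q : (I4 → F) →ₗ[F] F) (x : I4 → F) :
    two v w p q x = x + p x • v + q x • w := rfl

theorem two_two (v w : I4 → F) (p q : (I4 → F) →ₗ[F] F) (y : I4 → F) :
    ∃ P R : F, two v w p q (two v w p q y) = y + P • v + R • w := by
  refine ⟨p y + p (two v w p q y), q y + q (two v w p q y), ?_⟩
  generalize hP : p (two v w p q y) = P'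
  generalize hR : q (two v w p q y) = R'
  rw [two_apply v w p q (two v w p q y), hP, hR, two_apply]
  module

theorem exists_pair {v : I4 → F} (hv : v ≠ 0) : ∃ w, sympForm 2 F v w ≠ 0 := by
  by_contra h
  push Not at h
  exact hv (eq_zero_of_forall_sympForm_right h)

theorem indep_pair {v w : I4 → F} (h : sympForm 2 F v w ≠ 0) {a b : F} (e : a • v + b • w = 0) :
    a = 0 ∧ b = 0 := by
  have e1 : sympForm 2 F (a • v + b • w) w = 0 := by rw [e, sympForm_zero_left]
  have e2 : sympForm 2 F v (a • v + b • w) = 0 := by rw [e, sympForm_zero_right]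
  rw [sympForm_add_left, sympForm_smul_left, sympForm_smul_left, sympForm_self, mul_zero,
    add_zero] at e1
  rw [sympForm_add_right, sympForm_smul_right, sympForm_smul_right, sympForm_self, mul_zero,
    zero_add] at e2
  exact ⟨(mul_eq_zero.1 e1).resolve_right h, (mul_eq_zero.1 e2).resolve_right h⟩

/-- norm one elements `α + βk` with `αβ ≠ 0` -/
theorem exists_norm [Fintype F] (h5 : 5 ≤ Fintype.card F) (h2 : (2 : F) ≠ 0) {d : F}
    (hd : ∀ c : F, c ^ 2 * d ≠ 1) : ∃ α β : F, α ≠ 0 ∧ β ≠ 0 ∧ α ^ 2 - β ^ 2 * d = 1 := by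
  classical
  obtain ⟨c, hc0, hc1⟩ : ∃ c : F, c ≠ 0 ∧ 1 + c ^ 2 * d ≠ 0 := by
    by_contra hcon
    push Not at hcon
    have h1 := hcon 1 one_ne_zero
    have hd0 : d = -1 := by linear_combination h1
    have hsub : (Finset.univ : Finset F) ⊆ {0, 1, -1} := by
      intro c _
      by_cases h : c = 0
      · simp only [h, _root_.Finset.mem_insert, _root_.zero_ne_one, _root_.Finset.mem_singleton, _root_.zero_eq_neg, _root_.one_ne_zero, _root_.or_self, _root_.or_false]
      · have := hcon c h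
        rw [hd0] at this
        have h3 : c ^ 2 = 1 := by linear_combination -this
        rw [sq_eq_one_iff] at h3
        rcases h3 with h | h <;> simp only [h, _root_.Finset.mem_insert, _root_.one_ne_zero, _root_.Finset.mem_singleton, _root_.true_or, _root_.or_true, _root_.neg_eq_zero]
    have := Finset.card_le_card hsub
    have h3 : ({0, 1, -1} : Finset F).card ≤ 3 := Finset.card_le_three
    rw [Finset.card_univ] at this
    omega
  have hne : 1 - c ^ 2 * d ≠ 0 := fun h => hd c (by linear_combination -h)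
  refine ⟨(1 + c ^ 2 * d) / (1 - c ^ 2 * d), 2 * c / (1 - c ^ 2 * d), div_ne_zero hc1 hne,
    div_ne_zero (mul_ne_zero h2 hc0) hne, ?_⟩
  field_simp
  ring

section Skew

variable (k : (I4 → F) →ₗ[F] (I4 → F)) (d : F)

/-- the unitary reflection with respect to `v` -/
def refl (v : I4 → F) (α β : F) : (I4 → F) →ₗ[F] (I4 → F) :=
  two v (k v)
    (((sympForm 2 F v (k v))⁻¹ * (α - 1)) • fr (k v) - ((sympForm 2 F v (k v))⁻¹ * (β * d)) • fr v)
    (((sympForm 2 F v (k v))⁻¹ * β) • fr (k v) - ((sympForm 2 F v (k v))⁻¹ * (α - 1)) • fr v)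

variable {k d}

theorem refl_sp (hs : ∀ x y, sympForm 2 F (k x) y = -sympForm 2 F x (k y)) {v : I4 → F}
    (hv : sympForm 2 F v (k v) ≠ 0) {α β : F} (hn : α ^ 2 - β ^ 2 * d = 1) (x y : I4 → F) :
    sympForm 2 F (refl k d v α β x) (refl k d v α β y) = sympForm 2 F x y := by
  have hQ : sympForm 2 F v (k v) * (sympForm 2 F v (k v))⁻¹ = 1 := mul_inv_cancel₀ hv
  have e1 : sympForm 2 F (k v) v = -sympForm 2 F v (k v) := hs v v
  have e2 : sympForm 2 F v y = -sympForm 2 F y v := sympForm_swap v y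
  have e3 : sympForm 2 F (k v) y = -sympForm 2 F y (k v) := sympForm_swap _ y
  set Q := sympForm 2 F v (k v) with hQdef
  simp only [refl, two_apply, LinearMap.sub_apply, LinearMap.smul_apply, fr_apply, smul_eq_mul,
    sympForm_add_left, sympForm_add_right, sympForm_smul_left, sympForm_smul_right,
    sympForm_self, e1, e2, e3, ← hQdef]
  set X1 := sympForm 2 F x v
  set X2 := sympForm 2 F x (k v)
  set Y1 := sympForm 2 F y v
  set Y2 := sympForm 2 F y (k v)
  linear_combination (X1 * Y2 - X2 * Y1) * (Q⁻¹ * hn +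
    Q⁻¹ * ((α - 1) ^ 2 - β ^ 2 * d) * hQ)

theorem refl_comm (hkk : ∀ x, k (k x) = d • x)
    (hs : ∀ x y, sympForm 2 F (k x) y = -sympForm 2 F x (k y)) {v : I4 → F}
    {α β : F} (x : I4 → F) :
    refl k d v α β (k x) = k (refl k d v α β x) := by
  have e1 : sympForm 2 F (k x) (k v) = -(d * sympForm 2 F x v) := by
    rw [hs, hkk, sympForm_smul_right]
  have e2 : sympForm 2 F (k x) v = -sympForm 2 F x (k v) := hs x v
  simp only [refl, two_apply, LinearMap.sub_apply, LinearMap.smul_apply, fr_apply, smul_eq_mul,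
    map_add, map_smul, hkk, e1, e2]
  module

theorem refl_self {v : I4 → F}
    (hv : sympForm 2 F v (k v) ≠ 0) {α β : F} :
    refl k d v α β v = α • v + β • k v := by
  have hQ : (sympForm 2 F v (k v))⁻¹ * sympForm 2 F v (k v) = 1 := inv_mul_cancel₀ hv
  simp only [refl, two_apply, LinearMap.sub_apply, LinearMap.smul_apply, fr_apply, smul_eq_mul,
    sympForm_self]
  set Q := sympForm 2 F v (k v)
  have e1 : Q⁻¹ * (α - 1) * Q - Q⁻¹ * (β * d) * 0 = α - 1 := by linear_combination (α - 1) * hQ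
  have e2 : Q⁻¹ * β * Q - Q⁻¹ * (α - 1) * 0 = β := by linear_combination β * hQ
  rw [e1, e2]
  module

end Skew

/-- the core of `T5 ⊄ T2` -/
theorem five_two [Fintype F] (h5 : 5 ≤ Fintype.card F) (h2 : (2 : F) ≠ 0)
    {k : (I4 → F) →ₗ[F] (I4 → F)} {d : F} (hkk : ∀ x, k (k x) = d • x)
    (hs : ∀ x y, sympForm 2 F (k x) y = -sympForm 2 F x (k y)) (hd0 : d ≠ 0)
    (hd : ∀ c : F, c ^ 2 * d ≠ 1) {M L : Subgroup (GL I4 F)}
    (hM : ∀ g ∈ spGL 2 F, (∀ x, (g : Matrix I4 I4 F) *ᵥ (k x) = k ((g : Matrix I4 I4 F) *ᵥ x)) →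
      g ∈ M) (hML : M ≤ L) (hL : T2 L) (v : I4 → F) : sympForm 2 F v (k v) = 0 := by
  obtain ⟨z, hzz, hzf, hw0, hw1, hdec, hzL⟩ := exists_invol hL
  obtain ⟨α, β, hα, hβ, hn⟩ := exists_norm h5 h2 hd
  -- `z` commutes with `k`
  have hzk : ∀ x, z (k x) = k (z x) := by
    obtain ⟨g, hg, hgx⟩ := exists_sp (α • LinearMap.id + β • k) (by
      intro x y
      have e1 : sympForm 2 F (k x) (k y) = -(d * sympForm 2 F x y) := by
        rw [hs, hkk, sympForm_smul_right]
      simp only [LinearMap.add_apply, LinearMap.smul_apply, LinearMap.id_coe, id_eq,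
        sympForm_add_left, sympForm_add_right, sympForm_smul_left, sympForm_smul_right, e1, hs x y]
      linear_combination (sympForm 2 F x y) * hn)
    simp only [LinearMap.add_apply, LinearMap.smul_apply, LinearMap.id_coe, id_eq] at hgx
    have hgM : g ∈ M := hM g hg (fun x => by
      rw [hgx, hgx, map_add, map_smul, map_smul])
    intro x
    have e := hzL g (hML hgM) x
    simp only [hgx, map_add, map_smul, hkk] at e
    have e2 : (2 * (α * β)) • (z (k x) - k (z x)) = 0 := by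
      linear_combination (norm := module) e
    rcases smul_eq_zero.1 e2 with h | h
    · exact absurd h (mul_ne_zero h2 (mul_ne_zero hα hβ))
    · exact sub_eq_zero.1 h
  apply quad_zero h5 h2 z k hw0 hw1 hdec
  intro v hv
  obtain ⟨g, hg, hgx⟩ := exists_sp (refl k d v α β) (refl_sp hs hv hn)
  have hgM : g ∈ M := hM g hg (fun x => by rw [hgx, hgx, refl_comm hkk hs])
  have e := hzL g (hML hgM) v
  simp only [hgx] at e
  obtain ⟨P, R, hPR⟩ : ∃ P R : F, refl k d v α β (refl k d v α β (z v)) =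
      z v + P • v + R • k v := two_two _ _ _ _ _
  rw [hPR, refl_self hv, map_add, map_smul, map_smul, refl_comm hkk hs, refl_self hv] at e
  simp only [map_add, map_smul, hkk, hzk] at e
  -- e : α • (α • z v + β • k (z v)) + β • (α • k (z v) + β • d • z v) = z v + P • v + R • k v
  set e1 : F := α ^ 2 + β ^ 2 * d - 1 with he1
  set e2 : F := 2 * (α * β) with he2
  have he20 : e2 ≠ 0 := mul_ne_zero h2 (mul_ne_zero hα hβ)
  have E1 : e1 • z v + e2 • k (z v) = P • v + R • k v := by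
    rw [he1, he2]
    linear_combination (norm := module) e
  have E2 : e1 • k (z v) + (e2 * d) • z v = P • k v + (R * d) • v := by
    have := congrArg k E1
    simp only [map_add, map_smul, hkk] at this
    linear_combination (norm := module) this
  have E3 : (e1 ^ 2 - e2 ^ 2 * d) • z v = (e1 * P - e2 * R * d) • v +
      (e1 * R - e2 * P) • k v := by
    linear_combination (norm := module) e1 • E1 - e2 • E2
  have hN : e1 ^ 2 - e2 ^ 2 * d ≠ 0 := by
    intro h
    by_cases h1 : e1 = 0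
    · rw [h1] at h
      have : e2 ^ 2 * d = 0 := by linear_combination -h
      exact (mul_ne_zero (pow_ne_zero 2 he20) hd0) this
    · apply hd (e2 / e1)
      field_simp
      linear_combination -h
  obtain ⟨s, t, hst⟩ : ∃ s t : F, z v = s • v + t • k v := by
    refine ⟨(e1 ^ 2 - e2 ^ 2 * d)⁻¹ * (e1 * P - e2 * R * d),
      (e1 ^ 2 - e2 ^ 2 * d)⁻¹ * (e1 * R - e2 * P), ?_⟩
    have := congrArg (fun y => (e1 ^ 2 - e2 ^ 2 * d)⁻¹ • y) E3
    simp only [smul_smul, inv_mul_cancel₀ hN, one_smul, smul_add] at this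
    rw [this]
  have E4 : (s ^ 2 + t ^ 2 * d - 1) • v + (2 * (s * t)) • k v = 0 := by
    have h := hzz v
    rw [hst, map_add, map_smul, map_smul, hzk, hst, map_add, map_smul, map_smul, hkk] at h
    linear_combination (norm := module) h
  obtain ⟨f1, f2⟩ := indep_pair hv E4
  have f3 := (mul_eq_zero.1 f2).resolve_left h2
  rcases mul_eq_zero.1 f3 with h | h
  · rw [h] at f1
    exact absurd (by linear_combination f1) (hd t)
  · rw [h] at f1 hst
    have : s ^ 2 = 1 := by linear_combination f1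
    rw [zero_smul, add_zero] at hst
    rcases sq_eq_one_iff.1 this with h | h
    · left; rw [hst, h, one_smul]
    · right; rw [hst, h, neg_one_smul]

/-- the core of irreducibility for `T5` -/
theorem five_irr [Fintype F] (h5 : 5 ≤ Fintype.card F) (h2 : (2 : F) ≠ 0)
    {k : (I4 → F) →ₗ[F] (I4 → F)} {d : F} (hkk : ∀ x, k (k x) = d • x)
    (hs : ∀ x y, sympForm 2 F (k x) y = -sympForm 2 F x (k y)) (hd0 : d ≠ 0)
    (hd : ∀ c : F, c ^ 2 * d ≠ 1) {M L : Subgroup (GL I4 F)}
    (hM : ∀ g ∈ spGL 2 F, (∀ x, (g : Matrix I4 I4 F) *ᵥ (k x) = k ((g : Matrix I4 I4 F) *ᵥ x)) →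
      g ∈ M) (hML : M ≤ L) (hL : T1 L) (v : I4 → F) : sympForm 2 F v (k v) = 0 := by
  obtain ⟨W, hW, hts, rfl⟩ := hL
  obtain ⟨w, hw, hw0⟩ := Submodule.exists_mem_ne_zero_of_ne_bot hW
  obtain ⟨α, β, hα, hβ, hn⟩ := exists_norm h5 h2 hd
  have key : ∀ v, sympForm 2 F v (k v) ≠ 0 → sympForm 2 F w v = 0 := by
    intro v hv
    obtain ⟨g, hg, hgx⟩ := exists_sp (refl k d v α β) (refl_sp hs hv hn)
    have hgM : g ∈ M := hM g hg (fun x => by rw [hgx, hgx, refl_comm hkk hs])
    have h1 : (g : Matrix I4 I4 F) *ᵥ w ∈ W := ((hML hgM).1 w).1 hw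
    have h3 := hts _ h1 _ hw
    rw [hgx] at h3
    have hQ : sympForm 2 F v (k v) * (sympForm 2 F v (k v))⁻¹ = 1 := mul_inv_cancel₀ hv
    simp only [refl, two_apply, LinearMap.sub_apply, LinearMap.smul_apply, fr_apply, smul_eq_mul,
      sympForm_add_left, sympForm_smul_left, sympForm_self, sympForm_swap v w,
      sympForm_swap (k v) w] at h3
    set Q := sympForm 2 F v (k v)
    set X1 := sympForm 2 F w v
    set X2 := sympForm 2 F w (k v)
    have h4 : Q⁻¹ * β * (X2 ^ 2 - d * X1 ^ 2) = 0 := by linear_combination -h3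
    have h5 : X2 ^ 2 - d * X1 ^ 2 = 0 :=
      (mul_eq_zero.1 h4).resolve_left (mul_ne_zero (inv_ne_zero hv) hβ)
    by_contra hX
    by_cases h6 : X2 = 0
    · rw [h6] at h5
      have : d * X1 ^ 2 = 0 := by linear_combination -h5
      exact mul_ne_zero hd0 (pow_ne_zero 2 hX) this
    · apply hd (X1 / X2)
      field_simp
      linear_combination -h5
  -- a vector not orthogonal to `w`
  obtain ⟨y, hy⟩ := exists_pair hw0
  have hy0 : sympForm 2 F y (k y) = 0 := by
    by_contra h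
    exact hy (key y h)
  by_cases hwv : sympForm 2 F w v = 0
  · have g1 : sympForm 2 F (y + v) (k (y + v)) = 0 := by
      by_contra h
      have := key _ h
      rw [sympForm_add_right, hwv, add_zero] at this
      exact hy this
    have g2 : sympForm 2 F (y - v) (k (y - v)) = 0 := by
      by_contra h
      have := key _ h
      rw [sympForm_sub_right, hwv, sub_zero] at this
      exact hy this
    rw [map_add, sympForm_add_left, sympForm_add_right, sympForm_add_right] at g1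
    rw [map_sub, sympForm_sub_left, sympForm_sub_right, sympForm_sub_right] at g2
    have g3 : (2 : F) * sympForm 2 F v (k v) = 0 := by linear_combination g1 + g2 - 2 * hy0
    exact (mul_eq_zero.1 g3).resolve_left h2
  · by_contra h
    exact hwv (key v h)

/-- the core of irreducibility for `T4` -/
theorem four_irr (h2 : (2 : F) ≠ 0)
    {k : (I4 → F) →ₗ[F] (I4 → F)} {d : F} (hkk : ∀ x, k (k x) = d • x)
    (hs : ∀ x y, sympForm 2 F (k x) y = sympForm 2 F x (k y)) (hd0 : d ≠ 0)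
    {M L : Subgroup (GL I4 F)}
    (hM : ∀ g ∈ spGL 2 F, (∀ x, (g : Matrix I4 I4 F) *ᵥ (k x) = k ((g : Matrix I4 I4 F) *ᵥ x)) →
      g ∈ M) (hML : M ≤ L) (hL : T1 L) : False := by
  obtain ⟨W, hW, hts, rfl⟩ := hL
  obtain ⟨w, hw, hw0⟩ := Submodule.exists_mem_ne_zero_of_ne_bot hW
  have hvk : ∀ v, sympForm 2 F v (k v) = 0 := by
    intro v
    have h1 := hs v v
    rw [sympForm_swap] at h1
    have : (2 : F) * sympForm 2 F v (k v) = 0 := by linear_combination -h1
    exact (mul_eq_zero.1 this).resolve_left h2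
  have key : ∀ v, sympForm 2 F w v * sympForm 2 F w (k v) = 0 := by
    intro v
    obtain ⟨g, hg, hgx⟩ := exists_sp (two v (k v) (fr (k v)) (fr v)) (by
      intro x y
      simp only [two_apply, fr_apply, sympForm_add_left, sympForm_add_right, sympForm_smul_left,
        sympForm_smul_right, sympForm_self, hvk, sympForm_swap v y, sympForm_swap (k v) y,
        sympForm_swap (k v) v]
      ring)
    have hgM : g ∈ M := hM g hg (fun x => by
      have e1 : sympForm 2 F (k x) (k v) = d * sympForm 2 F x v := by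
        rw [hs, hkk, sympForm_smul_right]
      simp only [hgx, two_apply, fr_apply, map_add, map_smul, hkk, e1, hs x v]
      module)
    have h1 : (g : Matrix I4 I4 F) *ᵥ w ∈ W := ((hML hgM).1 w).1 hw
    have h3 := hts _ h1 _ hw
    rw [hgx] at h3
    simp only [two_apply, fr_apply, sympForm_add_left, sympForm_smul_left, sympForm_self,
      sympForm_swap v w, sympForm_swap (k v) w] at h3
    have : (2 : F) * (sympForm 2 F w v * sympForm 2 F w (k v)) = 0 := by linear_combination -h3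
    exact (mul_eq_zero.1 this).resolve_left h2
  -- two vectors
  obtain ⟨a, ha⟩ := exists_pair hw0
  have ha2 : sympForm 2 F w (k a) = 0 := (mul_eq_zero.1 (key a)).resolve_left ha
  have hb : sympForm 2 F w (k (k a)) ≠ 0 := by
    rw [hkk, sympForm_smul_right]
    exact mul_ne_zero hd0 ha
  have h3 := key (a + k a)
  rw [map_add, sympForm_add_right, sympForm_add_right, ha2, add_zero, zero_add] at h3
  exact mul_ne_zero ha hb h3

end Cfsg.Agent.H64.Sp4Core
end

-- part: H64/Sp4Types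
section
/-!
# Non-containments between the geometric types of `Sp₄(F)` (helper64, S5786 task 606)
-/

set_option autoImplicit false

namespace Cfsg.Agent.H64.Sp4Types

open Cfsg Cfsg.Geo Matrix
open Cfsg.Agent.H909.Sp4List Cfsg.Agent.H64.Sp4Base Cfsg.Agent.H64.Sp4Core
open Cfsg.Agent.ClassicalGeometry.SympBasic

universe u
variable {F : Type u} [Field F]

/-! ### Quadratic subfields of the matrix algebra -/

theorem span_pair {K : Subalgebra F (Matrix I4 I4 F)} (hK : IsFieldSubalgebra 2 K)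
    {k : Matrix I4 I4 F} (hk : k ∈ K) (hns : ∀ c : F, k ≠ c • (1 : Matrix I4 I4 F)) :
    ∀ a ∈ K, ∃ α β : F, a = α • (1 : Matrix I4 I4 F) + β • k := by
  intro a ha
  have hli : LinearIndependent F ![(1 : Matrix I4 I4 F), k] := by
    rw [LinearIndependent.pair_iff]
    intro s t h
    by_cases ht : t = 0
    · rw [ht, zero_smul, add_zero, smul_eq_zero] at h
      exact ⟨h.resolve_right one_ne_zero, ht⟩
    · exfalso
      apply hns (-(t⁻¹ * s))
      have h1 : t • k = -(s • (1 : Matrix I4 I4 F)) := by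
        rw [eq_neg_iff_add_eq_zero, add_comm, h]
      have h2 := congrArg (fun y => t⁻¹ • y) h1
      simp only [smul_smul, inv_mul_cancel₀ ht, one_smul, smul_neg] at h2
      rw [h2, neg_smul]
  have h1 : Submodule.span F (Set.range ![(1 : Matrix I4 I4 F), k]) ≤
      Subalgebra.toSubmodule K := by
    rw [Submodule.span_le]
    rintro x ⟨i, rfl⟩
    fin_cases i
    · exact K.one_mem
    · exact hk
  have h2 : Submodule.span F (Set.range ![(1 : Matrix I4 I4 F), k]) =
      Subalgebra.toSubmodule K := by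
    apply Submodule.eq_of_le_of_finrank_eq h1
    rw [finrank_span_eq_card hli, Fintype.card_fin]
    exact hK.finrank_eq.symm
  have h3 : a ∈ Submodule.span F (Set.range ![(1 : Matrix I4 I4 F), k]) := by
    rw [h2]; exact ha
  rw [show Set.range ![(1 : Matrix I4 I4 F), k] = {1, k} by
    simp [Matrix.range_cons, Matrix.range_empty, Set.union_comm], Submodule.mem_span_pair] at h3
  obtain ⟨α, β, h⟩ := h3
  exact ⟨α, β, h.symm⟩

theorem nonsq {K : Subalgebra F (Matrix I4 I4 F)} (hK : IsFieldSubalgebra 2 K)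
    {k : Matrix I4 I4 F} (hk : k ∈ K) (hns : ∀ c : F, k ≠ c • (1 : Matrix I4 I4 F)) {d : F}
    (hkk : k * k = d • (1 : Matrix I4 I4 F)) : (∀ c : F, c ^ 2 * d ≠ 1) ∧ d ≠ 0 := by
  constructor
  · intro c hc
    have hc0 : c ≠ 0 := by
      rintro rfl
      simp at hc
    have h1 : (c • k - 1) * (c • k + 1) = 0 := by
      have : (c • k - 1) * (c • k + 1) = (c ^ 2) • (k * k) - 1 := by
        rw [sub_mul, mul_add, mul_one, one_mul, smul_mul_smul_comm, ← pow_two]
        abel
      rw [this, hkk, smul_smul, hc, one_smul, sub_self]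
    have h2 : c • k + 1 ≠ 0 := by
      intro h
      apply hns (-c⁻¹)
      have h3 : c • k = -1 := eq_neg_of_add_eq_zero_left h
      have h4 := congrArg (fun y => c⁻¹ • y) h3
      simp only [smul_smul, inv_mul_cancel₀ hc0, one_smul, smul_neg] at h4
      rw [h4, neg_smul]
    obtain ⟨y, -, hy⟩ := hK.inv _ (K.add_mem (K.smul_mem hk c) K.one_mem) h2
    have h3 : c • k - 1 = 0 := by
      have := congrArg (fun w => w * y) h1
      simpa only [mul_assoc, hy, mul_one, zero_mul] using this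
    apply hns c⁻¹
    have h4 := congrArg (fun y => c⁻¹ • y) (sub_eq_zero.1 h3)
    simp only [smul_smul, inv_mul_cancel₀ hc0, one_smul] at h4
    exact h4
  · rintro rfl
    rw [zero_smul] at hkk
    have h0 : k ≠ 0 := by
      intro h
      exact hns 0 (by rw [h, zero_smul])
    obtain ⟨y, -, hy⟩ := hK.inv k hk h0
    apply h0
    have := congrArg (fun w => w * y) hkk
    simpa only [mul_assoc, hy, mul_one, zero_mul] using this

theorem mem_normalizer {K : Subalgebra F (Matrix I4 I4 F)} {k : Matrix I4 I4 F}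
    (hspan : ∀ a ∈ K, ∃ α β : F, a = α • (1 : Matrix I4 I4 F) + β • k) {g : GL I4 F}
    (hg : (g : Matrix I4 I4 F) * k = k * (g : Matrix I4 I4 F)) : g ∈ subalgebraNormalizer K := by
  have h1 : ∀ a ∈ K, (g : Matrix I4 I4 F) * a = a * (g : Matrix I4 I4 F) := by
    intro a ha
    obtain ⟨α, β, rfl⟩ := hspan a ha
    rw [mul_add, add_mul, mul_smul_comm, mul_smul_comm, smul_mul_assoc, smul_mul_assoc, hg,
      mul_one, one_mul]
  have e1 : (g : Matrix I4 I4 F) * ((g⁻¹ : GL I4 F) : Matrix I4 I4 F) = 1 := by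
    rw [← Units.val_mul, mul_inv_cancel, Units.val_one]
  have e2 : ((g⁻¹ : GL I4 F) : Matrix I4 I4 F) * (g : Matrix I4 I4 F) = 1 := by
    rw [← Units.val_mul, inv_mul_cancel, Units.val_one]
  intro a
  constructor
  · intro ha
    rw [h1 a ha, mul_assoc, e1, mul_one]
    exact ha
  · intro ha
    have h2 := h1 _ ha
    have h4 : (g : Matrix I4 I4 F) * ((g : Matrix I4 I4 F) * a *
        ((g⁻¹ : GL I4 F) : Matrix I4 I4 F)) = (g : Matrix I4 I4 F) * a := by
      rw [h2, mul_assoc ((g : Matrix I4 I4 F) * a), e2, mul_one]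
    have h5 := congrArg (fun y => ((g⁻¹ : GL I4 F) : Matrix I4 I4 F) * y) h4
    simp only [← mul_assoc, e2, one_mul] at h5
    rw [← h5]
    exact ha

/-- data of type `T5` -/
theorem five_data {K : Subalgebra F (Matrix I4 I4 F)} (h2 : (2 : F) ≠ 0)
    (hK : IsFieldSubalgebra 2 K)
    (hac : IsAdjointClosedFor (sympForm 2 F) K) (hns : ¬ IsSelfAdjointFor (sympForm 2 F) K) :
    ∃ (k : (I4 → F) →ₗ[F] (I4 → F)) (d : F), (∀ x, k (k x) = d • x) ∧
      (∀ x y, sympForm 2 F (k x) y = -sympForm 2 F x (k y)) ∧ d ≠ 0 ∧ (∀ c : F, c ^ 2 * d ≠ 1) ∧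
      (∃ x, sympForm 2 F x (k x) ≠ 0) ∧
      ∀ g ∈ spGL 2 F, (∀ x, (g : Matrix I4 I4 F) *ᵥ (k x) = k ((g : Matrix I4 I4 F) *ᵥ x)) →
        g ∈ subalgebraNormalizer K ⊓ spGL 2 F := by
  have h1 : ∃ a ∈ K, ∃ u v : I4 → F, sympForm 2 F (a *ᵥ u) v ≠ sympForm 2 F u (a *ᵥ v) := by
    by_contra h
    push Not at h
    exact hns h
  obtain ⟨a, ha, u, v, huv⟩ := h1
  obtain ⟨b, hb, hab⟩ := hac a ha
  have hba : ∀ u v, sympForm 2 F (b *ᵥ u) v = sympForm 2 F u (a *ᵥ v) := by
    intro u v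
    rw [sympForm_swap, ← hab, sympForm_swap, neg_neg]
  set k : Matrix I4 I4 F := a - b with hkdef
  have hk : k ∈ K := K.sub_mem ha hb
  have hs : ∀ x y, sympForm 2 F (k *ᵥ x) y = -sympForm 2 F x (k *ᵥ y) := by
    intro x y
    rw [hkdef, Matrix.sub_mulVec, Matrix.sub_mulVec, sympForm_sub_left, sympForm_sub_right, hab,
      hba]
    ring
  have hk0 : ∃ x y, sympForm 2 F (k *ᵥ x) y ≠ 0 := by
    refine ⟨u, v, ?_⟩
    rw [hkdef, Matrix.sub_mulVec, sympForm_sub_left, hba]
    exact sub_ne_zero.2 huv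
  have hnsc : ∀ c : F, k ≠ c • (1 : Matrix I4 I4 F) := by
    intro c hc
    obtain ⟨x, y, hxy⟩ := hk0
    have h3 := hs x y
    rw [hc, Matrix.smul_mulVec, Matrix.smul_mulVec, Matrix.one_mulVec, Matrix.one_mulVec,
      sympForm_smul_left, sympForm_smul_right] at h3
    have h4 : (2 : F) * (c * sympForm 2 F x y) = 0 := by linear_combination h3
    have h5 := (mul_eq_zero.1 h4).resolve_left h2
    rw [hc, Matrix.smul_mulVec, Matrix.one_mulVec, sympForm_smul_left] at hxy
    exact hxy h5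
  have hspan := span_pair hK hk hnsc
  obtain ⟨d, β, hd⟩ := hspan _ (K.mul_mem hk hk)
  have hβ : β = 0 := by
    obtain ⟨x, y, hxy⟩ := hk0
    have h3 : sympForm 2 F ((k * k) *ᵥ x) y = sympForm 2 F x ((k * k) *ᵥ y) := by
      rw [← Matrix.mulVec_mulVec, ← Matrix.mulVec_mulVec, hs, hs, neg_neg]
    rw [hd, Matrix.add_mulVec, Matrix.add_mulVec, Matrix.smul_mulVec, Matrix.smul_mulVec,
      Matrix.smul_mulVec, Matrix.smul_mulVec, Matrix.one_mulVec, Matrix.one_mulVec,
      sympForm_add_left, sympForm_add_right, sympForm_smul_left, sympForm_smul_left,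
      sympForm_smul_right, sympForm_smul_right] at h3
    have h4 : (2 : F) * (β * sympForm 2 F (k *ᵥ x) y) = 0 := by
      linear_combination h3 + β * hs x y
    exact (mul_eq_zero.1 ((mul_eq_zero.1 h4).resolve_left h2)).resolve_right hxy
  rw [hβ, zero_smul, add_zero] at hd
  obtain ⟨hd1, hd0⟩ := nonsq hK hk hnsc hd
  refine ⟨Matrix.toLin' k, d, ?_, ?_, hd0, hd1, ?_, ?_⟩
  · intro x
    rw [Matrix.toLin'_apply, Matrix.toLin'_apply, Matrix.mulVec_mulVec, hd, Matrix.smul_mulVec,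
      Matrix.one_mulVec]
  · intro x y
    rw [Matrix.toLin'_apply, Matrix.toLin'_apply, hs]
  · by_contra hcon
    push Not at hcon
    obtain ⟨x, y, hxy⟩ := hk0
    have e1 := hcon (x + y)
    have e2 := hcon x
    have e3 := hcon y
    simp only [Matrix.toLin'_apply, Matrix.mulVec_add, sympForm_add_left,
      sympForm_add_right] at e1 e2 e3
    have e4 := hs y x
    have e5 : sympForm 2 F y (k *ᵥ x) = -sympForm 2 F (k *ᵥ x) y := sympForm_swap _ _
    have e6 := hs x y
    apply hxy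
    have h4 : (2 : F) * sympForm 2 F (k *ᵥ x) y = 0 := by
      linear_combination e6 + e5 - (e1 - e2 - e3)
    exact (mul_eq_zero.1 h4).resolve_left h2
  · intro g hg hgk
    refine ⟨mem_normalizer hspan ?_, hg⟩
    apply Matrix.toLin'.injective
    refine LinearMap.ext fun x => ?_
    rw [Matrix.toLin'_mul, Matrix.toLin'_mul, LinearMap.comp_apply, LinearMap.comp_apply]
    exact hgk x

/-- data of type `T4` -/
theorem four_data {K : Subalgebra F (Matrix I4 I4 F)} (h2 : (2 : F) ≠ 0)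
    (hK : IsFieldSubalgebra 2 K) (hsa : IsSelfAdjointFor (sympForm 2 F) K) :
    ∃ (k : (I4 → F) →ₗ[F] (I4 → F)) (d : F), (∀ x, k (k x) = d • x) ∧
      (∀ x y, sympForm 2 F (k x) y = sympForm 2 F x (k y)) ∧ d ≠ 0 ∧
      ∀ g ∈ spGL 2 F, (∀ x, (g : Matrix I4 I4 F) *ᵥ (k x) = k ((g : Matrix I4 I4 F) *ᵥ x)) →
        g ∈ subalgebraNormalizer K ⊓ spGL 2 F := by
  -- a non-scalar element
  obtain ⟨a, ha, hns⟩ : ∃ a ∈ K, ∀ c : F, a ≠ c • (1 : Matrix I4 I4 F) := by
    by_contra h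
    push Not at h
    have h1 : Subalgebra.toSubmodule K ≤ Submodule.span F {(1 : Matrix I4 I4 F)} := by
      intro a ha
      obtain ⟨c, hc⟩ := h a ha
      rw [hc]
      exact Submodule.smul_mem _ c (Submodule.mem_span_singleton_self _)
    have h3 := Submodule.finrank_mono h1
    rw [finrank_span_singleton one_ne_zero] at h3
    have h4 : Module.finrank F (Subalgebra.toSubmodule K) = 2 := hK.finrank_eq
    omega
  obtain ⟨x, y, hxy⟩ := span_pair hK ha hns _ (K.mul_mem ha ha)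
  set k : Matrix I4 I4 F := a - (y / 2) • (1 : Matrix I4 I4 F) with hkdef
  have hk : k ∈ K := K.sub_mem ha (K.smul_mem K.one_mem _)
  have hnsc : ∀ c : F, k ≠ c • (1 : Matrix I4 I4 F) := by
    intro c hc
    apply hns (c + y / 2)
    rw [add_smul, ← hc, hkdef, sub_add_cancel]
  have hspan := span_pair hK hk hnsc
  have hd : k * k = (x + y ^ 2 / 4) • (1 : Matrix I4 I4 F) := by
    have h4 : (4 : F) ≠ 0 := by
      rw [show (4 : F) = 2 * 2 by norm_num]
      exact mul_ne_zero h2 h2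
    have : k * k = a * a - y • a + (y ^ 2 / 4) • (1 : Matrix I4 I4 F) := by
      rw [hkdef]
      simp only [sub_mul, mul_sub, smul_mul_assoc, mul_smul_comm, mul_one, one_mul, smul_sub,
        smul_smul]
      have e1 : y / 2 * (y / 2) = y ^ 2 / 4 := by
        field_simp
        ring
      have e2 : (y / 2) • a + (y / 2) • a = y • a := by
        rw [← add_smul]
        congr 1
        field_simp
        ring
      rw [e1, ← e2]
      abel
    rw [this, hxy, add_smul]
    abel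
  obtain ⟨-, hd0⟩ := nonsq hK hk hnsc hd
  refine ⟨Matrix.toLin' k, _, ?_, ?_, hd0, ?_⟩
  · intro x
    rw [Matrix.toLin'_apply, Matrix.toLin'_apply, Matrix.mulVec_mulVec, hd, Matrix.smul_mulVec,
      Matrix.one_mulVec]
  · intro x y
    rw [Matrix.toLin'_apply, Matrix.toLin'_apply, hsa k hk]
  · intro g hg hgk
    refine ⟨mem_normalizer hspan ?_, hg⟩
    apply Matrix.toLin'.injective
    refine LinearMap.ext fun x => ?_
    rw [Matrix.toLin'_mul, Matrix.toLin'_mul, LinearMap.comp_apply, LinearMap.comp_apply]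
    exact hgk x

theorem two_ne_zero_of_odd [Fintype F] (hodd : Odd (Fintype.card F)) : (2 : F) ≠ 0 := by
  intro h
  have h1 := FiniteField.even_card_iff_char_two (F := F)
  have h3 : ringChar F = 2 := by
    have := CharP.exists F
    obtain ⟨p, hp⟩ := this
    have h4 : p ∣ 2 := (CharP.cast_eq_zero_iff F p 2).1 (by exact_mod_cast h)
    have h5 : p ≠ 1 := CharP.char_ne_one F p
    have h6 : p = 2 := by
      have := (Nat.dvd_prime Nat.prime_two).1 h4
      tauto
    rw [← h6]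
    exact ringChar.eq F p
  have h4 := h1.1 h3
  rw [Nat.odd_iff] at hodd
  omega

theorem T5_T2 [Fintype F] (h5 : 5 ≤ Fintype.card F) (hodd : Odd (Fintype.card F))
    {K : Subalgebra F (Matrix I4 I4 F)} (hK : IsFieldSubalgebra 2 K)
    (hac : IsAdjointClosedFor (sympForm 2 F) K) (hns : ¬ IsSelfAdjointFor (sympForm 2 F) K)
    {L : Subgroup (GL I4 F)} (hL : T2 L) (hle : subalgebraNormalizer K ⊓ spGL 2 F ≤ L) :
    False := by
  have h2 := two_ne_zero_of_odd hodd
  obtain ⟨k, d, hkk, hs, hd0, hd, ⟨x, hx⟩, hM⟩ := five_data h2 hK hac hns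
  exact hx (five_two h5 h2 hkk hs hd0 hd hM hle hL x)

end Cfsg.Agent.H64.Sp4Types
end

-- part: H64/Sp4Three
section
/-!
# Type `T3` of `Sp₄(F)` and irreducibility (helper64, S5786 task 606)
-/

set_option autoImplicit false

namespace Cfsg.Agent.H64.Sp4Three

open Cfsg Cfsg.Geo Matrix
open Cfsg.Agent.H909.Sp4List Cfsg.Agent.H64.Sp4Base Cfsg.Agent.H64.Sp4Core
open Cfsg.Agent.H64.Sp4Types
open Cfsg.Agent.ClassicalGeometry.SympBasic

universe u
variable {F : Type u} [Field F] {D : Fin 2 → Submodule F (I4 → F)}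

theorem fin2_cases : ∀ i j : Fin 2, i ≠ j → (i = 0 ∧ j = 1) ∨ (i = 1 ∧ j = 0) := by decide

theorem fin2_or : ∀ i j : Fin 2, i ≠ j → ∀ a, a = i ∨ a = j := by decide

theorem exists_add' (hD : IsMDecomposition 2 D) {i j : Fin 2} (hij : i ≠ j) (x : I4 → F) :
    ∃ a ∈ D i, ∃ b ∈ D j, x = a + b := by
  obtain ⟨a, ha, b, hb, h⟩ := exists_add hD x
  have h3 := fin2_cases i j hij
  rcases h3 with ⟨rfl, rfl⟩ | ⟨rfl, rfl⟩
  · exact ⟨a, ha, b, hb, h⟩
  · exact ⟨b, hb, a, ha, by rw [h, add_comm]⟩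

theorem inter (hD : IsMDecomposition 2 D) {i j : Fin 2} (hij : i ≠ j) {x : I4 → F}
    (hi : x ∈ D i) (hj : x ∈ D j) : x = 0 := by
  have h := (isCompl hD).disjoint
  rw [Submodule.disjoint_def] at h
  have h3 := fin2_cases i j hij
  rcases h3 with ⟨rfl, rfl⟩ | ⟨rfl, rfl⟩
  · exact h x hi hj
  · exact h x hj hi

/-- a non-zero vector of `D i` pairs to 1 with a vector of `D j` -/
theorem exists_one (hD : IsMDecomposition 2 D)
    (hs : ∀ i, IsTotallySingularFor (sympForm 2 F) (D i)) {i j : Fin 2} (hij : i ≠ j)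
    {v : I4 → F} (hv : v ∈ D i) (h0 : v ≠ 0) : ∃ w ∈ D j, sympForm 2 F v w = 1 := by
  obtain ⟨y, hy⟩ := exists_pair h0
  obtain ⟨a, ha, b, hb, rfl⟩ := exists_add' hD hij y
  rw [sympForm_add_right, hs i v hv a ha, zero_add] at hy
  refine ⟨(sympForm 2 F v b)⁻¹ • b, (D j).smul_mem _ hb, ?_⟩
  rw [sympForm_smul_right, inv_mul_cancel₀ hy]

/-- a vector outside a line of `D j` -/
theorem exists_off (hD : IsMDecomposition 2 D) (j : Fin 2) (w : I4 → F) :
    ∃ y ∈ D j, ∀ c : F, y ≠ c • w := by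
  by_contra h
  push Not at h
  have h1 : D j ≤ Submodule.span F {w} := by
    intro y hy
    obtain ⟨c, hc⟩ := h y hy
    rw [hc]
    exact Submodule.smul_mem _ c (Submodule.mem_span_singleton_self _)
  have h2 := Submodule.finrank_mono h1
  rw [hD.finrank_eq] at h2
  have h3 := finrank_span_le_card (R := F) ({w} : Set (I4 → F))
  simp at h3
  omega

theorem exists_perp (hD : IsMDecomposition 2 D)
    (hs : ∀ i, IsTotallySingularFor (sympForm 2 F) (D i)) {i j : Fin 2} (hij : i ≠ j)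
    {v : I4 → F} (hv : v ∈ D i) : ∃ w ∈ D j, w ≠ 0 ∧ sympForm 2 F v w = 0 := by
  by_cases h0 : v = 0
  · obtain ⟨x, hx, hx0⟩ := exists_ne hD j
    exact ⟨x, hx, hx0, by rw [h0, sympForm_zero_left]⟩
  obtain ⟨w, hw, hvw⟩ := exists_one hD hs hij hv h0
  obtain ⟨y, hy, hyw⟩ := exists_off hD j w
  refine ⟨y - (sympForm 2 F v y) • w, (D j).sub_mem hy ((D j).smul_mem _ hw), ?_, ?_⟩
  · intro h
    exact hyw _ (sub_eq_zero.1 h)
  · rw [sympForm_sub_right, sympForm_smul_right, hvw]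
    ring

/-- two functionals, each non-zero on a subspace, are simultaneously non-zero somewhere -/
theorem exists_both {W : Submodule F (I4 → F)} (p q : (I4 → F) →ₗ[F] F)
    (hp : ∃ a ∈ W, p a ≠ 0) (hq : ∃ a ∈ W, q a ≠ 0) : ∃ a ∈ W, p a ≠ 0 ∧ q a ≠ 0 := by
  obtain ⟨a, ha, hpa⟩ := hp
  obtain ⟨b, hb, hqb⟩ := hq
  by_cases h1 : q a = 0
  · by_cases h2 : p b = 0
    · exact ⟨a + b, W.add_mem ha hb, by rw [map_add, h2, add_zero]; exact hpa,
        by rw [map_add, h1, zero_add]; exact hqb⟩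
    · exact ⟨b, hb, h2, hqb⟩
  · exact ⟨a, ha, hpa, h1⟩

/-- elements given by a linear isometry preserving both summands -/
theorem exists_mem (hD : IsMDecomposition 2 D) (φ : (I4 → F) →ₗ[F] (I4 → F))
    (h : ∀ x y, sympForm 2 F (φ x) (φ y) = sympForm 2 F x y) (hφ : ∀ i, ∀ x ∈ D i, φ x ∈ D i) :
    ∃ g ∈ decompositionStabilizer D ⊓ spGL 2 F, ∀ x, (g : Matrix I4 I4 F) *ᵥ x = φ x := by
  obtain ⟨g, hg, hgx⟩ := exists_sp φ h
  refine ⟨g, ⟨mem_stab_of 1 hD (fun i x hx => ?_), hg⟩, hgx⟩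
  rw [hgx]
  exact hφ i x hx

/-- the diagonal element `λ, λ⁻¹` on `v₀, v₁` -/
theorem exists_diag (hD : IsMDecomposition 2 D)
    (hs : ∀ i, IsTotallySingularFor (sympForm 2 F) (D i)) {i j : Fin 2} (hij : i ≠ j)
    {v w : I4 → F} (hv : v ∈ D i) (hw : w ∈ D j) (h1 : sympForm 2 F v w = 1) {l m : F}
    (hlm : l * m = 1) : ∃ g ∈ decompositionStabilizer D ⊓ spGL 2 F, ∀ x,
      (g : Matrix I4 I4 F) *ᵥ x = two v w ((l - 1) • fr w) ((1 - m) • fr v) x := by
  apply exists_mem hD
  · intro x y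
    simp only [two_apply, LinearMap.smul_apply, fr_apply, smul_eq_mul, sympForm_add_left,
      sympForm_add_right, sympForm_smul_left, sympForm_smul_right, sympForm_self,
      sympForm_swap v y, sympForm_swap w y, sympForm_swap w v, h1]
    linear_combination (sympForm 2 F x v * sympForm 2 F y w -
      sympForm 2 F x w * sympForm 2 F y v) * hlm
  · intro a x hx
    have ha : a = i ∨ a = j := fin2_or i j hij a
    rw [two_apply]
    rcases ha with rfl | rfl
    · rw [LinearMap.smul_apply, LinearMap.smul_apply, fr_apply, fr_apply, hs _ x hx v hv,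
        smul_zero, zero_smul, add_zero]
      exact (D a).add_mem hx ((D a).smul_mem _ hv)
    · rw [LinearMap.smul_apply, LinearMap.smul_apply, fr_apply, fr_apply, hs _ x hx w hw,
        smul_zero, zero_smul, add_zero]
      exact (D a).add_mem hx ((D a).smul_mem _ hw)

theorem exists_l [Fintype F] (h5 : 5 ≤ Fintype.card F) :
    ∃ l m : F, l * m = 1 ∧ l ^ 2 ≠ 1 := by
  classical
  obtain ⟨c, hc0, hc1⟩ : ∃ c : F, c ≠ 0 ∧ c ^ 2 ≠ 1 := by
    by_contra hcon
    push Not at hcon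
    have hsub : (Finset.univ : Finset F) ⊆ {0, 1, -1} := by
      intro c _
      by_cases h : c = 0
      · simp only [h, _root_.Finset.mem_insert, _root_.zero_ne_one, _root_.Finset.mem_singleton, _root_.zero_eq_neg, _root_.one_ne_zero, _root_.or_self, _root_.or_false]
      · have := hcon c h
        rw [sq_eq_one_iff] at this
        rcases this with h | h <;> simp only [h, _root_.Finset.mem_insert, _root_.one_ne_zero, _root_.Finset.mem_singleton, _root_.true_or, _root_.or_true, _root_.neg_eq_zero]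
    have := Finset.card_le_card hsub
    have h3 : ({0, 1, -1} : Finset F).card ≤ 3 := Finset.card_le_three
    rw [Finset.card_univ] at this
    omega
  exact ⟨c, c⁻¹, mul_inv_cancel₀ hc0, hc1⟩

/-! ### `T3 ⊄ T2` -/

theorem T3_T2 [Fintype F] (h5 : 5 ≤ Fintype.card F) (hodd : Odd (Fintype.card F))
    (hD : IsMDecomposition 2 D) (hs : ∀ i, IsTotallySingularFor (sympForm 2 F) (D i))
    {L : Subgroup (GL I4 F)} (hL : T2 L) (hle : decompositionStabilizer D ⊓ spGL 2 F ≤ L) :
    False := by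
  have h2 := two_ne_zero_of_odd hodd
  obtain ⟨z, hzz, hzf, hw0, hw1, hdec, hzL⟩ := exists_invol hL
  obtain ⟨l, m, hlm, hl⟩ := exists_l h5
  -- every vector of `D i` is an eigenvector
  have eig : ∀ i j : Fin 2, i ≠ j → ∀ v ∈ D i, ∃ A : F, z v = A • v := by
    intro i j hij v hv
    by_cases hv0 : v = 0
    · exact ⟨0, by rw [hv0, map_zero, smul_zero]⟩
    obtain ⟨u, hu, hvu⟩ := exists_one hD hs hij hv hv0
    obtain ⟨w, hw, hw0, hvw⟩ := exists_perp hD hs hij hv
    have key : ∀ u ∈ D j, sympForm 2 F v u = 1 → ∃ A : F, z v = A • v +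
        (sympForm 2 F v (z v)) • u := by
      intro u hu hvu
      obtain ⟨g, hg, hgx⟩ := exists_diag hD hs hij hv hu hvu hlm
      have e := hzL g (hle hg) v
      simp only [hgx] at e
      have e1 : two v u ((l - 1) • fr u) ((1 - m) • fr v) v = l • v := by
        rw [two_apply, LinearMap.smul_apply, LinearMap.smul_apply, fr_apply, fr_apply, hvu,
          sympForm_self]
        simp only [smul_eq_mul, mul_one, mul_zero, zero_smul, add_zero]
        module
      obtain ⟨P, R, hPR⟩ := two_two v u ((l - 1) • fr u) ((1 - m) • fr v) (z v)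
      rw [hPR, e1, map_smul, e1, map_smul, map_smul] at e
      have hne : l ^ 2 - 1 ≠ 0 := sub_ne_zero.2 hl
      have e2 : (l ^ 2 - 1) • z v = P • v + R • u := by
        linear_combination (norm := module) e
      have e3 : z v = ((l ^ 2 - 1)⁻¹ * P) • v + ((l ^ 2 - 1)⁻¹ * R) • u := by
        have := congrArg (fun y => (l ^ 2 - 1)⁻¹ • y) e2
        simp only [smul_smul, inv_mul_cancel₀ hne, one_smul, smul_add] at this
        exact this
      have e4 : sympForm 2 F v (z v) = (l ^ 2 - 1)⁻¹ * R := by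
        rw [e3, sympForm_add_right, sympForm_smul_right, sympForm_smul_right, sympForm_self, hvu]
        ring
      refine ⟨(l ^ 2 - 1)⁻¹ * P, ?_⟩
      rw [e4]
      exact e3
    obtain ⟨A, hA⟩ := key u hu hvu
    obtain ⟨A', hA'⟩ := key (u + w) ((D j).add_mem hu hw) (by rw [sympForm_add_right, hvu, hvw,
      add_zero])
    have e1 : (A - A') • v = (sympForm 2 F v (z v)) • w := by
      linear_combination (norm := module) hA' - hA
    have e2 : (sympForm 2 F v (z v)) • w = 0 := by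
      apply inter hD hij _ ((D j).smul_mem _ hw)
      rw [← e1]
      exact (D i).smul_mem _ hv
    have e3 := (smul_eq_zero.1 e2).resolve_right hw0
    rw [e3, zero_smul, add_zero] at hA
    exact ⟨A, hA⟩
  -- the operator `k`
  let k : (I4 → F) →ₗ[F] (I4 → F) := LinearMap.ofIsCompl (isCompl hD) (D 0).subtype
    (-(D 1).subtype)
  have hk : ∀ a ∈ D 0, ∀ b ∈ D 1, k (a + b) = a - b := by
    intro a ha b hb
    have h0 : k a = a := LinearMap.ofIsCompl_apply_left (isCompl hD) (⟨a, ha⟩ : D 0)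
    have h1 : k b = -b := LinearMap.ofIsCompl_apply_right (isCompl hD) (⟨b, hb⟩ : D 1)
    rw [map_add, h0, h1, sub_eq_add_neg]
  have hQ : ∀ a ∈ D 0, ∀ b ∈ D 1, sympForm 2 F (a + b) (k (a + b)) = -(2 * sympForm 2 F a b) := by
    intro a ha b hb
    rw [hk a ha b hb, sympForm_add_left, sympForm_sub_right, sympForm_sub_right, sympForm_self,
      sympForm_self, sympForm_swap b a]
    ring
  have hz : ∀ v, sympForm 2 F v (k v) = 0 := by
    apply quad_zero h5 h2 z k hw0 hw1 hdec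
    intro v hv
    obtain ⟨a, ha, b, hb, rfl⟩ := exists_add hD v
    rw [hQ a ha b hb] at hv
    have hab : sympForm 2 F a b ≠ 0 := by
      intro h
      rw [h] at hv
      simp at hv
    obtain ⟨A, hA⟩ := eig 0 1 (by decide) a ha
    obtain ⟨B, hB⟩ := eig 1 0 (by decide) b hb
    have hAB : A * B = 1 := by
      have := hzf a b
      rw [hA, hB, sympForm_smul_left, sympForm_smul_right] at this
      have h3 : (A * B - 1) * sympForm 2 F a b = 0 := by linear_combination this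
      have := (mul_eq_zero.1 h3).resolve_right hab
      linear_combination this
    have hA2 : A ^ 2 = 1 := by
      have h3 := hzz a
      rw [hA, map_smul, hA, smul_smul] at h3
      have h4 : (A * A - 1) • a = 0 := by rw [sub_smul, h3, one_smul, sub_self]
      have ha0 : a ≠ 0 := by
        rintro rfl
        exact hab (sympForm_zero_left _)
      have := (smul_eq_zero.1 h4).resolve_right ha0
      linear_combination this
    have hBA : B = A := by
      have hA0 : A ≠ 0 := by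
        rintro rfl
        simp at hAB
      apply mul_left_cancel₀ hA0
      rw [hAB, ← pow_two, hA2]
    rw [map_add, hA, hB, hBA, ← smul_add]
    rcases sq_eq_one_iff.1 hA2 with h | h
    · left; rw [h, one_smul]
    · right; rw [h, neg_one_smul]
  obtain ⟨a, ha, ha0⟩ := exists_ne hD 0
  obtain ⟨b, hb, hab⟩ := exists_one hD hs (show (0 : Fin 2) ≠ 1 by decide) ha ha0
  have := hz (a + b)
  rw [hQ a ha b hb, hab, mul_one, neg_eq_zero] at this
  exact h2 this

/-! ### Irreducibility -/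

/-- a basis of `D i` -/
theorem span_two (hD : IsMDecomposition 2 D) {i : Fin 2} {v w : I4 → F} (hv : v ∈ D i)
    (hw : w ∈ D i) (hli : ∀ s t : F, s • v + t • w = 0 → s = 0 ∧ t = 0) :
    ∀ x ∈ D i, ∃ a b : F, x = a • v + b • w := by
  intro x hx
  have hli' : LinearIndependent F ![v, w] := by
    rw [LinearIndependent.pair_iff]
    exact hli
  have h1 : Submodule.span F (Set.range ![v, w]) ≤ D i := by
    rw [Submodule.span_le]
    rintro x ⟨j, rfl⟩
    fin_cases j
    · exact hv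
    · exact hw
  have h2 : Submodule.span F (Set.range ![v, w]) = D i := by
    apply Submodule.eq_of_le_of_finrank_eq h1
    rw [finrank_span_eq_card hli', Fintype.card_fin, hD.finrank_eq]
  rw [← h2, show Set.range ![v, w] = {v, w} by
    simp only [Matrix.range_cons, Matrix.range_empty, Set.union_empty]
    rfl, Submodule.mem_span_pair] at hx
  obtain ⟨α, β, h⟩ := hx
  exact ⟨α, β, h.symm⟩

/-- the swap with `v ↦ w` -/
theorem exists_swap (hD : IsMDecomposition 2 D)
    (hs : ∀ i, IsTotallySingularFor (sympForm 2 F) (D i)) {i j : Fin 2} (hij : i ≠ j)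
    {v : I4 → F} (hv : v ∈ D i) (hv0 : v ≠ 0) :
    ∃ g ∈ decompositionStabilizer D ⊓ spGL 2 F, sympForm 2 F v ((g : Matrix I4 I4 F) *ᵥ v) = 1 := by
  obtain ⟨v1, hv1, h11⟩ := exists_one hD hs hij hv hv0
  obtain ⟨w, hw, hw0, h3⟩ := exists_perp hD hs hij.symm hv1
  obtain ⟨y, hy, hwy⟩ := exists_one hD hs hij hw hw0
  have hwv1 : sympForm 2 F w v1 = 0 := by rw [sympForm_swap, h3, neg_zero]
  set w1 := y - (sympForm 2 F v y) • v1 with hw1def
  have hw1 : w1 ∈ D j := (D j).sub_mem hy ((D j).smul_mem _ hv1)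
  have hvw1 : sympForm 2 F v w1 = 0 := by
    rw [hw1def, sympForm_sub_right, sympForm_smul_right, h11]
    ring
  have hww1 : sympForm 2 F w w1 = 1 := by
    rw [hw1def, sympForm_sub_right, sympForm_smul_right, hwv1, hwy]
    ring
  have hvw : sympForm 2 F v w = 0 := hs i v hv w hw
  have hv1w1 : sympForm 2 F v1 w1 = 0 := hs j v1 hv1 w1 hw1
  have hli1 : ∀ s t : F, s • v + t • w = 0 → s = 0 ∧ t = 0 := by
    intro s t h
    have e1 := congrArg (fun x => sympForm 2 F x v1) h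
    have e2 := congrArg (fun x => sympForm 2 F x w1) h
    simp only [sympForm_add_left, sympForm_smul_left, h11, hwv1, hvw1, hww1,
      sympForm_zero_left, mul_one, mul_zero, add_zero, zero_add] at e1 e2
    exact ⟨e1, e2⟩
  have hli2 : ∀ s t : F, s • v1 + t • w1 = 0 → s = 0 ∧ t = 0 := by
    intro s t h
    have e1 := congrArg (fun x => sympForm 2 F v x) h
    have e2 := congrArg (fun x => sympForm 2 F w x) h
    simp only [sympForm_add_right, sympForm_smul_right, h11, hwv1, hvw1, hww1,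
      sympForm_zero_right, mul_one, mul_zero, add_zero, zero_add] at e1 e2
    exact ⟨e1, e2⟩
  have hexp : ∀ x, x = sympForm 2 F x v1 • v - sympForm 2 F x v • v1 +
      (sympForm 2 F x w1 • w - sympForm 2 F x w • w1) := by
    intro x
    obtain ⟨a, ha, b, hb, rfl⟩ := exists_add' hD hij x
    obtain ⟨a1, a2, rfl⟩ := span_two hD hv hw hli1 a ha
    obtain ⟨b1, b2, rfl⟩ := span_two hD hv1 hw1 hli2 b hb
    simp only [sympForm_add_left, sympForm_smul_left, sympForm_self, h11, hwv1, hvw1, hww1, hvw,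
      hv1w1, sympForm_swap v1 v, sympForm_swap w v, sympForm_swap w1 v1, sympForm_swap w1 w,
      sympForm_swap v1 w, sympForm_swap w1 v]
    module
  let φ : (I4 → F) →ₗ[F] (I4 → F) :=
    (fr v1).smulRight v1 + (fr v).smulRight v + ((fr w1).smulRight w1 + (fr w).smulRight w)
  have hφ : ∀ x, φ x = sympForm 2 F x v1 • v1 + sympForm 2 F x v • v +
      (sympForm 2 F x w1 • w1 + sympForm 2 F x w • w) := fun x => rfl
  obtain ⟨g, hg, hgx⟩ := exists_sp φ (by
    intro x y
    conv_rhs => rw [hexp x]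
    rw [hφ, hφ]
    simp only [sympForm_add_left, sympForm_add_right, sympForm_sub_left, sympForm_smul_left,
      sympForm_smul_right, sympForm_self, h11, hwv1, hvw1, hww1, hvw,
      hv1w1, sympForm_swap v1 v, sympForm_swap w v, sympForm_swap w1 v1, sympForm_swap w1 w,
      sympForm_swap v1 w, sympForm_swap w1 v, sympForm_swap v y, sympForm_swap v1 y,
      sympForm_swap w y, sympForm_swap w1 y]
    ring)
  refine ⟨g, ⟨mem_stab_of (Equiv.swap i j) hD (fun a x hx => ?_), hg⟩, ?_⟩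
  · have ha : a = i ∨ a = j := fin2_or i j hij a
    rw [hgx, hφ]
    rcases ha with rfl | rfl
    · rw [Equiv.swap_apply_left, hs _ x hx v hv, hs _ x hx w hw, zero_smul, zero_smul, add_zero,
        add_zero]
      exact (D j).add_mem ((D j).smul_mem _ hv1) ((D j).smul_mem _ hw1)
    · rw [Equiv.swap_apply_right, hs _ x hx v1 hv1, hs _ x hx w1 hw1, zero_smul, zero_smul,
        zero_add, zero_add]
      exact (D i).add_mem ((D i).smul_mem _ hv) ((D i).smul_mem _ hw)
  · rw [hgx, hφ]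
    simp only [sympForm_add_right, sympForm_smul_right, sympForm_self, h11, hvw1, hvw]
    ring

theorem three_irr [Fintype F] (h5 : 5 ≤ Fintype.card F)
    (hD : IsMDecomposition 2 D) (hs : ∀ i, IsTotallySingularFor (sympForm 2 F) (D i))
    {L : Subgroup (GL I4 F)} (hL : T1 L) (hle : decompositionStabilizer D ⊓ spGL 2 F ≤ L) :
    False := by
  obtain ⟨W, hW, hts, rfl⟩ := hL
  obtain ⟨w, hw, hw0⟩ := Submodule.exists_mem_ne_zero_of_ne_bot hW
  obtain ⟨l, m, hlm, hl⟩ := exists_l h5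
  have swap : ∀ i j : Fin 2, i ≠ j → w ∉ D i := by
    intro i j hij hwi
    obtain ⟨g, hg, hgw⟩ := exists_swap hD hs hij hwi hw0
    have h1 : (g : Matrix I4 I4 F) *ᵥ w ∈ W := ((hle hg).1 w).1 hw
    rw [hts w hw _ h1] at hgw
    exact zero_ne_one hgw
  obtain ⟨a, ha, b, hb, hab⟩ := exists_add hD w
  have ha0 : a ≠ 0 := by
    rintro rfl
    apply swap 1 0 (by decide)
    rw [hab, zero_add]
    exact hb
  have hb0 : b ≠ 0 := by
    rintro rfl
    apply swap 0 1 (by decide)
    rw [hab, add_zero]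
    exact ha
  -- choose `v ∈ D 0`, `u ∈ D 1`
  obtain ⟨u, hu, hau⟩ := exists_one hD hs (show (0 : Fin 2) ≠ 1 by decide) ha ha0
  have hu0 : u ≠ 0 := by
    rintro rfl
    rw [sympForm_zero_right] at hau
    exact zero_ne_one hau
  obtain ⟨v1, hv1, hbv⟩ := exists_one hD hs (show (1 : Fin 2) ≠ 0 by decide) hb hb0
  obtain ⟨v, hv, hv2, hv3⟩ := exists_both (W := D 0) (fr b) (fr u)
    ⟨v1, hv1, by rw [fr_apply, sympForm_swap, hbv]; exact neg_ne_zero.2 one_ne_zero⟩
    ⟨a, ha, by rw [fr_apply, hau]; exact one_ne_zero⟩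
  rw [fr_apply] at hv2 hv3
  set c := sympForm 2 F v u with hc
  have hcu : c⁻¹ • u ∈ D 1 := (D 1).smul_mem _ hu
  have h1 : sympForm 2 F v (c⁻¹ • u) = 1 := by
    rw [sympForm_smul_right, ← hc, inv_mul_cancel₀ hv3]
  obtain ⟨g, hg, hgx⟩ := exists_diag hD hs (show (0 : Fin 2) ≠ 1 by decide) hv hcu h1 hlm
  have h3 : (g : Matrix I4 I4 F) *ᵥ w ∈ W := ((hle hg).1 w).1 hw
  have h4 := hts _ h3 _ hw
  rw [hgx, two_apply, LinearMap.smul_apply, LinearMap.smul_apply, fr_apply, fr_apply, hab] at h4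
  simp only [sympForm_add_left, sympForm_add_right, sympForm_smul_left, sympForm_smul_right,
    smul_eq_mul, sympForm_self, hs 0 a ha v hv, hs 0 v hv a ha, hs 1 u hu b hb, hs 1 b hb u hu,
    hau, sympForm_swap u a, sympForm_swap b a, sympForm_swap b v] at h4
  have h5' : c⁻¹ * sympForm 2 F v b * (l - m) = 0 := by
    linear_combination h4
  have hlm' : l - m ≠ 0 := by
    intro h
    apply hl
    have : m = l := by linear_combination -h
    rw [this] at hlm
    rw [pow_two, hlm]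
  exact mul_ne_zero (mul_ne_zero (inv_ne_zero hv3) hv2) hlm' h5'

theorem two_irr {M L : Subgroup (GL I4 F)} (hM : T2 M) (hL : T1 L) (hML : M ≤ L) : False := by
  obtain ⟨W, hW, hts, rfl⟩ := hL
  obtain ⟨w, hw, hw0⟩ := Submodule.exists_mem_ne_zero_of_ne_bot hW
  obtain ⟨E, hE, rfl⟩ := hM
  have key : ∀ i, ∀ v ∈ E i, sympForm 2 F w v = 0 := by
    intro i v hv
    obtain ⟨g, hg, hgx⟩ := exists_mem hE.decomp (two v v (fr v) 0) (by
      intro x y
      simp only [two_apply, fr_apply, LinearMap.zero_apply, sympForm_add_left,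
        sympForm_add_right, sympForm_smul_left, sympForm_smul_right, sympForm_self,
        sympForm_swap v y]
      ring) (by
      intro a x hx
      rw [two_apply, LinearMap.zero_apply, zero_smul, add_zero, fr_apply]
      by_cases hai : a = i
      · subst hai
        exact (E a).add_mem hx ((E a).smul_mem _ hv)
      · rw [hE.orthogonal a i hai x hx v hv, zero_smul, add_zero]
        exact hx)
    have h3 : (g : Matrix I4 I4 F) *ᵥ w ∈ W := ((hML hg).1 w).1 hw
    have h4 := hts _ h3 _ hw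
    rw [hgx, two_apply, LinearMap.zero_apply, zero_smul, add_zero, fr_apply, sympForm_add_left,
      sympForm_self, sympForm_smul_left, sympForm_swap v w, zero_add, mul_neg, neg_eq_zero,
      mul_self_eq_zero] at h4
    exact h4
  apply hw0
  apply eq_zero_of_forall_sympForm_right
  intro x
  obtain ⟨a, ha, b, hb, rfl⟩ := exists_add hE.decomp x
  rw [sympForm_add_right, key 0 a ha, key 1 b hb, add_zero]

theorem irr_T2 [Fintype F] (h2 : (2 : F) ≠ 0) {M L : Subgroup (GL I4 F)}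
    (hM : T2 M ∨ T3 M ∨ T4 M ∨ T5 M) (hL : T1 L) (hML : M ≤ L) : False := by
  rcases hM with hM | hM | hM | hM
  · exact two_irr hM hL hML
  · obtain ⟨h5, D, hD, hs, rfl⟩ := hM
    exact three_irr h5 hD hs hL hML
  · obtain ⟨K, hK, hsa, -, rfl⟩ := hM
    obtain ⟨k, d, hkk, hs, hd0, hg⟩ := four_data h2 hK hsa
    exact four_irr h2 hkk hs hd0 hg hML hL
  · obtain ⟨h5, K, hK, hac, hns, rfl⟩ := hM
    obtain ⟨k, d, hkk, hs, hd0, hd, ⟨x, hx⟩, hg⟩ := five_data h2 hK hac hns
    exact hx (five_irr h5 h2 hkk hs hd0 hd hg hML hL x)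

end Cfsg.Agent.H64.Sp4Three
end

private theorem dce_db4b8b7489f2 : _root_.True := by
  try have : _root_.True := by simp only [_root_.Cfsg.Agent.H64.Sp4Core.refl.eq_1]
  exact _root_.True.intro
end

-- part: H909/Sp4GeomB
section
prune_inst 0x4000000000000000000000000000000000000400800000202000200000000000040000000000000000000010020004400004000000000000400000500000080000000000000000000000000000000000000000000000000000000010000000000000
set_option linter.all false
open scoped Cfsg.Agent.FastGrp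

-- part: H909/Sp4Arith
section
/-!
# Arithmetic for the maximal subgroups of `Sp₄(q)`, `q` odd (helper909)
-/

set_option autoImplicit false

namespace Cfsg.Agent.H909.Sp4Arith

/-- `|T2|` -/
def a2 (q : ℕ) : ℕ := 2 * (q * (q ^ 2 - 1)) ^ 2
/-- `|T3|` -/
def a3 (q : ℕ) : ℕ := 2 * (q * (q - 1) * (q ^ 2 - 1))
/-- `|T4|` -/
def a4 (q : ℕ) : ℕ := 2 * (q ^ 2 * (q ^ 4 - 1))
/-- `|T5|` -/
def a5 (q : ℕ) : ℕ := 2 * (q * (q + 1) * (q ^ 2 - 1))
/-- a bound for `|T6|` -/
def a6 (q : ℕ) : ℕ := 2 * (q ^ 4 * (q ^ 2 - 1) * (q ^ 4 - 1))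
/-- a bound for the residual type `L_2(q)` -/
def a8 (f q : ℕ) : ℕ := 2 * f * (q * (q ^ 2 - 1))
/-- `|Sp₄(q)|` -/
def aS (q : ℕ) : ℕ := q ^ 4 * ((q ^ 2 - 1) * (q ^ 4 - 1))

theorem sub2 (k : ℕ) : (k + 3) ^ 2 - 1 = (k + 2) * (k + 4) := by
  rw [show (k + 3) ^ 2 = (k + 2) * (k + 4) + 1 by ring, Nat.add_sub_cancel]

theorem sub4 (k : ℕ) : (k + 3) ^ 4 - 1 = (k + 2) * (k + 4) * ((k + 3) ^ 2 + 1) := by
  rw [show (k + 3) ^ 4 = (k + 2) * (k + 4) * ((k + 3) ^ 2 + 1) + 1 by ring, Nat.add_sub_cancel]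

theorem sub1 (k : ℕ) : k + 3 - 1 = k + 2 := by omega

variable {q : ℕ}

theorem pos_sub2 (hq : 2 ≤ q) : 0 < q ^ 2 - 1 := by
  have : 2 ^ 2 ≤ q ^ 2 := Nat.pow_le_pow_left hq 2
  omega

theorem pos_sub4 (hq : 2 ≤ q) : 0 < q ^ 4 - 1 := by
  have : 2 ^ 4 ≤ q ^ 4 := Nat.pow_le_pow_left hq 4
  omega

/-- proper -/
theorem lt_a2 (hq : 3 ≤ q) : a2 q < aS q := by
  obtain ⟨k, rfl⟩ := Nat.exists_eq_add_of_le' hq
  rw [a2, aS, sub2, sub4]
  have h : (0 : ℕ) ≤ k := Nat.zero_le k
  have h1 : 2 * ((k + 3) * ((k + 2) * (k + 4))) ^ 2 =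
    ((k + 3) ^ 2 * ((k + 2) * (k + 4)) ^ 2) * 2 := by ring
  have h2 : (k + 3) ^ 4 * ((k + 2) * (k + 4) * ((k + 2) * (k + 4) * ((k + 3) ^ 2 + 1))) =
    ((k + 3) ^ 2 * ((k + 2) * (k + 4)) ^ 2) * ((k + 3) ^ 2 * ((k + 3) ^ 2 + 1)) := by ring
  rw [h1, h2]
  apply Nat.mul_lt_mul_of_pos_left
  · nlinarith only [pow_nonneg h 4, _root_.sq_nonneg ((↑k + 2) * (↑k + 4) : ℤ), _root_.Nat.cast_nonneg (α := ℤ) (k), _root_.sq_nonneg (↑k + 3 : ℤ)]
  · (clear * -; positivity)

theorem lt_a3 (hq : 3 ≤ q) : a3 q < a2 q := by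
  obtain ⟨k, rfl⟩ := Nat.exists_eq_add_of_le' hq
  rw [a2, a3, sub2, sub1]
  have h : (0 : ℕ) ≤ k := Nat.zero_le k
  linarith only [pow_nonneg h 3, pow_nonneg h 4, pow_nonneg h 5, pow_nonneg h 6, _root_.sq_nonneg (↑k : ℤ), _root_.Nat.cast_nonneg (α := ℤ) (k)]

theorem lt_a5 (hq : 3 ≤ q) : a5 q < a2 q := by
  obtain ⟨k, rfl⟩ := Nat.exists_eq_add_of_le' hq
  rw [a2, a5, sub2]
  have h : (0 : ℕ) ≤ k := Nat.zero_le k
  linarith only [pow_nonneg h 3, pow_nonneg h 4, pow_nonneg h 5, pow_nonneg h 6, _root_.sq_nonneg (↑k : ℤ), _root_.Nat.cast_nonneg (α := ℤ) (k)]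

theorem lt_a24 (hq : 3 ≤ q) : a2 q < a4 q := by
  obtain ⟨k, rfl⟩ := Nat.exists_eq_add_of_le' hq
  rw [a2, a4, sub2, sub4]
  have h : (0 : ℕ) ≤ k := Nat.zero_le k
  linarith only [pow_nonneg h 3, pow_nonneg h 4, _root_.sq_nonneg (↑k : ℤ), _root_.Nat.cast_nonneg (α := ℤ) (k)]

theorem lt_a4S (hq : 3 ≤ q) : a4 q < aS q := by
  have h1 := pos_sub4 (q := q) (by omega)
  have h2 : 3 ^ 2 ≤ q ^ 2 := Nat.pow_le_pow_left hq 2
  have h3 : 1 ≤ q ^ 2 - 1 := by omega
  rw [a4, aS]
  have h4 : q ^ 4 * ((q ^ 2 - 1) * (q ^ 4 - 1)) = q ^ 2 * (q ^ 4 - 1) * (q ^ 2 * (q ^ 2 - 1)) := by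
    ring
  have h5 : 2 * (q ^ 2 * (q ^ 4 - 1)) = q ^ 2 * (q ^ 4 - 1) * 2 := by ring
  rw [h4, h5]
  apply Nat.mul_lt_mul_of_pos_left
  · nlinarith only [h2, h3]
  · positivity

theorem lt_a53 (hq : 3 ≤ q) : a3 q < a5 q := by
  obtain ⟨k, rfl⟩ := Nat.exists_eq_add_of_le' hq
  rw [a3, a5, sub2, sub1]
  have h : (0 : ℕ) ≤ k := Nat.zero_le k
  linarith only [pow_nonneg h 3, _root_.sq_nonneg (↑k : ℤ), _root_.Nat.cast_nonneg (α := ℤ) (k)]

/-- subfield groups are smaller -/
theorem lt_a6 {q₀ : ℕ} (h0 : 2 ≤ q₀) (h : q₀ ^ 2 ≤ q) : a6 q₀ < a2 q := by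
  have h1 : q₀ ^ 4 ≤ q ^ 2 := by
    calc q₀ ^ 4 = (q₀ ^ 2) ^ 2 := by ring
      _ ≤ q ^ 2 := Nat.pow_le_pow_left h 2
  have h2 : q₀ ^ 4 - 1 ≤ q ^ 2 - 1 := Nat.sub_le_sub_right h1 1
  have h3 : 2 ^ 2 ≤ q₀ ^ 2 := Nat.pow_le_pow_left h0 2
  have h4 : q₀ ^ 2 < q₀ ^ 4 := by nlinarith only [h3]
  have h5 : q₀ ^ 2 - 1 < q₀ ^ 4 - 1 := by omega
  have h6 : 0 < q₀ ^ 4 - 1 := by omega
  rw [a6, a2]
  have h7 : 2 * (q * (q ^ 2 - 1)) ^ 2 = 2 * (q ^ 2 * (q ^ 2 - 1) * (q ^ 2 - 1)) := by ring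
  rw [h7]
  apply Nat.mul_lt_mul_of_pos_left _ (by norm_num)
  calc q₀ ^ 4 * (q₀ ^ 2 - 1) * (q₀ ^ 4 - 1) < q₀ ^ 4 * (q₀ ^ 4 - 1) * (q₀ ^ 4 - 1) := by
        apply Nat.mul_lt_mul_of_pos_right _ h6
        exact Nat.mul_lt_mul_of_pos_left h5 (by omega)
    _ ≤ q ^ 2 * (q ^ 2 - 1) * (q ^ 2 - 1) :=
        Nat.mul_le_mul (Nat.mul_le_mul h1 h2) h2

/-- the residual type `L₂(q)` is smaller -/
theorem lt_a8 {f : ℕ} (hq : 3 ≤ q) (hf : f < q) : a8 f q < a2 q := by
  rw [a8, a2]
  have h1 := pos_sub2 (q := q) (by omega)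
  have h2 : 2 * (q * (q ^ 2 - 1)) ^ 2 = 2 * (q * (q ^ 2 - 1)) * (q * (q ^ 2 - 1)) := by ring
  have h3 : 2 * f * (q * (q ^ 2 - 1)) = 2 * (q * (q ^ 2 - 1)) * f := by ring
  rw [h2, h3]
  apply Nat.mul_lt_mul_of_pos_left
  · nlinarith only [hf, h1]
  · positivity

/-! ### divisibility -/

theorem not_dvd_34 (hq : 5 ≤ q) : ¬ a3 q ∣ a4 q := by
  obtain ⟨k, rfl⟩ := Nat.exists_eq_add_of_le' (show 3 ≤ q by omega)
  rw [a3, a4, sub2, sub4, sub1]
  intro h
  have h1 : 2 * ((k + 3) ^ 2 * ((k + 2) * (k + 4) * ((k + 3) ^ 2 + 1))) =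
    2 * (k + 3) * ((k + 2) * (k + 4)) * ((k + 3) * ((k + 3) ^ 2 + 1)) := by ring
  have h2 : 2 * ((k + 3) * (k + 2) * ((k + 2) * (k + 4))) =
    2 * (k + 3) * ((k + 2) * (k + 4)) * (k + 2) := by ring
  rw [h1, h2] at h
  have h3 := Nat.dvd_of_mul_dvd_mul_left (by (clear * -; positivity)) h
  have h4 : (k + 3) * ((k + 3) ^ 2 + 1) = (k + 2) * ((k + 3) ^ 2 + (k + 3) + 2) + 2 := by ring
  rw [h4] at h3
  have h5 := (Nat.dvd_add_right (Nat.dvd_mul_right (k + 2) _)).1 h3
  have h6 := Nat.le_of_dvd (by norm_num) h5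
  omega

theorem not_dvd_35 (hq : 5 ≤ q) : ¬ a3 q ∣ a5 q := by
  obtain ⟨k, rfl⟩ := Nat.exists_eq_add_of_le' (show 3 ≤ q by omega)
  rw [a3, a5, sub2, sub1]
  intro h
  have h1 : 2 * ((k + 3) * (k + 3 + 1) * ((k + 2) * (k + 4))) =
    2 * (k + 3) * ((k + 2) * (k + 4)) * (k + 2 + 2) := by ring
  have h2 : 2 * ((k + 3) * (k + 2) * ((k + 2) * (k + 4))) =
    2 * (k + 3) * ((k + 2) * (k + 4)) * (k + 2) := by ring
  rw [h1, h2] at h
  have h3 := Nat.dvd_of_mul_dvd_mul_left (by (clear * -; positivity)) h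
  have h5 := (Nat.dvd_add_right (dvd_refl (k + 2))).1 h3
  have h6 := Nat.le_of_dvd (by norm_num) h5
  omega

theorem not_dvd_38 {f : ℕ} (hq : 3 ≤ q) (hf0 : 0 < f) (hf : f + 1 < q) : ¬ a3 q ∣ a8 f q := by
  obtain ⟨k, rfl⟩ := Nat.exists_eq_add_of_le' hq
  rw [a3, a8, sub2, sub1]
  intro h
  have h1 : 2 * f * ((k + 3) * ((k + 2) * (k + 4))) =
    2 * (k + 3) * ((k + 2) * (k + 4)) * f := by ring
  have h2 : 2 * ((k + 3) * (k + 2) * ((k + 2) * (k + 4))) =
    2 * (k + 3) * ((k + 2) * (k + 4)) * (k + 2) := by ring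
  rw [h1, h2] at h
  have h3 := Nat.dvd_of_mul_dvd_mul_left (by positivity) h
  have h6 := Nat.le_of_dvd hf0 h3
  omega

theorem not_dvd_54 (hq : 3 ≤ q) : ¬ a5 q ∣ a4 q := by
  obtain ⟨k, rfl⟩ := Nat.exists_eq_add_of_le' hq
  rw [a5, a4, sub2, sub4]
  intro h
  have h1 : 2 * ((k + 3) ^ 2 * ((k + 2) * (k + 4) * ((k + 3) ^ 2 + 1))) =
    2 * (k + 3) * ((k + 2) * (k + 4)) * ((k + 3) * ((k + 3) ^ 2 + 1)) := by ring
  have h2 : 2 * ((k + 3) * (k + 3 + 1) * ((k + 2) * (k + 4))) =
    2 * (k + 3) * ((k + 2) * (k + 4)) * (k + 4) := by ring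
  rw [h1, h2] at h
  have h3 := Nat.dvd_of_mul_dvd_mul_left (by (clear * -; positivity)) h
  have h4 : (k + 3) * ((k + 3) ^ 2 + 1) + 2 = (k + 4) * ((k + 3) * (k + 2) + 2) := by ring
  have h5 : (k + 4) ∣ (k + 3) * ((k + 3) ^ 2 + 1) + 2 := by rw [h4]; exact Nat.dvd_mul_right _ _
  have h6 := (Nat.dvd_add_right h3).1 h5
  have h7 := Nat.le_of_dvd (by norm_num) h6
  omega

theorem not_dvd_58 {f : ℕ} (hq : 3 ≤ q) (hf0 : 0 < f) (hf : f + 1 < q) : ¬ a5 q ∣ a8 f q := by
  obtain ⟨k, rfl⟩ := Nat.exists_eq_add_of_le' hq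
  rw [a5, a8, sub2]
  intro h
  have h1 : 2 * f * ((k + 3) * ((k + 2) * (k + 4))) =
    2 * (k + 3) * ((k + 2) * (k + 4)) * f := by ring
  have h2 : 2 * ((k + 3) * (k + 3 + 1) * ((k + 2) * (k + 4))) =
    2 * (k + 3) * ((k + 2) * (k + 4)) * (k + 4) := by ring
  rw [h1, h2] at h
  have h3 := Nat.dvd_of_mul_dvd_mul_left (by positivity) h
  have h6 := Nat.le_of_dvd hf0 h3
  omega

theorem dvd_a2 (q : ℕ) : q ^ 2 ∣ a2 q := by
  rw [a2, mul_pow]; exact Dvd.dvd.mul_left (Nat.dvd_mul_right _ _) 2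

theorem dvd_a4 (q : ℕ) : q ^ 2 ∣ a4 q := by
  rw [a4]; exact Dvd.dvd.mul_left (Nat.dvd_mul_right _ _) 2

theorem dvd_a3 (q : ℕ) : q ∣ a3 q := by
  rw [a3, mul_assoc]; exact Dvd.dvd.mul_left (Nat.dvd_mul_right _ _) 2

theorem dvd_a5 (q : ℕ) : q ∣ a5 q := by
  rw [a5, mul_assoc]; exact Dvd.dvd.mul_left (Nat.dvd_mul_right _ _) 2

theorem lt_pow_self {p f : ℕ} (hp : 5 ≤ p) (hf : 0 < f) : f + 1 < p ^ f := by
  have h1 : 5 ^ f ≤ p ^ f := Nat.pow_le_pow_left hp f
  refine lt_of_lt_of_le ?_ h1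
  clear h1
  induction f with
  | zero => omega
  | succ n ih =>
    rcases Nat.eq_zero_or_pos n with rfl | h
    · norm_num
    · have := ih h
      rw [pow_succ]; omega

/-- no odd prime square divides 3840 -/
theorem no_sq_3840 {p : ℕ} (hp : p.Prime) (h2 : p ≠ 2) : ¬ p ^ 2 ∣ 3840 := by
  intro h
  have h1 : p ∣ 3840 := (Dvd.intro_left (p ^ 1) (by ring)).trans h
  rw [show 3840 = 2 ^ 8 * (3 * 5) by norm_num] at h1
  rcases (Nat.Prime.dvd_mul hp).1 h1 with h3 | h3
  · exact h2 ((Nat.prime_dvd_prime_iff_eq hp Nat.prime_two).1 (hp.dvd_of_dvd_pow h3))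
  · rcases (Nat.Prime.dvd_mul hp).1 h3 with h4 | h4
    · rw [(Nat.prime_dvd_prime_iff_eq hp Nat.prime_three).1 h4] at h
      revert h; decide
    · rw [(Nat.prime_dvd_prime_iff_eq hp Nat.prime_five).1 h4] at h
      revert h; decide

theorem five_of_3840 {p : ℕ} (hp : p.Prime) (h5 : 5 ≤ p) (h : p ∣ 3840) : p = 5 := by
  rw [show 3840 = 2 ^ 8 * (3 * 5) by norm_num] at h
  rcases (Nat.Prime.dvd_mul hp).1 h with h3 | h3
  · have := (Nat.prime_dvd_prime_iff_eq hp Nat.prime_two).1 (hp.dvd_of_dvd_pow h3)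
    omega
  · rcases (Nat.Prime.dvd_mul hp).1 h3 with h4 | h4
    · have := (Nat.prime_dvd_prime_iff_eq hp Nat.prime_three).1 h4
      omega
    · exact (Nat.prime_dvd_prime_iff_eq hp Nat.prime_five).1 h4

theorem five_of_2880 {p : ℕ} (hp : p.Prime) (h5 : 5 ≤ p) (h : p ∣ 2880) : p = 5 := by
  rw [show 2880 = 2 ^ 6 * (3 ^ 2 * 5) by norm_num] at h
  rcases (Nat.Prime.dvd_mul hp).1 h with h3 | h3
  · have := (Nat.prime_dvd_prime_iff_eq hp Nat.prime_two).1 (hp.dvd_of_dvd_pow h3)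
    omega
  · rcases (Nat.Prime.dvd_mul hp).1 h3 with h4 | h4
    · have := (Nat.prime_dvd_prime_iff_eq hp Nat.prime_three).1 (hp.dvd_of_dvd_pow h4)
      omega
    · exact (Nat.prime_dvd_prime_iff_eq hp Nat.prime_five).1 h4

theorem a3_five : a3 5 = 960 := by norm_num [a3]
theorem a5_five : a5 5 = 1440 := by norm_num [a5]
theorem a3_seven : a3 7 = 4032 := by norm_num [a3]
theorem a5_seven : a5 7 = 5376 := by norm_num [a5]

end Cfsg.Agent.H909.Sp4Arith
end

-- part: H930/SpOrdD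
section
/-!
# The order of `(Sp₂(q) × Sp₂(q)).2 < Sp₄(q)`
-/

set_option autoImplicit false
set_option linter.unusedSectionVars false

namespace Cfsg.Agent.H930.SpOrd

open Module Matrix Cfsg Cfsg.Geo
open scoped MatrixGroups Matrix
open Cfsg.Agent.ClassicalGeometry.SympBasic

theorem exists_GL_of_injective {ι : Type*} [Fintype ι] [DecidableEq ι] {F : Type*} [Field F]
    (L : (ι → F) →ₗ[F] (ι → F)) (hL : Function.Injective L) :
    ∃ g : GL ι F, ∀ v, (g : Matrix ι ι F) *ᵥ v = L v := by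
  have hM : IsUnit (LinearMap.toMatrix' L) := by
    rw [LinearMap.isUnit_toMatrix'_iff, LinearMap.isUnit_iff_ker_eq_bot, LinearMap.ker_eq_bot]
    exact hL
  obtain ⟨g, hg⟩ := hM
  exact ⟨g, fun v => by rw [hg, LinearMap.toMatrix'_mulVec]⟩

variable {F : Type*} [Field F] [Fintype F]

/-- A hyperbolic pair of a non-degenerate plane. -/
theorem exists_pair {W : Submodule F (I4 → F)} (hW : finrank F W = 2)
    (hnd : IsNondegenerateOn (sympForm 2 F) W) :
    ∃ γ : (Fin 2 → F) →ₗ[F] (I4 → F), Function.Injective γ ∧ LinearMap.range γ = W ∧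
      ∀ x y, sympForm 2 F (γ x) (γ y) = dt x y := by
  obtain ⟨u, hu, hu0⟩ : ∃ u ∈ W, u ≠ 0 := by
    have : W ≠ ⊥ := by
      rintro rfl
      rw [finrank_bot] at hW
      omega
    exact (Submodule.ne_bot_iff W).1 this
  obtain ⟨w', hw', hfw⟩ := (hnd u hu hu0).2
  set w := (sympForm 2 F u w')⁻¹ • w' with hw
  have huw : sympForm 2 F u w = 1 := by
    rw [hw, sympForm_smul_right, inv_mul_cancel₀ hfw]
  have hwu : sympForm 2 F w u = -1 := by
    rw [sympForm_swap, huw]
  have hwW : w ∈ W := W.smul_mem _ hw'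
  let γ : (Fin 2 → F) →ₗ[F] (I4 → F) :=
    { toFun := fun x => x 0 • u + x 1 • w
      map_add' := fun x y => by
        simp only [Pi.add_apply, add_smul]
        abel
      map_smul' := fun c x => by
        simp only [Pi.smul_apply, smul_eq_mul, mul_smul, RingHom.id_apply, smul_add] }
  have hγ : ∀ x, γ x = x 0 • u + x 1 • w := fun _ => rfl
  have hf : ∀ x y, sympForm 2 F (γ x) (γ y) = dt x y := by
    intro x y
    rw [hγ, hγ]
    simp only [sympForm_add_left, sympForm_add_right, sympForm_smul_left, sympForm_smul_right, sympForm_self,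
      huw, hwu]
    unfold dt
    ring
  have hinj : Function.Injective γ := by
    rw [← LinearMap.ker_eq_bot, LinearMap.ker_eq_bot']
    intro x hx
    have h1 := hf x ![0, 1]
    have h2 := hf x ![1, 0]
    rw [hx, sympForm_zero_left] at h1 h2
    unfold dt at h1 h2
    simp at h1 h2
    ext i
    fin_cases i
    · exact h1.symm
    · exact h2
  refine ⟨γ, hinj, ?_, hf⟩
  apply Submodule.eq_of_le_of_finrank_eq
  · rintro _ ⟨x, rfl⟩
    rw [hγ]
    exact W.add_mem (W.smul_mem _ hu) (W.smul_mem _ hwW)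
  · rw [LinearMap.finrank_range_of_inj hinj, hW, finrank_fin_fun]

/-- **The order of `(Sp₂(q) × Sp₂(q)).2`.** -/
theorem card_T2 {D : Fin 2 → Submodule F (I4 → F)}
    (hD : IsNondegenerateMDecomposition (sympForm 2 F) 2 D) :
    Nat.card ↥(decompositionStabilizer D ⊓ spGL 2 F) = 2 * (Nat.card F * (Nat.card F ^ 2 - 1)) ^ 2 := by
  classical
  choose γ hγinj hγr hγf using fun i => exists_pair (hD.decomp.finrank_eq i) (hD.nondegenerate i)
  have hγmem : ∀ i x, γ i x ∈ D i := fun i x => by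
    rw [← hγr i]; exact ⟨x, rfl⟩
  have hγne : ∀ i j, i ≠ j → ∀ x y, sympForm 2 F (γ i x) (γ j y) = 0 := fun i j hij x y =>
    hD.orthogonal i j hij _ (hγmem i x) _ (hγmem j y)
  have hDinj : Function.Injective D := by
    intro i j hij
    by_contra hne
    have h1 := hD.orthogonal i j hne
    rw [← hij] at h1
    have h2 := h1 _ (hγmem i ![1, 0]) _ (hγmem i ![0, 1])
    rw [hγf] at h2
    unfold dt at h2
    simp at h2
  let β₀ : (Fin 2 → Fin 2 → F) →ₗ[F] (I4 → F) :=
    { toFun := fun X => ∑ i, γ i (X i)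
      map_add' := fun X Y => by
        simp only [Pi.add_apply, map_add, Finset.sum_add_distrib]
      map_smul' := fun c X => by
        simp only [Pi.smul_apply, map_smul, Finset.smul_sum, RingHom.id_apply] }
  have hβ₀ : ∀ X, β₀ X = ∑ i, γ i (X i) := fun _ => rfl
  have hβf : ∀ X Y, sympForm 2 F (β₀ X) (β₀ Y) = ∑ i, dt (X i) (Y i) := by
    intro X Y
    rw [hβ₀, hβ₀, Fin.sum_univ_two, Fin.sum_univ_two, Fin.sum_univ_two]
    simp only [sympForm_add_left, sympForm_add_right, hγf, hγne 0 1 (by decide), hγne 1 0 (by decide),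
      add_zero, zero_add]
  have hβs : ∀ i x, β₀ (Pi.single i x) = γ i x := by
    intro i x
    rw [hβ₀, Finset.sum_eq_single i]
    · rw [Pi.single_eq_same]
    · intro j _ hj
      rw [Pi.single_eq_of_ne hj, map_zero]
    · intro h; exact absurd (Finset.mem_univ i) h
  have hinj : Function.Injective β₀ := by
    rw [← LinearMap.ker_eq_bot, LinearMap.ker_eq_bot']
    intro X hX
    funext i
    have h0 : ∀ z, dt (X i) z = 0 := by
      intro z
      have h1 := hβf X (Pi.single i z)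
      rw [hX, sympForm_zero_left, Finset.sum_eq_single i] at h1
      · rw [Pi.single_eq_same] at h1
        exact h1.symm
      · intro j _ hj
        rw [Pi.single_eq_of_ne hj]
        unfold dt
        simp
      · intro h; exact absurd (Finset.mem_univ i) h
    have h1 := h0 ![0, 1]
    have h2 := h0 ![1, 0]
    unfold dt at h1 h2
    simp at h1 h2
    ext j
    fin_cases j
    · exact h1
    · exact h2
  let β : (Fin 2 → Fin 2 → F) ≃ₗ[F] (I4 → F) := LinearEquiv.ofInjectiveOfFinrankEq β₀ hinj (by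
    rw [Module.finrank_pi_fintype, Fin.sum_univ_two, Module.finrank_fintype_fun_eq_card,
      Module.finrank_fintype_fun_eq_card, card_I4, Fintype.card_fin])
  have hβ : ∀ X, β X = β₀ X := fun _ => rfl
  -- the elements
  have hel : ∀ p : Equiv.Perm (Fin 2) × (Fin 2 → Matrix.SpecialLinearGroup (Fin 2) F),
      ∃ g : ↥(decompositionStabilizer D ⊓ spGL 2 F), ∀ i x,
        ((g : GL I4 F) : Matrix I4 I4 F) *ᵥ γ i x = γ (p.1 i) ((p.2 i : Matrix (Fin 2) (Fin 2) F) *ᵥ x) := by
    rintro ⟨σ, A⟩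
    let T : (Fin 2 → Fin 2 → F) →ₗ[F] (Fin 2 → Fin 2 → F) :=
      { toFun := fun X j => (A (σ.symm j) : Matrix (Fin 2) (Fin 2) F) *ᵥ X (σ.symm j)
        map_add' := fun X Y => by
          funext j
          simp only [Pi.add_apply, mulVec_add]
        map_smul' := fun c X => by
          funext j
          simp only [Pi.smul_apply, mulVec_smul, RingHom.id_apply] }
    have hT : ∀ X j, T X j = (A (σ.symm j) : Matrix (Fin 2) (Fin 2) F) *ᵥ X (σ.symm j) := fun _ _ => rfl
    let L : (I4 → F) →ₗ[F] (I4 → F) := β.toLinearMap ∘ₗ T ∘ₗ β.symm.toLinearMap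
    have hL : ∀ X, L (β X) = β (T X) := by
      intro X
      show β (T (β.symm (β X))) = _
      rw [LinearEquiv.symm_apply_apply]
    have hTf : ∀ X Y, (∑ i, dt (T X i) (T Y i)) = ∑ i, dt (X i) (Y i) := by
      intro X Y
      rw [← Equiv.sum_comp σ.symm (fun i => dt (X i) (Y i))]
      refine Finset.sum_congr rfl fun i _ => ?_
      rw [hT, hT, dt_mulVec, (A (σ.symm i)).2, one_mul]
    have hLf : ∀ v w, sympForm 2 F (L v) (L w) = sympForm 2 F v w := by
      intro v w
      obtain ⟨X, rfl⟩ := β.surjective v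
      obtain ⟨Y, rfl⟩ := β.surjective w
      rw [hL, hL, hβ, hβ, hβf, hTf, hβ, hβ, hβf]
    have hLinj : Function.Injective L := by
      rw [← LinearMap.ker_eq_bot, LinearMap.ker_eq_bot']
      intro v hv
      apply eq_zero_of_forall_sympForm_right
      intro w
      rw [← hLf, hv, sympForm_zero_left]
    obtain ⟨g, hg⟩ := exists_GL_of_injective L hLinj
    have hgγ : ∀ i x, (g : Matrix I4 I4 F) *ᵥ γ i x =
        γ (σ i) ((A i : Matrix (Fin 2) (Fin 2) F) *ᵥ x) := by
      intro i x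
      rw [hg, ← hβs, ← hβ, hL, hβ, ← hβs]
      congr 1
      funext j
      rw [hT]
      rcases eq_or_ne j (σ i) with rfl | hj
      · rw [Equiv.symm_apply_apply, Pi.single_eq_same, Pi.single_eq_same]
      · have hj' : σ.symm j ≠ i := fun h => hj (by rw [← h, Equiv.apply_symm_apply])
        rw [Pi.single_eq_of_ne hj, Pi.single_eq_of_ne hj', mulVec_zero]
    refine ⟨⟨g, ⟨σ, fun i => ?_⟩, ?_⟩, hgγ⟩
    · apply Submodule.eq_of_le_of_finrank_eq
      · rintro _ ⟨v, hv, rfl⟩
        have hv' : v ∈ D i := hv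
        rw [← hγr i] at hv'
        obtain ⟨x, rfl⟩ := hv'
        rw [toLin'_apply, hgγ]
        exact hγmem _ _
      · have h1 : Function.Injective (Matrix.toLin' (g : Matrix I4 I4 F)) := by
          intro v w hvw
          rw [toLin'_apply, toLin'_apply, hg, hg] at hvw
          exact hLinj hvw
        rw [← (Submodule.equivMapOfInjective _ h1 (D i)).finrank_eq, hD.decomp.finrank_eq, hD.decomp.finrank_eq]
    · show ∀ x y, sympForm 2 F ((g : Matrix I4 I4 F) *ᵥ x) ((g : Matrix I4 I4 F) *ᵥ y) = sympForm 2 F x y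
      intro x y
      rw [hg, hg, hLf]
  choose Φ hΦ using hel
  have hbij : Function.Bijective Φ := by
    constructor
    · rintro ⟨σ, A⟩ ⟨τ, B⟩ h
      have h1 : ∀ i x, γ (σ i) ((A i : Matrix (Fin 2) (Fin 2) F) *ᵥ x) =
          γ (τ i) ((B i : Matrix (Fin 2) (Fin 2) F) *ᵥ x) := by
        intro i x
        have h2 := hΦ (σ, A) i x
        have h3 := hΦ (τ, B) i x
        rw [h] at h2
        exact h2.symm.trans h3
      have h2 : σ = τ := by
        ext i : 1
        by_contra hne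
        have h3 : ∀ x y, sympForm 2 F (γ (σ i) ((A i : Matrix (Fin 2) (Fin 2) F) *ᵥ x))
          (γ (σ i) ((A i : Matrix (Fin 2) (Fin 2) F) *ᵥ y)) = 0 := by
          intro x y
          rw [h1 i y]
          exact hγne _ _ hne _ _
        have h4 := h3 ![1, 0] ![0, 1]
        rw [hγf, dt_mulVec, (A i).2, one_mul] at h4
        unfold dt at h4
        simp at h4
      subst h2
      have h3 : A = B := by
        funext i
        apply Subtype.ext
        apply Matrix.mulVec_injective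
        funext x
        exact hγinj _ (h1 i x)
      rw [h3]
    · rintro ⟨g, ⟨σ, hσ⟩, hgS⟩
      have hgf : ∀ x y, sympForm 2 F ((g : Matrix I4 I4 F) *ᵥ x) ((g : Matrix I4 I4 F) *ᵥ y) = sympForm 2 F x y :=
        hgS
      have h1 : ∀ i, ∃ A : Matrix (Fin 2) (Fin 2) F, ∀ x, (g : Matrix I4 I4 F) *ᵥ γ i x = γ (σ i) (A *ᵥ x) := by
        intro i
        have h2 : ∀ x, (g : Matrix I4 I4 F) *ᵥ γ i x ∈ LinearMap.range (γ (σ i)) := by
          intro x
          rw [hγr, ← hσ]
          exact ⟨γ i x, hγmem i x, by rw [toLin'_apply]⟩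
        let e := LinearEquiv.ofInjective (γ (σ i)) (hγinj (σ i))
        let N : (Fin 2 → F) →ₗ[F] (Fin 2 → F) := e.symm.toLinearMap ∘ₗ
          LinearMap.codRestrict (LinearMap.range (γ (σ i))) (Matrix.toLin' (g : Matrix I4 I4 F) ∘ₗ γ i) (fun x => by
            rw [LinearMap.comp_apply, toLin'_apply]
            exact h2 x)
        refine ⟨LinearMap.toMatrix' N, fun x => ?_⟩
        rw [LinearMap.toMatrix'_mulVec]
        have h3 : ((e (N x) : LinearMap.range (γ (σ i))) : I4 → F) = (g : Matrix I4 I4 F) *ᵥ γ i x := by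
          show ((e (e.symm _) : LinearMap.range (γ (σ i))) : I4 → F) = _
          rw [LinearEquiv.apply_symm_apply]
          show Matrix.toLin' (g : Matrix I4 I4 F) (γ i x) = _
          rw [toLin'_apply]
        rw [← h3]
        rfl
      choose A hA using h1
      have hdet : ∀ i, (A i).det = 1 := by
        intro i
        have h2 := hgf (γ i ![1, 0]) (γ i ![0, 1])
        rw [hA, hA, hγf, hγf, dt_mulVec] at h2
        unfold dt at h2
        simpa using h2
      refine ⟨(σ, fun i => ⟨A i, hdet i⟩), ?_⟩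
      apply Subtype.ext
      apply Units.ext
      apply Matrix.mulVec_injective
      funext v
      obtain ⟨X, rfl⟩ := β.surjective v
      rw [hβ, hβ₀, mulVec_sum, mulVec_sum]
      refine Finset.sum_congr rfl fun i _ => ?_
      rw [hΦ, hA]
  rw [← Nat.card_congr (Equiv.ofBijective Φ hbij), Nat.card_prod, Nat.card_eq_fintype_card, Fintype.card_perm,
    Fintype.card_fin, Nat.card_fun, Nat.card_eq_fintype_card (α := Fin 2), Fintype.card_fin,
    card_SL2 (q := Fintype.card F) rfl, Nat.card_eq_fintype_card (α := F)]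
  rfl

end Cfsg.Agent.H930.SpOrd
end

-- part: H930/SpOrd
section
/-!
# Orders of three geometric subgroups of `Sp₄(q)`, `q` odd (task 601)
-/

set_option autoImplicit false

namespace Cfsg.Agent.H930.Sp4Ord

open Cfsg Cfsg.Geo Matrix
open Cfsg.Agent.H909.Sp4List

universe u

variable {F : Type u} [Field F] [Fintype F]

theorem card_T2 (_h2 : (2 : F) ≠ 0) {D : Fin 2 → Submodule F (I4 → F)}
    (hD : IsNondegenerateMDecomposition (sympForm 2 F) 2 D) :
    Nat.card ↥(decompositionStabilizer D ⊓ spGL 2 F) = 2 * (Nat.card F * (Nat.card F ^ 2 - 1)) ^ 2 :=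
  Cfsg.Agent.H930.SpOrd.card_T2 hD

theorem card_T4 (_h2 : (2 : F) ≠ 0) {K : Subalgebra F (Matrix I4 I4 F)} (hK : IsFieldSubalgebra 2 K)
    (hsa : IsSelfAdjointFor (sympForm 2 F) K)
    (hkv : ∀ k ∈ K, ∀ v : I4 → F, (sympForm 2 F) (Matrix.mulVec k v) v = 0) :
    Nat.card ↥(subalgebraNormalizer K ⊓ spGL 2 F) = 2 * (Nat.card F ^ 2 * (Nat.card F ^ 4 - 1)) :=
  Cfsg.Agent.H930.SpOrd.card_T4 hK hsa hkv

theorem card_T5 (h2 : (2 : F) ≠ 0) {K : Subalgebra F (Matrix I4 I4 F)} (hK : IsFieldSubalgebra 2 K)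
    (hac : IsAdjointClosedFor (sympForm 2 F) K) (hns : ¬ IsSelfAdjointFor (sympForm 2 F) K) :
    Nat.card ↥(subalgebraNormalizer K ⊓ spGL 2 F) =
      2 * (Nat.card F * (Nat.card F + 1) * (Nat.card F ^ 2 - 1)) :=
  Cfsg.Agent.H930.SpOrd.card_T5 h2 hK hac hns

end Cfsg.Agent.H930.Sp4Ord
end

-- part: H328/Sp4TI
section
/-!
# `Sp₄(q)`: the stabiliser of two totally isotropic planes, and traces (helper328, for S5786)

`card_T3`, `T3_trace`, `T5_trace`.
-/

set_option autoImplicit false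

namespace Cfsg.Agent.H328.Sp4TI

open Cfsg Cfsg.Geo Matrix Module
open Cfsg.Agent.H909 Cfsg.Agent.H909.Sp4List
open Cfsg.Agent.ClassicalGeometry.SympBasic

universe u

variable {F : Type u} [Field F]

section Iso

/-- `A ↦ diag(A, A⁻ᵀ)` -/
def dl : GL (Fin 2) F →* GL I4 F where
  toFun A := ⟨fromBlocks A.1 0 0 (A⁻¹).1ᵀ, fromBlocks (A⁻¹).1 0 0 A.1ᵀ, by
    rw [fromBlocks_multiply, ← fromBlocks_one, ← transpose_mul]
    congr 1 <;> simp only [_root_.Matrix.coe_units_inv, _root_.Matrix.mul_inv_of_invertible, _root_.MulZeroClass.mul_zero, _root_.add_zero, _root_.MulZeroClass.zero_mul, _root_.Matrix.transpose_one, _root_.zero_add], by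
    rw [fromBlocks_multiply, ← fromBlocks_one, ← transpose_mul]
    congr 1 <;> simp only [_root_.Matrix.coe_units_inv, _root_.Matrix.inv_mul_of_invertible, _root_.MulZeroClass.mul_zero, _root_.add_zero, _root_.MulZeroClass.zero_mul, _root_.Matrix.transpose_one, _root_.zero_add]⟩
  map_one' := by
    apply Units.ext
    change fromBlocks (1 : GL (Fin 2) F).1 0 0 ((1 : GL (Fin 2) F)⁻¹).1ᵀ = 1
    rw [inv_one, Units.val_one, transpose_one, fromBlocks_one]
  map_mul' A B := by
    apply Units.ext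
    change fromBlocks (A * B).1 0 0 ((A * B)⁻¹).1ᵀ = fromBlocks A.1 0 0 (A⁻¹).1ᵀ * fromBlocks B.1 0 0 (B⁻¹).1ᵀ
    rw [fromBlocks_multiply, _root_.mul_inv_rev, Units.val_mul, Units.val_mul, transpose_mul]
    simp only [mul_zero, zero_mul, add_zero, zero_add]

theorem dl_val (A : GL (Fin 2) F) : (dl A : Matrix I4 I4 F) = fromBlocks A.1 0 0 (A⁻¹).1ᵀ := rfl

theorem dl_mem (A : GL (Fin 2) F) : dl A ∈ spGL 2 F := by
  rw [mem_spGL_iff_transpose, dl_val, fromBlocks_transpose, Matrix.J, fromBlocks_multiply, fromBlocks_multiply]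
  have h1 : (A⁻¹).1 * A.1 = 1 := by rw [← Units.val_mul, inv_mul_cancel, Units.val_one]
  have h2 : A.1ᵀ * (A⁻¹).1ᵀ = 1 := by rw [← transpose_mul, h1, transpose_one]
  rw [fromBlocks_inj]
  simp only [transpose_zero, transpose_transpose, mul_zero, zero_mul, zero_add, add_zero, mul_neg, mul_one, neg_mul,
    h1, h2, neg_zero, and_self]

/-- the standard swap -/
def jg (F : Type u) [Field F] : GL I4 F := ⟨Matrix.J (Fin 2) F, -Matrix.J (Fin 2) F, by
    rw [mul_neg, Matrix.J_squared, neg_neg], by rw [neg_mul, Matrix.J_squared, neg_neg]⟩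

theorem jg_val : (jg F : Matrix I4 I4 F) = fromBlocks 0 (-1) 1 0 := rfl
theorem jg_inv_val : ((jg F)⁻¹ : GL I4 F).1 = fromBlocks 0 1 (-1) 0 := by
  change -Matrix.J (Fin 2) F = _
  rw [Matrix.J, fromBlocks_neg]
  simp

theorem jg_mem : jg F ∈ spGL 2 F := by
  rw [mem_spGL_iff_transpose, jg_val, fromBlocks_transpose, Matrix.J, fromBlocks_multiply, fromBlocks_multiply]
  congr 1 <;> simp

/-- an isometry with zero off-diagonal blocks -/
theorem exists_dl {h : GL I4 F} (hh : h ∈ spGL 2 F) (h1 : ∀ i j, h.1 (Sum.inr i) (Sum.inl j) = 0)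
    (h2 : ∀ i j, h.1 (Sum.inl i) (Sum.inr j) = 0) : ∃ A : GL (Fin 2) F, h = dl A := by
  have hb : h.1 = fromBlocks h.1.toBlocks₁₁ 0 0 h.1.toBlocks₂₂ := by
    conv_lhs => rw [← fromBlocks_toBlocks h.1]
    congr 1
    · ext i j; exact h2 i j
    · ext i j; exact h1 i j
  rw [mem_spGL_iff_transpose] at hh
  rw [hb, fromBlocks_transpose, Matrix.J, fromBlocks_multiply, fromBlocks_multiply, fromBlocks_inj] at hh
  obtain ⟨-, h12, -, -⟩ := hh
  simp only [transpose_zero, mul_zero, zero_add, add_zero, mul_neg, mul_one, neg_mul, neg_inj] at h12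
  -- `A₁ᵀ A₂ = 1`
  have h3 : h.1.toBlocks₂₂ᵀ * h.1.toBlocks₁₁ = 1 := by
    rw [← transpose_inj, transpose_mul, transpose_transpose, transpose_one]
    exact h12
  have h4 : h.1.toBlocks₁₁ * h.1.toBlocks₂₂ᵀ = 1 := mul_eq_one_comm.1 h3
  refine ⟨⟨h.1.toBlocks₁₁, h.1.toBlocks₂₂ᵀ, h4, h3⟩, ?_⟩
  apply Units.ext
  rw [dl_val]
  change h.1 = fromBlocks h.1.toBlocks₁₁ 0 0 h.1.toBlocks₂₂ᵀᵀ
  rw [transpose_transpose]
  exact hb

theorem z1 {M : Matrix I4 I4 F} (h : ∀ i j, M (Sum.inr i) (Sum.inl j) = 0) {w : I4 → F} (hw : ∀ i, w (Sum.inr i) = 0) :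
    ∀ i, (M *ᵥ w) (Sum.inr i) = 0 := by
  intro i
  simp [mulVec, dotProduct, Fintype.sum_sum_type, h, hw]

theorem z2 {M : Matrix I4 I4 F} (h : ∀ i j, M (Sum.inl i) (Sum.inr j) = 0) {w : I4 → F} (hw : ∀ i, w (Sum.inl i) = 0) :
    ∀ i, (M *ᵥ w) (Sum.inl i) = 0 := by
  intro i
  simp [mulVec, dotProduct, Fintype.sum_sum_type, h, hw]

theorem z3 {M : Matrix I4 I4 F} (h : ∀ i j, M (Sum.inl i) (Sum.inl j) = 0) {w : I4 → F} (hw : ∀ i, w (Sum.inr i) = 0) :
    ∀ i, (M *ᵥ w) (Sum.inl i) = 0 := by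
  intro i
  simp [mulVec, dotProduct, Fintype.sum_sum_type, h, hw]

theorem z4 {M : Matrix I4 I4 F} (h : ∀ i j, M (Sum.inr i) (Sum.inr j) = 0) {w : I4 → F} (hw : ∀ i, w (Sum.inl i) = 0) :
    ∀ i, (M *ᵥ w) (Sum.inr i) = 0 := by
  intro i
  simp [mulVec, dotProduct, Fintype.sum_sum_type, h, hw]

variable {D : Fin 2 → Submodule F (I4 → F)}

/-- the membership in the two planes, in adapted coordinates -/
theorem exists_coord (hD : IsMDecomposition 2 D) (hs : ∀ i, IsTotallySingularFor (sympForm 2 F) (D i)) :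
    ∃ P : GL I4 F, P ∈ spGL 2 F ∧
      (∀ v, v ∈ D 0 ↔ ∀ i, ((P⁻¹ : GL I4 F).1 *ᵥ v) (Sum.inr i) = 0) ∧
      (∀ v, v ∈ D 1 ↔ ∀ i, ((P⁻¹ : GL I4 F).1 *ᵥ v) (Sum.inl i) = 0) := by
  obtain ⟨P, hP, h0, h1⟩ := exists_adapted_iso hD hs
  have hinv : ∀ v, P.1 *ᵥ ((P⁻¹ : GL I4 F).1 *ᵥ v) = v := fun v => by
    rw [Matrix.mulVec_mulVec, ← Units.val_mul, mul_inv_cancel, Units.val_one, Matrix.one_mulVec]
  have hsum : ∀ w : I4 → F, w = (∑ i : Fin 2, w (Sum.inl i) • Pi.single (Sum.inl i) (1 : F)) +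
      ∑ i : Fin 2, w (Sum.inr i) • Pi.single (Sum.inr i) (1 : F) := by
    intro w
    ext (i | i) <;> (revert i; simp only [Fin.sum_univ_two, _root_.Fin.forall_fin_succ, Fin.isValue, _root_.Pi.add_apply, _root_.Pi.smul_apply, _root_.smul_eq_mul, _root_.ne_eq, reduceCtorEq, _root_.not_false_eq_true, _root_.Pi.single_eq_of_ne, _root_.MulZeroClass.mul_zero, _root_.add_zero, _root_.Pi.single_eq_same, _root_.mul_one, _root_.Sum.inl.injEq, _root_.zero_ne_one, _root_.Fin.succ_ne_zero, _root_.zero_add, _root_.Fin.succ_zero_eq_one, _root_.IsEmpty.forall_iff, _root_.and_self, _root_.Sum.inr.injEq])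
  have hspan : ∀ w : I4 → F, P.1 *ᵥ w = (∑ i : Fin 2, w (Sum.inl i) • (P.1 *ᵥ Pi.single (Sum.inl i) (1 : F))) +
      ∑ i : Fin 2, w (Sum.inr i) • (P.1 *ᵥ Pi.single (Sum.inr i) (1 : F)) := by
    intro w
    conv_lhs => rw [hsum w]
    rw [Matrix.mulVec_add, Matrix.mulVec_sum, Matrix.mulVec_sum]
    simp only [Matrix.mulVec_smul]
  have hdis : D 0 ⊓ D 1 = ⊥ := (hD.indep.pairwiseDisjoint (show (0 : Fin 2) ≠ 1 by decide)).eq_bot
  have hz : ∀ x ∈ D 0, ∀ y ∈ D 1, x = y → y = 0 := by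
    intro x hx y hy hxy
    have : y ∈ D 0 ⊓ D 1 := ⟨hxy ▸ hx, hy⟩
    rwa [hdis, Submodule.mem_bot] at this
  have hPinj : ∀ w : I4 → F, P.1 *ᵥ w = 0 → w = 0 := by
    intro w hw
    have := congrArg (fun x => (P⁻¹ : GL I4 F).1 *ᵥ x) hw
    simp only [Matrix.mulVec_mulVec, ← Units.val_mul, inv_mul_cancel, Units.val_one, Matrix.one_mulVec,
      Matrix.mulVec_zero] at this
    exact this
  refine ⟨P, hP, fun v => ⟨fun hv => ?_, fun hv => ?_⟩, fun v => ⟨fun hv => ?_, fun hv => ?_⟩⟩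
  · set w := (P⁻¹ : GL I4 F).1 *ᵥ v with hw
    have h2 := hspan w
    rw [hw, hinv, ← hw] at h2
    have h3 : (∑ i : Fin 2, w (Sum.inr i) • (P.1 *ᵥ Pi.single (Sum.inr i) (1 : F))) = 0 := by
      refine hz (v - ∑ i : Fin 2, w (Sum.inl i) • (P.1 *ᵥ Pi.single (Sum.inl i) (1 : F))) ?_ _ ?_ ?_
      · exact sub_mem hv (Submodule.sum_mem _ fun i _ => Submodule.smul_mem _ _ (h0 i))
      · exact Submodule.sum_mem _ fun i _ => Submodule.smul_mem _ _ (h1 i)
      · rw [sub_eq_iff_eq_add, add_comm]; exact h2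
    have h4 : P.1 *ᵥ (∑ i : Fin 2, w (Sum.inr i) • Pi.single (Sum.inr i) (1 : F)) = 0 := by
      rw [Matrix.mulVec_sum]
      simp only [Matrix.mulVec_smul]
      exact h3
    have h5 := hPinj _ h4
    intro i
    have h6 := congrFun h5 (Sum.inr i)
    fin_cases i <;> simpa only [Fin.sum_univ_two, Pi.single_apply, _root_.Fin.zero_eta, _root_.Fin.isValue, _root_.Finset.sum_apply, _root_.Pi.smul_apply, _root_.Sum.inr.injEq, _root_.smul_eq_mul, _root_.mul_ite, _root_.mul_one, _root_.MulZeroClass.mul_zero, _root_.Finset.sum_ite_eq, _root_.Finset.mem_univ, ↓ _root_.reduceIte, _root_.Pi.zero_apply, _root_.Fin.mk_one] using h6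
  · rw [← hinv v, hspan]
    refine add_mem (Submodule.sum_mem _ fun i _ => Submodule.smul_mem _ _ (h0 i)) ?_
    simp only [hv, zero_smul, Finset.sum_const_zero]
    exact zero_mem _
  · set w := (P⁻¹ : GL I4 F).1 *ᵥ v with hw
    have h2 := hspan w
    rw [hw, hinv, ← hw] at h2
    have h3 : (∑ i : Fin 2, w (Sum.inl i) • (P.1 *ᵥ Pi.single (Sum.inl i) (1 : F))) = 0 := by
      have h7 := hz _ (Submodule.sum_mem (t := Finset.univ) _ fun i _ => Submodule.smul_mem (D 0) (w (Sum.inl i)) (h0 i))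
        (v - ∑ i : Fin 2, w (Sum.inr i) • (P.1 *ᵥ Pi.single (Sum.inr i) (1 : F))) ?_ ?_
      · rw [sub_eq_zero] at h7
        rw [h7] at h2
        exact add_eq_right.1 h2.symm
      · exact sub_mem hv (Submodule.sum_mem _ fun i _ => Submodule.smul_mem _ _ (h1 i))
      · rw [eq_sub_iff_add_eq]; exact h2.symm
    have h4 : P.1 *ᵥ (∑ i : Fin 2, w (Sum.inl i) • Pi.single (Sum.inl i) (1 : F)) = 0 := by
      rw [Matrix.mulVec_sum]
      simp only [Matrix.mulVec_smul]
      exact h3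
    have h5 := hPinj _ h4
    intro i
    have h6 := congrFun h5 (Sum.inl i)
    fin_cases i <;> simpa only [Fin.sum_univ_two, Pi.single_apply, _root_.Fin.zero_eta, _root_.Fin.isValue, _root_.Finset.sum_apply, _root_.Pi.smul_apply, _root_.Sum.inl.injEq, _root_.smul_eq_mul, _root_.mul_ite, _root_.mul_one, _root_.MulZeroClass.mul_zero, _root_.Finset.sum_ite_eq, _root_.Finset.mem_univ, ↓ _root_.reduceIte, _root_.Pi.zero_apply, _root_.Fin.mk_one] using h6
  · rw [← hinv v, hspan]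
    refine add_mem ?_ (Submodule.sum_mem _ fun i _ => Submodule.smul_mem _ _ (h1 i))
    simp only [hv, zero_smul, Finset.sum_const_zero]
    exact zero_mem _

theorem two : ∀ x : Fin 2, x = 0 ∨ x = 1 := by decide

/-- The stabiliser of the two planes: `GL₂(q).2`. -/
theorem exists_bij (hD : IsMDecomposition 2 D) (hs : ∀ i, IsTotallySingularFor (sympForm 2 F) (D i)) :
    ∃ P : GL I4 F, P ∈ spGL 2 F ∧ (∀ A, P * dl A * P⁻¹ ∈ decompositionStabilizer D ⊓ spGL 2 F) ∧
      (∀ A, P * (jg F * dl A) * P⁻¹ ∈ decompositionStabilizer D ⊓ spGL 2 F) ∧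
      ∀ g ∈ decompositionStabilizer D ⊓ spGL 2 F, (∃ A, g = P * dl A * P⁻¹) ∨ ∃ A, g = P * (jg F * dl A) * P⁻¹ := by
  obtain ⟨P, hP, h0, h1⟩ := exists_coord hD hs
  have hinv : ∀ v, P.1 *ᵥ ((P⁻¹ : GL I4 F).1 *ᵥ v) = v := fun v => by
    rw [Matrix.mulVec_mulVec, ← Units.val_mul, mul_inv_cancel, Units.val_one, Matrix.one_mulVec]
  have hinv' : ∀ v, (P⁻¹ : GL I4 F).1 *ᵥ (P.1 *ᵥ v) = v := fun v => by
    rw [Matrix.mulVec_mulVec, ← Units.val_mul, inv_mul_cancel, Units.val_one, Matrix.one_mulVec]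
  have hconj : ∀ (g : GL I4 F) v, (P⁻¹ : GL I4 F).1 *ᵥ ((P * g * P⁻¹ : GL I4 F).1 *ᵥ v) =
      g.1 *ᵥ ((P⁻¹ : GL I4 F).1 *ᵥ v) := by
    intro g v
    rw [Units.val_mul, Units.val_mul, ← Matrix.mulVec_mulVec, ← Matrix.mulVec_mulVec, hinv']
  -- membership
  have hmem : ∀ g : GL I4 F, ∀ σ : Equiv.Perm (Fin 2), (∀ i, ∀ v ∈ D i, g.1 *ᵥ v ∈ D (σ i)) → g ∈ decompositionStabilizer D := by
    intro g σ h
    refine ⟨σ, fun i => ?_⟩
    have hle : (D i).map (Matrix.toLin' g.1) ≤ D (σ i) := by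
      rintro _ ⟨v, hv, rfl⟩
      exact h i v hv
    refine Submodule.eq_of_le_of_finrank_eq hle ?_
    have hinj : Function.Injective (Matrix.toLin' g.1) := by
      intro x y hxy
      have := congrArg (fun z => (g⁻¹ : GL I4 F).1 *ᵥ z) (show g.1 *ᵥ x = g.1 *ᵥ y from hxy)
      simp only [Matrix.mulVec_mulVec, ← Units.val_mul, inv_mul_cancel, Units.val_one, Matrix.one_mulVec] at this
      exact this
    rw [← (Submodule.equivMapOfInjective _ hinj (D i)).finrank_eq, hD.finrank_eq, hD.finrank_eq]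
  have hmemP : ∀ g : GL I4 F, g ∈ spGL 2 F → P * g * P⁻¹ ∈ spGL 2 F := fun g hg =>
    mul_mem (mul_mem hP hg) (inv_mem hP)
  refine ⟨P, hP, fun A => ⟨hmem _ 1 fun i v hv => ?_, hmemP _ (dl_mem A)⟩,
    fun A => ⟨hmem _ (Equiv.swap 0 1) fun i v hv => ?_, hmemP _ (mul_mem jg_mem (dl_mem A))⟩, fun g hg => ?_⟩
  · fin_cases i
    · refine (h0 _).2 ?_
      rw [hconj]
      exact z1 (fun _ _ => rfl) ((h0 v).1 hv)
    · refine (h1 _).2 ?_
      rw [hconj]
      exact z2 (fun _ _ => rfl) ((h1 v).1 hv)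
  · fin_cases i
    · change _ ∈ D 1
      refine (h1 _).2 ?_
      rw [hconj, Units.val_mul, ← Matrix.mulVec_mulVec]
      exact z3 (M := (jg F).1) (fun _ _ => rfl) (z1 (fun _ _ => rfl) ((h0 v).1 hv))
    · change _ ∈ D 0
      refine (h0 _).2 ?_
      rw [hconj, Units.val_mul, ← Matrix.mulVec_mulVec]
      exact z4 (M := (jg F).1) (fun _ _ => rfl) (z2 (fun _ _ => rfl) ((h1 v).1 hv))
  · obtain ⟨⟨σ, hσ⟩, hgs⟩ := hg
    -- coordinates of the columns
    have hcol : ∀ (h : GL I4 F) a b, h.1 b a = (h.1 *ᵥ Pi.single a 1) b := by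
      intro h a b
      rw [Matrix.mulVec_single_one]
      rfl
    have hl : ∀ j, P.1 *ᵥ Pi.single (Sum.inl j) (1 : F) ∈ D 0 := fun j => (h0 _).2 fun i => by
      rw [hinv']; simp
    have hr : ∀ j, P.1 *ᵥ Pi.single (Sum.inr j) (1 : F) ∈ D 1 := fun j => (h1 _).2 fun i => by
      rw [hinv']; simp
    have hg' : P⁻¹ * g * P ∈ spGL 2 F := mul_mem (mul_mem (inv_mem hP) hgs) hP
    have hval : ∀ v, (P⁻¹ * g * P : GL I4 F).1 *ᵥ v = (P⁻¹ : GL I4 F).1 *ᵥ (g.1 *ᵥ (P.1 *ᵥ v)) := fun v => by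
      rw [Units.val_mul, Units.val_mul, ← Matrix.mulVec_mulVec, ← Matrix.mulVec_mulVec]
    have hmap : ∀ i v, v ∈ D i → g.1 *ᵥ v ∈ D (σ i) := by
      intro i v hv
      rw [← hσ i]
      exact ⟨v, hv, rfl⟩
    by_cases h00 : σ 0 = 0
    · left
      have h11 : σ 1 = 1 := by
        by_contra hne
        have : σ 1 = 0 := by
          have := two (σ 1)
          tauto
        exact absurd (σ.injective (h00.trans this.symm)) (by decide)
      obtain ⟨A, hA⟩ := exists_dl hg' (fun i j => by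
        rw [hcol, hval]
        exact (h0 _).1 (h00 ▸ hmap 0 _ (hl j)) i) (fun i j => by
        rw [hcol, hval]
        exact (h1 _).1 (h11 ▸ hmap 1 _ (hr j)) i)
      exact ⟨A, by rw [← hA]; group⟩
    · right
      have h01 : σ 0 = 1 := by
        have := two (σ 0)
        tauto
      have h10 : σ 1 = 0 := by
        by_contra hne
        have : σ 1 = 1 := by
          have := two (σ 1)
          (clear * - σ hne this; tauto)
        exact absurd (σ.injective (h01.trans this.symm)) (by decide)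
      obtain ⟨A, hA⟩ := exists_dl (h := (jg F)⁻¹ * (P⁻¹ * g * P)) (mul_mem (inv_mem jg_mem) hg') (fun i j => by
        rw [hcol, Units.val_mul, ← Matrix.mulVec_mulVec, hval]
        refine z4 (fun i j => ?_) ((h1 _).1 (h01 ▸ hmap 0 _ (hl j))) i
        rw [jg_inv_val]; rfl) (fun i j => by
        rw [hcol, Units.val_mul, ← Matrix.mulVec_mulVec, hval]
        refine z3 (fun i j => ?_) ((h0 _).1 (h10 ▸ hmap 1 _ (hr j))) i
        rw [jg_inv_val]; rfl)
      exact ⟨A, by rw [← hA]; group⟩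

theorem dl_injective : Function.Injective (dl (F := F)) := by
  intro A B h
  apply Units.ext
  have h1 := congrArg (fun g : GL I4 F => g.1.toBlocks₁₁) h
  exact h1

theorem dl_ne (A B : GL (Fin 2) F) : dl A ≠ jg F * dl B := by
  intro h
  have h1 := congrArg (fun g : GL I4 F => g.1.toBlocks₁₁) h
  simp only [Units.val_mul, dl_val, jg_val, fromBlocks_multiply, toBlocks_fromBlocks₁₁] at h1
  simp only [zero_mul, mul_zero, add_zero] at h1
  exact A.ne_zero h1

/-- **The order of the stabiliser of two totally isotropic planes.** -/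
theorem card_T3 [Fintype F] (_h2 : (2 : F) ≠ 0) {D : Fin 2 → Submodule F (I4 → F)} (hD : IsMDecomposition 2 D)
    (hs : ∀ i, IsTotallySingularFor (sympForm 2 F) (D i)) :
    Nat.card ↥(decompositionStabilizer D ⊓ spGL 2 F) = 2 * (Nat.card F * (Nat.card F - 1) * (Nat.card F ^ 2 - 1)) := by
  classical
  obtain ⟨P, hP, h0, h1, h2⟩ := exists_bij hD hs
  let f : GL (Fin 2) F ⊕ GL (Fin 2) F → ↥(decompositionStabilizer D ⊓ spGL 2 F) :=
    Sum.elim (fun A => ⟨_, h0 A⟩) (fun A => ⟨_, h1 A⟩)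
  have hf : Function.Bijective f := by
    constructor
    · rintro (A | A) (B | B) h
      · have h3 : P * dl A * P⁻¹ = P * dl B * P⁻¹ := congrArg Subtype.val h
        rw [dl_injective (mul_left_cancel (mul_right_cancel h3))]
      · have h3 : P * dl A * P⁻¹ = P * (jg F * dl B) * P⁻¹ := congrArg Subtype.val h
        exact absurd (mul_left_cancel (mul_right_cancel h3)) (dl_ne A B)
      · have h3 : P * (jg F * dl A) * P⁻¹ = P * dl B * P⁻¹ := congrArg Subtype.val h
        exact absurd (mul_left_cancel (mul_right_cancel h3)).symm (dl_ne B A)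
      · have h3 : P * (jg F * dl A) * P⁻¹ = P * (jg F * dl B) * P⁻¹ := congrArg Subtype.val h
        rw [dl_injective (mul_left_cancel (mul_left_cancel (mul_right_cancel h3)))]
    · rintro ⟨g, hg⟩
      rcases h2 g hg with ⟨A, hA⟩ | ⟨A, hA⟩
      · exact ⟨Sum.inl A, Subtype.ext hA.symm⟩
      · exact ⟨Sum.inr A, Subtype.ext hA.symm⟩
  rw [← Nat.card_congr (Equiv.ofBijective f hf), Nat.card_sum, Matrix.card_GL_field, Fin.prod_univ_two,
    Nat.card_eq_fintype_card]
  have hq : 1 ≤ Fintype.card F := Fintype.card_pos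
  obtain ⟨k, hk⟩ := Nat.exists_eq_add_of_le hq
  rw [hk]
  have e1 : (1 + k) ^ 2 - (1 + k) ^ ((0 : Fin 2) : ℕ) = k * (k + 2) := by
    rw [Fin.val_zero, pow_zero]
    have : (1 + k) ^ 2 = k * (k + 2) + 1 := by ring
    omega
  have e2 : (1 + k) ^ 2 - (1 + k) ^ ((1 : Fin 2) : ℕ) = k * (k + 1) := by
    rw [Fin.val_one, pow_one]
    have : (1 + k) ^ 2 = k * (k + 1) + (1 + k) := by ring
    omega
  have e3 : (1 + k) ^ 2 - 1 = k * (k + 2) := by
    have : (1 + k) ^ 2 = k * (k + 2) + 1 := by ring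
    omega
  rw [e1, e2, e3, Nat.add_sub_cancel_left]
  ring

theorem trace_blocks (A B C E : Matrix (Fin 2) (Fin 2) F) : (fromBlocks A B C E).trace = A.trace + E.trace := by
  simp [Matrix.trace, Fintype.sum_sum_type]

theorem trace_conj (P M : GL I4 F) : (P * M * P⁻¹ : GL I4 F).1.trace = M.1.trace := by
  rw [Units.val_mul, Units.val_mul, Matrix.trace_mul_cycle, ← Units.val_mul, inv_mul_cancel, Units.val_one, one_mul]

/-- every element of `F` is a trace -/
theorem T3_trace {D : Fin 2 → Submodule F (I4 → F)} (h2 : (2 : F) ≠ 0) (hD : IsMDecomposition 2 D)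
    (hs : ∀ i, IsTotallySingularFor (sympForm 2 F) (D i)) (t : F) :
    ∃ g ∈ decompositionStabilizer D ⊓ spGL 2 F, (g : Matrix I4 I4 F).trace = t := by
  obtain ⟨P, hP, h0, -, -⟩ := exists_bij hD hs
  let A : GL (Fin 2) F := ⟨!![t / 2, -1; 1, 0], !![0, 1; -1, t / 2], by
    ext i j
    (revert i j; simp only [Matrix.mul_apply, Fin.sum_univ_two, _root_.Fin.forall_fin_succ, _root_.Matrix.of_apply, _root_.Matrix.cons_val', _root_.Matrix.cons_val_fin_one, Fin.isValue, _root_.Matrix.cons_val_zero, _root_.Matrix.cons_val_one, _root_.MulZeroClass.mul_zero, _root_.mul_neg, _root_.mul_one, _root_.zero_add, _root_.Matrix.cons_val_succ, _root_.IsEmpty.forall_iff, _root_.and_true, _root_.neg_neg, _root_.Matrix.one_apply_eq, _root_.neg_mul, _root_.one_mul, _root_.add_neg_cancel, Nat.reduceAdd, _root_.Fin.succ_zero_eq_one, _root_.ne_eq, _root_.zero_ne_one, _root_.not_false_eq_true, _root_.Matrix.one_apply_ne, _root_.and_self, _root_.neg_zero, _root_.Fin.succ_ne_zero,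 _root_.MulZeroClass.zero_mul, _root_.add_zero, _root_.true_and]), by
    ext i j
    (revert i j; simp only [Matrix.mul_apply, Fin.sum_univ_two, _root_.Fin.forall_fin_succ, _root_.Matrix.of_apply, _root_.Matrix.cons_val', _root_.Matrix.cons_val_fin_one, Fin.isValue, _root_.Matrix.cons_val_zero, _root_.Matrix.cons_val_one, _root_.mul_one, _root_.Matrix.cons_val_succ, _root_.mul_neg, _root_.MulZeroClass.mul_zero, _root_.add_zero, _root_.IsEmpty.forall_iff, _root_.and_true, _root_.MulZeroClass.zero_mul, _root_.zero_add, _root_.Matrix.one_apply_eq, _root_.neg_zero, Nat.reduceAdd, _root_.Fin.succ_zero_eq_one, _root_.ne_eq, _root_.zero_ne_one, _root_.not_false_eq_true, _root_.Matrix.one_apply_ne, _root_.and_self, _root_.neg_mul, _root_.one_mul, _root_.neg_add_cancel, _root_.Fin.succ_ne_zero, _root_.neg_neg, _root_.true_and])⟩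
  refine ⟨_, h0 A, ?_⟩
  rw [trace_conj, dl_val, trace_blocks, trace_transpose]
  change trace !![t / 2, -1; 1, 0] + trace !![0, 1; -1, t / 2] = t
  rw [trace_fin_two, trace_fin_two]
  have h : t / 2 + t / 2 = t := by field_simp; ring
  simpa only [_root_.Fin.isValue, _root_.Matrix.of_apply, _root_.Matrix.cons_val', _root_.Matrix.cons_val_zero, _root_.Matrix.cons_val_fin_one, _root_.Matrix.cons_val_one, _root_.add_zero, _root_.zero_add] using h

end Iso

section Skew

variable {s : Matrix I4 I4 F} {b : F}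

/-- `s` in adapted coordinates -/
def sk (b : F) : Matrix I4 I4 F := fromBlocks !![0, -1; -b, 0] 0 0 !![0, b; 1, 0]

/-- A hyperbolic basis for a skew element of non-square square. -/
theorem exists_adapted_skew [Finite F] (h2 : (2 : F) ≠ 0) (hs2 : s * s = b • 1) (hb : ¬ IsSquare b)
    (hskew : ∀ u v, sympForm 2 F (s *ᵥ u) v = - sympForm 2 F u (s *ᵥ v)) :
    ∃ P : GL I4 F, P ∈ spGL 2 F ∧ s * (P : Matrix I4 I4 F) = (P : Matrix I4 I4 F) * sk b := by
  have hb0 : b ≠ 0 := fun h => hb ⟨0, by rw [h, mul_zero]⟩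
  have hss : ∀ v, s *ᵥ (s *ᵥ v) = b • v := fun v => by
    rw [Matrix.mulVec_mulVec, hs2, Matrix.smul_mulVec, Matrix.one_mulVec]
  have hpr : ∀ u v, sympForm 2 F (s *ᵥ u) (s *ᵥ v) = -b * sympForm 2 F u v := by
    intro u v
    rw [hskew, hss, sympForm_smul_right]
    ring
  -- an isotropic vector
  obtain ⟨u, hu0, hu⟩ : ∃ u : I4 → F, u ≠ 0 ∧ sympForm 2 F (s *ᵥ u) u = 0 := by
    obtain ⟨u, hu, h⟩ := H950.exists_common_isotropic (K := F) (A := I4 → F) (ι := Unit)
      (fun _ => (sympBilin 2 F).comp (Matrix.toLin' s)) (by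
        rw [Module.finrank_fintype_fun_eq_card]
        decide)
    exact ⟨u, hu, h ()⟩
  obtain ⟨w, hw, -⟩ := exists_both_ne_zero hu0 hu0
  set p := sympForm 2 F u w with hp
  set r := sympForm 2 F (s *ᵥ u) w with hr
  have hrr : sympForm 2 F u (s *ᵥ w) = -r := by rw [hr, hskew, neg_neg]
  have hD : r ^ 2 - b * p ^ 2 ≠ 0 := by
    intro h
    apply hb
    refine ⟨r / p, ?_⟩
    field_simp
    linear_combination -h
  set Δ := r ^ 2 - b * p ^ 2 with hΔ
  obtain ⟨v0, hv1, hv2⟩ : ∃ v0 : I4 → F, sympForm 2 F u v0 = 1 ∧ sympForm 2 F (s *ᵥ u) v0 = 0 := by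
    refine ⟨(-(b * p) / Δ) • w + (-r / Δ) • (s *ᵥ w), ?_, ?_⟩
    · rw [sympForm_add_right, sympForm_smul_right, sympForm_smul_right, ← hp, hrr]
      field_simp
      rw [hΔ]; ring
    · rw [sympForm_add_right, sympForm_smul_right, sympForm_smul_right, ← hr, hpr, ← hp]
      field_simp
      ring
  obtain ⟨v, hv3, hv4, hv5⟩ : ∃ v : I4 → F, sympForm 2 F u v = 1 ∧ sympForm 2 F (s *ᵥ u) v = 0 ∧
      sympForm 2 F (s *ᵥ v) v = 0 := by
    have h6 : sympForm 2 F (s *ᵥ v0) (s *ᵥ u) = b := by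
      rw [hpr, sympForm_swap, hv1]; ring
    have h7 : sympForm 2 F u (s *ᵥ u) = 0 := by rw [← neg_eq_zero, ← hskew, hu]
    refine ⟨v0 + (-(sympForm 2 F (s *ᵥ v0) v0) / (2 * b)) • (s *ᵥ u), ?_, ?_, ?_⟩
    · rw [sympForm_add_right, sympForm_smul_right, hv1, h7, mul_zero, add_zero]
    · rw [sympForm_add_right, sympForm_smul_right, hv2, sympForm_self, mul_zero, add_zero]
    · generalize hE : sympForm 2 F (s *ᵥ v0) v0 = e
      rw [Matrix.mulVec_add, Matrix.mulVec_smul, hss, sympForm_add_left, sympForm_add_right, sympForm_smul_left,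
        sympForm_smul_left, sympForm_smul_right, sympForm_add_right, sympForm_smul_right, hE, h6, hv1, h7]
      field_simp
      ring
  -- the family
  have hsv : sympForm 2 F u (s *ᵥ v) = 0 := by rw [← neg_eq_zero, ← hskew, hv4]
  have hsu : sympForm 2 F u (s *ᵥ u) = 0 := by rw [← neg_eq_zero, ← hskew, hu]
  have hvv : sympForm 2 F v (s *ᵥ v) = 0 := by rw [← neg_eq_zero, ← hskew, hv5]
  have hvu : sympForm 2 F v u = -1 := by rw [sympForm_swap, hv3]
  have hvsu : sympForm 2 F v (s *ᵥ u) = 0 := by rw [sympForm_swap, hv4, neg_zero]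
  let fl : Fin 2 → (I4 → F) := ![v, (-b⁻¹) • (s *ᵥ v)]
  let fr : Fin 2 → (I4 → F) := ![u, s *ᵥ u]
  have hll : ∀ i j, sympForm 2 F (fl i) (fl j) = 0 := by
    intro i j
    fin_cases i <;> fin_cases j
    · exact sympForm_self _
    · change sympForm 2 F v ((-b⁻¹) • (s *ᵥ v)) = 0
      rw [sympForm_smul_right, hvv, mul_zero]
    · change sympForm 2 F ((-b⁻¹) • (s *ᵥ v)) v = 0
      rw [sympForm_smul_left, hv5, mul_zero]
    · exact sympForm_self _
  have hrr' : ∀ i j, sympForm 2 F (fr i) (fr j) = 0 := by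
    intro i j
    fin_cases i <;> fin_cases j
    · exact sympForm_self _
    · exact hsu
    · exact hu
    · exact sympForm_self _
  have hlr : ∀ i j, sympForm 2 F (fl i) (fr j) = if i = j then -1 else 0 := by
    intro i j
    fin_cases i <;> fin_cases j
    · exact hvu
    · exact hvsu
    · change sympForm 2 F ((-b⁻¹) • (s *ᵥ v)) u = 0
      rw [sympForm_smul_left, sympForm_swap, hsv, neg_zero, mul_zero]
    · change sympForm 2 F ((-b⁻¹) • (s *ᵥ v)) (s *ᵥ u) = -1
      rw [sympForm_smul_left, hpr, hvu]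
      field_simp
  obtain ⟨P, hP, hcol⟩ := exists_spGL_of_family (Sum.elim fl fr) (by
    rintro (i | i) (j | j)
    · rw [J_apply_inl_inl]; exact hll i j
    · rw [J_apply_inl_inr]; exact hlr i j
    · rw [J_apply_inr_inl]
      show sympForm 2 F (fr i) (fl j) = _
      rw [sympForm_swap, hlr]
      by_cases h : i = j
      · subst h; simp
      · rw [if_neg (Ne.symm h), if_neg h, neg_zero]
    · rw [J_apply_inr_inr]; exact hrr' i j)
  refine ⟨P, hP, ?_⟩
  apply ext_single
  intro a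
  rw [← Matrix.mulVec_mulVec, ← Matrix.mulVec_mulVec, hcol]
  have hc : ∀ w : I4 → F, P.1 *ᵥ w = w (Sum.inl 0) • fl 0 + w (Sum.inl 1) • fl 1 + w (Sum.inr 0) • fr 0 + w (Sum.inr 1) • fr 1 := by
    intro w
    have hsum : w = w (Sum.inl 0) • Pi.single (Sum.inl 0) (1 : F) + w (Sum.inl 1) • Pi.single (Sum.inl 1) (1 : F) +
        w (Sum.inr 0) • Pi.single (Sum.inr 0) (1 : F) + w (Sum.inr 1) • Pi.single (Sum.inr 1) (1 : F) := by
      ext (i | i) <;> (revert i; simp only [_root_.Fin.forall_fin_succ, Fin.isValue, _root_.Pi.add_apply, _root_.Pi.smul_apply, _root_.smul_eq_mul, _root_.ne_eq, reduceCtorEq, _root_.not_false_eq_true, _root_.Pi.single_eq_of_ne, _root_.MulZeroClass.mul_zero, _root_.add_zero, _root_.Pi.single_eq_same, _root_.mul_one, _root_.Sum.inl.injEq, _root_.zero_ne_one, _root_.Fin.succ_ne_zero, _root_.zero_add, _root_.Fin.succ_zero_eq_one, _root_.IsEmpty.forall_iff, _root_.and_self, _root_.Sum.inr.injEq])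
    conv_lhs => rw [hsum]
    simp only [Matrix.mulVec_add, Matrix.mulVec_smul, hcol]
    rfl
  rw [hc]
  have hz : ∀ a c : I4, (sk b *ᵥ Pi.single a 1) c = sk b c a := fun a c => by
    rw [Matrix.mulVec_single_one]; rfl
  rw [hz, hz, hz, hz]
  have e1 : s *ᵥ ((-b⁻¹) • (s *ᵥ v)) = -v := by
    rw [Matrix.mulVec_smul, hss, smul_smul, neg_mul, inv_mul_cancel₀ hb0, neg_smul, one_smul]
  have e2 : (-b) • ((-b⁻¹) • (s *ᵥ v)) = s *ᵥ v := by
    rw [smul_smul, neg_mul_neg, mul_inv_cancel₀ hb0, one_smul]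
  rcases a with a | a <;> fin_cases a
  · change s *ᵥ v = (0 : F) • v + (-b) • ((-b⁻¹) • (s *ᵥ v)) + (0 : F) • u + (0 : F) • (s *ᵥ u)
    rw [e2]; simp
  · change s *ᵥ ((-b⁻¹) • (s *ᵥ v)) = (-1 : F) • v + (0 : F) • ((-b⁻¹) • (s *ᵥ v)) + (0 : F) • u + (0 : F) • (s *ᵥ u)
    rw [e1]; simp
  · change s *ᵥ u = (0 : F) • v + (0 : F) • ((-b⁻¹) • (s *ᵥ v)) + (0 : F) • u + (1 : F) • (s *ᵥ u)
    simp only [_root_.zero_smul, _root_.neg_smul, _root_.smul_neg, _root_.neg_zero, _root_.add_zero, _root_.one_smul, _root_.zero_add]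
  · change s *ᵥ (s *ᵥ u) = (0 : F) • v + (0 : F) • ((-b⁻¹) • (s *ᵥ v)) + b • u + (0 : F) • (s *ᵥ u)
    rw [hss]; simp

/-- the isometry of trace `t` commuting with `sk b` -/
def tg (b t : F) : Matrix I4 I4 F := fromBlocks 0 !![1, 0; 0, -b] !![-1, 0; 0, b⁻¹] !![t / 2, 0; 0, t / 2]

theorem tg_comm (b t : F) (hb : b ≠ 0) : tg b t * sk b = sk b * tg b t := by
  rw [tg, sk, fromBlocks_multiply, fromBlocks_multiply, fromBlocks_inj]
  refine ⟨?_, ?_, ?_, ?_⟩ <;> ext i j <;> (revert i j; simp [hb, _root_.Fin.forall_fin_succ]) <;> (repeat' with_reducible apply And.intro)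
  all_goals ring

theorem tg_symp (b t : F) (hb : b ≠ 0) : (tg b t)ᵀ * Matrix.J (Fin 2) F * tg b t = Matrix.J (Fin 2) F := by
  rw [tg, Matrix.J, fromBlocks_transpose, fromBlocks_multiply, fromBlocks_multiply, fromBlocks_inj]
  refine ⟨?_, ?_, ?_, ?_⟩ <;> ext i j <;> (revert i j; simp only [Matrix.mul_apply, Fin.sum_univ_two, hb, _root_.Fin.forall_fin_succ, _root_.Matrix.transpose_zero, _root_.MulZeroClass.mul_zero, _root_.mul_one, _root_.zero_add, _root_.mul_neg, _root_.neg_zero, _root_.add_zero, _root_.MulZeroClass.zero_mul, _root_.Matrix.add_apply, _root_.Matrix.transpose_apply, _root_.Matrix.of_apply, _root_.Matrix.cons_val', _root_.Matrix.cons_val_fin_one, Fin.isValue, _root_.Matrix.cons_val_zero, _root_.Matrix.cons_val_one, _root_.Matrix.zero_apply, _root_.Matrix.neg_apply, _root_.Matrix.cons_val_succ, _root_.neg_inj, _root_.IsEmpty.forall_iff, _root_.Matrix.one_apply_eq, Nat.reduceAdd, _root_.Fin.succ_zero_eq_one, _root_.ne_eq, _root_.zero_ne_one,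 _root_.not_false_eq_true, _root_.Matrix.one_apply_ne, _root_.Fin.succ_ne_zero, _root_.inv_mul_cancel₀, _root_.neg_mul, _root_.neg_add_rev, _root_.neg_neg, _root_.mul_inv_cancel₀, _root_.forall_const, _root_.one_mul, _root_.add_neg_cancel, _root_.and_true, _root_.true_and]) <;> (repeat' with_reducible apply And.intro)
  ring

/-- every element of `F` is a trace of an element of the unitary type group -/
theorem T5_trace [Fintype F] (h2 : (2 : F) ≠ 0) {K : Subalgebra F (Matrix I4 I4 F)} (hK : IsFieldSubalgebra 2 K)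
    (hac : IsAdjointClosedFor (sympForm 2 F) K) (hns : ¬ IsSelfAdjointFor (sympForm 2 F) K) (t : F) :
    ∃ g ∈ subalgebraNormalizer K ⊓ spGL 2 F, (g : Matrix I4 I4 F).trace = t := by
  obtain ⟨s, hsK, b, hs2, hb, hskew, hgen⟩ := exists_skew_generator h2 hK hac hns
  have hb0 : b ≠ 0 := fun h => hb ⟨0, by rw [h, mul_zero]⟩
  obtain ⟨P, hP, hPs⟩ := exists_adapted_skew h2 hs2 hb hskew
  have hdet : IsUnit (tg b t) := by
    rw [Matrix.isUnit_iff_isUnit_det]
    exact (SymplecticGroup.mem_iff'.2 (tg_symp b t hb0) : tg b t ∈ Matrix.symplecticGroup (Fin 2) F) |> SymplecticGroup.symplectic_det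
  obtain ⟨h, hh⟩ := hdet
  have hhsp : h ∈ spGL 2 F := mem_spGL_iff_transpose.2 (by rw [hh]; exact tg_symp b t hb0)
  refine ⟨P * h * P⁻¹, Subgroup.mem_inf.2 ⟨?_, mul_mem (mul_mem hP hhsp) (inv_mem hP)⟩, ?_⟩
  · -- it commutes with `s`
    have hPinv : (P⁻¹ : GL I4 F).1 * P.1 = 1 := by rw [← Units.val_mul, inv_mul_cancel, Units.val_one]
    have hPinv' : P.1 * (P⁻¹ : GL I4 F).1 = 1 := by rw [← Units.val_mul, mul_inv_cancel, Units.val_one]
    have hPs' : (P⁻¹ : GL I4 F).1 * s = sk b * (P⁻¹ : GL I4 F).1 := by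
      calc (P⁻¹ : GL I4 F).1 * s = (P⁻¹ : GL I4 F).1 * (s * P.1) * (P⁻¹ : GL I4 F).1 := by
            rw [mul_assoc, mul_assoc, hPinv', mul_one]
        _ = ((P⁻¹ : GL I4 F).1 * P.1) * (sk b * (P⁻¹ : GL I4 F).1) := by rw [hPs]; simp only [mul_assoc]
        _ = sk b * (P⁻¹ : GL I4 F).1 := by rw [hPinv, one_mul]
    have hcs : (P * h * P⁻¹ : GL I4 F).1 * s = s * (P * h * P⁻¹ : GL I4 F).1 := by
      rw [Units.val_mul, Units.val_mul, hh, mul_assoc, hPs', ← mul_assoc, mul_assoc P.1, tg_comm b t hb0, ← mul_assoc, ← mul_assoc,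
        ← hPs]
      simp only [mul_assoc]
    intro k
    have key : ∀ k ∈ K, (P * h * P⁻¹ : GL I4 F).1 * k * ((P * h * P⁻¹ : GL I4 F)⁻¹).1 = k := by
      intro k hk
      obtain ⟨a, c, rfl⟩ := hgen k hk
      have : (P * h * P⁻¹ : GL I4 F).1 * (a • 1 + c • s) = (a • 1 + c • s) * (P * h * P⁻¹ : GL I4 F).1 := by
        rw [mul_add, add_mul, mul_smul_comm, mul_smul_comm, smul_mul_assoc, smul_mul_assoc, mul_one, one_mul, hcs]
      rw [this, mul_assoc, ← Units.val_mul, mul_inv_cancel, Units.val_one, mul_one]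
    constructor
    · intro hk
      rw [key k hk]; exact hk
    · intro hk
      have h1 := key _ hk
      have h2 : k = (P * h * P⁻¹ : GL I4 F).1 * k * ((P * h * P⁻¹ : GL I4 F)⁻¹).1 := by
        set g := P * h * P⁻¹ with hg
        have hg1 : (g⁻¹ : GL I4 F).1 * g.1 = 1 := by rw [← Units.val_mul, inv_mul_cancel, Units.val_one]
        have h3 : (g⁻¹ : GL I4 F).1 * (g.1 * (g.1 * k * (g⁻¹ : GL I4 F).1) * (g⁻¹ : GL I4 F).1) * g.1 =
            (g⁻¹ : GL I4 F).1 * (g.1 * k * (g⁻¹ : GL I4 F).1) * g.1 := by rw [h1]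
        calc k = ((g⁻¹ : GL I4 F).1 * g.1) * k * ((g⁻¹ : GL I4 F).1 * g.1) := by rw [hg1, one_mul, mul_one]
          _ = (g⁻¹ : GL I4 F).1 * (g.1 * k * (g⁻¹ : GL I4 F).1) * g.1 := by simp only [mul_assoc]
          _ = (g⁻¹ : GL I4 F).1 * (g.1 * (g.1 * k * (g⁻¹ : GL I4 F).1) * (g⁻¹ : GL I4 F).1) * g.1 := h3.symm
          _ = ((g⁻¹ : GL I4 F).1 * g.1) * (g.1 * k * (g⁻¹ : GL I4 F).1) * ((g⁻¹ : GL I4 F).1 * g.1) := by simp only [mul_assoc]
          _ = g.1 * k * (g⁻¹ : GL I4 F).1 := by rw [hg1, one_mul, mul_one]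
      rw [h2]; exact hk
  · rw [trace_conj, hh, tg, trace_blocks, trace_zero, zero_add, trace_fin_two]
    have h : t / 2 + t / 2 = t := by field_simp; ring
    simpa only [_root_.Fin.isValue, _root_.Matrix.of_apply, _root_.Matrix.cons_val', _root_.Matrix.cons_val_zero, _root_.Matrix.cons_val_fin_one, _root_.Matrix.cons_val_one] using h

end Skew

end Cfsg.Agent.H328.Sp4TI
end

-- part: H64/Sp4Seven
section
/-!
# `T3 ⊄ T7` for `q = 5` (helper64, S5786 task 606)
-/

set_option autoImplicit false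

namespace Cfsg.Agent.H64.Sp4Seven

open Cfsg Cfsg.Geo Matrix
open Cfsg.Agent.H909.Sp4List Cfsg.Agent.H64.Sp4Base Cfsg.Agent.H64.Sp4Core
open Cfsg.Agent.H64.Sp4Types Cfsg.Agent.H64.Sp4Three
open Cfsg.Agent.ClassicalGeometry.SympBasic

universe u
variable {F : Type u} [Field F]

/-- In an absolutely irreducible group of order 32 with centre of order 2, an element of `R` is not a
combination of elements of other cosets of the centre. -/
theorem not_mem_span {R : Subgroup (GL I4 F)} (habs : ActsAbsolutelyIrreducibly (matrixSet R))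
    (h32 : Nat.card R = 32) (hz : Nat.card (Subgroup.center R) = 2) (S : Set R) (x : R)
    (hx : ∀ y ∈ S, x⁻¹ * y ∉ Subgroup.center R) :
    ((x : GL I4 F) : Matrix I4 I4 F) ∉
      Submodule.span F ((fun y : R => ((y : GL I4 F) : Matrix I4 I4 F)) '' S) := by
  classical
  have hfin : Finite R := Nat.finite_of_card_ne_zero (by rw [h32]; norm_num)
  -- central elements are scalars
  have hsc : ∀ y ∈ Subgroup.center R, ∃ c : F, ((y : GL I4 F) : Matrix I4 I4 F) = c • 1 := by
    intro y hy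
    apply habs.2
    rintro _ ⟨s, hs, rfl⟩
    have h1 := (Subgroup.mem_center_iff.1 hy) ⟨s, hs⟩
    have h2 := congrArg (fun t : R => ((t : GL I4 F) : Matrix I4 I4 F)) h1
    simp only [Subgroup.coe_mul, Units.val_mul] at h2
    exact h2.symm
  let b : R ⧸ Subgroup.center R → Matrix I4 I4 F := fun c => ((c.out : GL I4 F) : Matrix I4 I4 F)
  have hb : ∀ y : R, ∃ c : F, ((y : GL I4 F) : Matrix I4 I4 F) =
      c • b (QuotientGroup.mk y) := by
    intro y
    obtain ⟨z, hz'⟩ := QuotientGroup.mk_out_eq_mul (Subgroup.center R) y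
    obtain ⟨c, hc⟩ := hsc _ (inv_mem z.2)
    refine ⟨c, ?_⟩
    have h1 : y = (QuotientGroup.mk y : R ⧸ Subgroup.center R).out * (z : R)⁻¹ := by
      rw [hz', mul_inv_cancel_right]
    have h2 := congrArg (fun t : R => ((t : GL I4 F) : Matrix I4 I4 F)) h1
    simp only [Subgroup.coe_mul, Units.val_mul] at h2
    rw [h2, hc, mul_smul_comm, mul_one]
  have hfq : Finite (R ⧸ Subgroup.center R) := inferInstance
  have : Fintype (R ⧸ Subgroup.center R) := Fintype.ofFinite _
  have hcard : Fintype.card (R ⧸ Subgroup.center R) = Module.finrank F (Matrix I4 I4 F) := by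
    have h := Subgroup.card_eq_card_quotient_mul_card_subgroup (Subgroup.center R)
    rw [h32, hz] at h
    have h16 : Fintype.card (R ⧸ Subgroup.center R) = 16 := by
      rw [← Nat.card_eq_fintype_card]
      omega
    rw [h16, Module.finrank_matrix]
    simp
  have hspan : ⊤ ≤ Submodule.span F (Set.range b) := by
    rw [← Cfsg.Agent.H920.span_eq_top habs, Submodule.span_le]
    rintro _ ⟨s, hs, rfl⟩
    obtain ⟨c, hc⟩ := hb ⟨s, hs⟩
    show (s : Matrix I4 I4 F) ∈ _
    rw [show (s : Matrix I4 I4 F) = _ from hc]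
    exact Submodule.smul_mem _ c (Submodule.subset_span ⟨_, rfl⟩)
  have hli := linearIndependent_of_top_le_span_of_card_eq_finrank hspan hcard
  intro hmem
  have h1 : (QuotientGroup.mk x : R ⧸ Subgroup.center R) ∉
      (QuotientGroup.mk '' S : Set (R ⧸ Subgroup.center R)) := by
    rintro ⟨y, hy, hyx⟩
    exact hx y hy (QuotientGroup.eq.1 hyx.symm)
  have h2 := hli.notMem_span_image h1
  apply h2
  obtain ⟨c, hc⟩ := hb x
  have hc0 : c ≠ 0 := by
    rintro rfl
    rw [zero_smul] at hc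
    have h3 : ((x : GL I4 F) : Matrix I4 I4 F) * (((x : GL I4 F)⁻¹ : GL I4 F) : Matrix I4 I4 F)
        = 1 := by rw [← Units.val_mul, mul_inv_cancel, Units.val_one]
    rw [hc, zero_mul] at h3
    exact zero_ne_one h3
  have h3 : b (QuotientGroup.mk x) = c⁻¹ • ((x : GL I4 F) : Matrix I4 I4 F) := by
    rw [hc, smul_smul, inv_mul_cancel₀ hc0, one_smul]
  rw [h3]
  apply Submodule.smul_mem
  refine Submodule.span_le.2 ?_ hmem
  rintro _ ⟨y, hy, rfl⟩
  obtain ⟨c', hc'⟩ := hb y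
  show ((y : GL I4 F) : Matrix I4 I4 F) ∈ _
  rw [hc']
  exact Submodule.smul_mem _ _ (Submodule.subset_span ⟨_, ⟨y, hy, rfl⟩, rfl⟩)

theorem conj_relation (N x : Matrix I4 I4 F) (hN : N * N = 0) :
    x = (1 + N) * ((1 + N) * ((1 + N) * x * (1 - N)) * (1 - N)) * (1 - N) -
      (3 : F) • ((1 + N) * ((1 + N) * x * (1 - N)) * (1 - N)) + (3 : F) • ((1 + N) * x * (1 - N)) := by
  have e2 : (1 + N) * (1 + N) = 1 + (2 : F) • N := by
    have h : (1 + N) * (1 + N) = 1 + N + N + N * N := by noncomm_ring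
    rw [h, hN, two_smul]
    abel
  have e2' : (1 - N) * (1 - N) = 1 - (2 : F) • N := by
    have h : (1 - N) * (1 - N) = 1 - N - N + N * N := by noncomm_ring
    rw [h, hN, two_smul]
    abel
  have e3 : (1 + N) * (1 + (2 : F) • N) = 1 + (3 : F) • N := by
    have h : (1 + N) * (1 + (2 : F) • N) = 1 + (2 : F) • N + N + (2 : F) • (N * N) := by
      rw [mul_add, mul_one, mul_smul_comm, add_mul, one_mul, smul_add]
      abel
    rw [h, hN, smul_zero, show (3 : F) = 1 + 2 by norm_num, add_smul, one_smul]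
    abel
  have e3' : (1 - (2 : F) • N) * (1 - N) = 1 - (3 : F) • N := by
    have h : (1 - (2 : F) • N) * (1 - N) = 1 - (2 : F) • N - N + (2 : F) • (N * N) := by
      rw [mul_sub, mul_one, sub_mul, one_mul, smul_mul_assoc]
      abel
    rw [h, hN, smul_zero, show (3 : F) = 1 + 2 by norm_num, add_smul, one_smul]
    abel
  have f2 : (1 + N) * ((1 + N) * x * (1 - N)) * (1 - N) =
      (1 + (2 : F) • N) * x * (1 - (2 : F) • N) := by
    rw [← e2, ← e2']
    simp only [mul_assoc]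
  have f3 : (1 + N) * ((1 + N) * ((1 + N) * x * (1 - N)) * (1 - N)) * (1 - N) =
      (1 + (3 : F) • N) * x * (1 - (3 : F) • N) := by
    rw [f2, ← e3, ← e3']
    simp only [mul_assoc]
  rw [f3, f2]
  simp only [add_mul, mul_sub, mul_one, one_mul, smul_mul_assoc, mul_smul_comm, smul_smul,
    smul_add, smul_sub]
  module

theorem T3_T7 [Fintype F] (h5 : Fintype.card F = 5) {D : Fin 2 → Submodule F (I4 → F)}
    (hD : IsMDecomposition 2 D) (hs : ∀ i, IsTotallySingularFor (sympForm 2 F) (D i))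
    {L : Subgroup (GL I4 F)} (hL : T7 L) (hle : decompositionStabilizer D ⊓ spGL 2 F ≤ L) :
    False := by
  obtain ⟨p, R, hp, hc, hR, habs, hsim, h32, hz, hm, rfl⟩ := hL
  -- the element `g`
  obtain ⟨v, hv, hv0⟩ := exists_ne hD 0
  obtain ⟨w, hw, hw0, hvw⟩ := exists_perp hD hs (show (0 : Fin 2) ≠ 1 by decide) hv
  obtain ⟨g, hg, hgx⟩ := exists_mem hD (two v w (fr w) (fr v)) (by
    intro x y
    simp only [two_apply, fr_apply, sympForm_add_left, sympForm_add_right, sympForm_smul_left,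
      sympForm_smul_right, sympForm_self, sympForm_swap v y, sympForm_swap w y,
      sympForm_swap w v, hvw]
    ring) (by
    intro i x hx
    rw [two_apply, fr_apply, fr_apply]
    rcases fin2_or 0 1 (by decide) i with rfl | rfl
    · rw [hs 0 x hx v hv, zero_smul, add_zero]
      exact (D 0).add_mem hx ((D 0).smul_mem _ hv)
    · rw [hs 1 x hx w hw, zero_smul, add_zero]
      exact (D 1).add_mem hx ((D 1).smul_mem _ hw))
  set N : Matrix I4 I4 F := (g : Matrix I4 I4 F) - 1 with hN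
  have hNx : ∀ x, N *ᵥ x = sympForm 2 F x w • v + sympForm 2 F x v • w := by
    intro x
    rw [hN, Matrix.sub_mulVec, hgx, Matrix.one_mulVec, two_apply, fr_apply, fr_apply]
    abel
  have hNN : N * N = 0 := by
    apply Matrix.toLin'.injective
    refine LinearMap.ext fun x => ?_
    rw [Matrix.toLin'_mul, LinearMap.comp_apply, Matrix.toLin'_apply, Matrix.toLin'_apply, hNx,
      hNx, map_zero, LinearMap.zero_apply]
    simp only [sympForm_add_left, sympForm_smul_left, sympForm_self, hvw, sympForm_swap w v]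
    simp
  have hg1 : (g : Matrix I4 I4 F) = 1 + N := by rw [hN]; abel
  have e1 : ((g⁻¹ : GL I4 F) : Matrix I4 I4 F) = 1 - N := by
    have h1 : (g : Matrix I4 I4 F) * (1 - N) = 1 := by
      have h : (1 + N) * (1 - N) = 1 - N * N := by noncomm_ring
      rw [hg1, h, hNN, sub_zero]
    calc ((g⁻¹ : GL I4 F) : Matrix I4 I4 F) = ((g⁻¹ : GL I4 F) : Matrix I4 I4 F) *
          ((g : Matrix I4 I4 F) * (1 - N)) := by rw [h1, mul_one]
      _ = 1 - N := by rw [← mul_assoc, ← Units.val_mul, inv_mul_cancel, Units.val_one, one_mul]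
  have h50 : (5 : F) = 0 := by
    have := FiniteField.cast_card_eq_zero F
    rw [h5] at this
    exact_mod_cast this
  have hgpow : g ^ 5 = 1 := by
    apply Units.ext
    rw [Units.val_pow_eq_pow_val, hg1, Units.val_one]
    have hn : ∀ n : ℕ, (1 + N) ^ n = 1 + (n : F) • N := by
      intro n
      induction n with
      | zero => simp
      | succ n ih =>
        rw [pow_succ, ih, add_mul, one_mul, mul_add, mul_one, smul_mul_assoc, hNN, smul_zero,
          add_zero, Nat.cast_succ, add_smul, one_smul]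
        abel
    rw [hn, show ((5 : ℕ) : F) = 0 by exact_mod_cast h50, zero_smul, add_zero]
  -- `g` normalises `R`
  have hgR : ∀ x ∈ R, g * x * g⁻¹ ∈ R := by
    intro x hx
    have := (hle hg).1
    exact (Subgroup.mem_normalizer_iff.1 this x).1 hx
  -- `g` does not centralise `R`
  obtain ⟨x, hx, hgx'⟩ : ∃ x ∈ R, g * x * g⁻¹ ≠ x := by
    by_contra hcon
    push Not at hcon
    obtain ⟨c, hc⟩ := habs.2 (g : Matrix I4 I4 F) (by
      rintro _ ⟨s, hs', rfl⟩
      have h1 := hcon s hs'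
      have h2 : g * s = s * g := by
        exact mul_inv_eq_iff_eq_mul.1 h1
      have h3 := congrArg (fun t : GL I4 F => (t : Matrix I4 I4 F)) h2
      simpa only [Units.val_mul] using h3)
    -- then `N = (c - 1)`, nilpotent, so zero
    have h3 : N = (c - 1) • (1 : Matrix I4 I4 F) := by
      rw [hN, hc, sub_smul, one_smul]
    have h4 : (c - 1) * (c - 1) = 0 := by
      have h5' := hNN
      rw [h3, smul_mul_smul_comm, mul_one, smul_eq_zero] at h5'
      exact h5'.resolve_right one_ne_zero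
    have h6 : c - 1 = 0 := mul_self_eq_zero.1 h4
    rw [h6, zero_smul] at h3
    obtain ⟨y, hy⟩ := exists_pair hw0
    have h7 := hNx y
    rw [h3, Matrix.zero_mulVec] at h7
    have h8 : sympForm 2 F y w • v + sympForm 2 F y v • w = 0 := h7.symm
    have h9 : sympForm 2 F y w • v = 0 := by
      apply inter hD (show (0 : Fin 2) ≠ 1 by decide) ((D 0).smul_mem _ hv)
      rw [eq_neg_of_add_eq_zero_left h8]
      exact (D 1).neg_mem ((D 1).smul_mem _ hw)
    rcases smul_eq_zero.1 h9 with h | h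
    · apply hy
      rw [sympForm_swap, h, neg_zero]
    · exact hv0 h
  -- central elements square to one
  have hzsq : ∀ y ∈ Subgroup.center R, y ^ 2 = 1 := by
    intro y hy
    have h1 : (⟨y, hy⟩ : Subgroup.center R) ^ Nat.card (Subgroup.center R) = 1 := pow_card_eq_one'
    rw [hz] at h1
    exact congrArg Subtype.val h1
  -- conjugation by a power of `g`
  have hconj : ∀ n : ℕ, ∀ y ∈ R, g ^ n * y * (g ^ n)⁻¹ ∈ R := by
    intro n
    induction n with
    | zero => intro y hy; simpa using hy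
    | succ n ih =>
      intro y hy
      have := hgR _ (ih y hy)
      rw [pow_succ', _root_.mul_inv_rev]
      simpa only [mul_assoc] using this
  have hscal : ∀ y : R, y ∈ Subgroup.center R → ∀ t : GL I4 F, (y : GL I4 F) * t = t * y := by
    intro y hy t
    have hsc : ∃ c : F, ((y : GL I4 F) : Matrix I4 I4 F) = c • 1 := by
      apply habs.2
      rintro _ ⟨s, hs, rfl⟩
      have h1 := (Subgroup.mem_center_iff.1 hy) ⟨s, hs⟩
      have h2 := congrArg (fun t : R => ((t : GL I4 F) : Matrix I4 I4 F)) h1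
      simp only [Subgroup.coe_mul, Units.val_mul] at h2
      exact h2.symm
    obtain ⟨c, hc⟩ := hsc
    apply Units.ext
    rw [Units.val_mul, Units.val_mul, hc, smul_mul_assoc, mul_smul_comm, one_mul, mul_one]
  -- if `h = g ^ n` fixes the coset of `x`, it centralises `x`
  have hfix : ∀ n : ℕ, (⟨x, hx⟩ : R)⁻¹ * ⟨g ^ n * x * (g ^ n)⁻¹, hconj n x hx⟩ ∈
      Subgroup.center R → g ^ n * x * (g ^ n)⁻¹ = x := by
    intro n hn
    set t : R := (⟨x, hx⟩ : R)⁻¹ * ⟨g ^ n * x * (g ^ n)⁻¹, hconj n x hx⟩ with ht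
    have h1 : g ^ n * x * (g ^ n)⁻¹ = x * (t : GL I4 F) := by
      rw [ht, Subgroup.coe_mul, Subgroup.coe_inv, mul_inv_cancel_left]
    have hcomm := hscal t hn
    have h2 : ∀ m : ℕ, (g ^ n) ^ m * x * ((g ^ n) ^ m)⁻¹ = x * (t : GL I4 F) ^ m := by
      intro m
      induction m with
      | zero => simp
      | succ m ih =>
        calc (g ^ n) ^ (m + 1) * x * ((g ^ n) ^ (m + 1))⁻¹
            = (g ^ n) * ((g ^ n) ^ m * x * ((g ^ n) ^ m)⁻¹) * (g ^ n)⁻¹ := by
              rw [pow_succ', _root_.mul_inv_rev]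
              simp only [mul_assoc]
          _ = (g ^ n) * (x * (t : GL I4 F) ^ m) * (g ^ n)⁻¹ := by rw [ih]
          _ = (g ^ n * x * (g ^ n)⁻¹) * (t : GL I4 F) ^ m := by
              have h3 : (t : GL I4 F) ^ m * (g ^ n)⁻¹ = (g ^ n)⁻¹ * (t : GL I4 F) ^ m :=
                ((show Commute (t : GL I4 F) (g ^ n)⁻¹ from hcomm _).pow_left m).eq
              rw [← mul_assoc, mul_assoc _ ((t : GL I4 F) ^ m), h3]
              simp only [mul_assoc]
          _ = x * (t : GL I4 F) ^ (m + 1) := by rw [h1, pow_succ', mul_assoc]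
    have h3 := h2 5
    rw [← pow_mul, mul_comm n 5, pow_mul, hgpow, one_pow, one_mul, inv_one, mul_one] at h3
    have h4 : (t : GL I4 F) ^ 5 = 1 := by
      have := h3.symm
      rwa [mul_eq_left] at this
    have h5' : (t : GL I4 F) ^ 2 = 1 := by
      have := hzsq t hn
      have := congrArg (fun s : R => (s : GL I4 F)) this
      simpa only [Subgroup.coe_pow, Subgroup.coe_one] using this
    have h6 : (t : GL I4 F) = 1 := by
      have : (t : GL I4 F) ^ 5 = ((t : GL I4 F) ^ 2) ^ 2 * (t : GL I4 F) := by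
        rw [← pow_mul, ← pow_succ]
      rw [h4, h5', one_pow, one_mul] at this
      exact this.symm
    rw [h1, h6, mul_one]
  have hfix' : ∀ n k : ℕ, (g ^ n) ^ k = g → g ^ n * x * (g ^ n)⁻¹ ≠ x := by
    intro n k hnk h
    apply hgx'
    have h1 : Commute (g ^ n) x := by
      show g ^ n * x = x * g ^ n
      exact mul_inv_eq_iff_eq_mul.1 h
    have h2 : Commute g x := by
      have := h1.pow_left k
      rwa [hnk] at this
    rw [h2.eq, mul_inv_cancel_right]
  -- conclusion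
  let X : ℕ → R := fun n => ⟨g ^ n * x * (g ^ n)⁻¹, hconj n x hx⟩
  have hnot := not_mem_span habs h32 hz {y | y = X 1 ∨ y = X 2 ∨ y = X 3} ⟨x, hx⟩ (by
    rintro y (rfl | rfl | rfl) hcen
    · exact hfix' 1 1 (by rw [pow_one, pow_one]) (hfix 1 hcen)
    · exact hfix' 2 3 (by rw [← pow_mul, show 2 * 3 = 5 + 1 by norm_num, pow_succ, hgpow,
        one_mul]) (hfix 2 hcen)
    · exact hfix' 3 2 (by rw [← pow_mul, show 3 * 2 = 5 + 1 by norm_num, pow_succ, hgpow,
        one_mul]) (hfix 3 hcen))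
  apply hnot
  have hX : ∀ n, (((X n : R) : GL I4 F) : Matrix I4 I4 F) ∈ Submodule.span F
      ((fun y : R => ((y : GL I4 F) : Matrix I4 I4 F)) '' {y | y = X 1 ∨ y = X 2 ∨ y = X 3}) ∨
      ¬ (n = 1 ∨ n = 2 ∨ n = 3) := by
    intro n
    by_cases hn : n = 1 ∨ n = 2 ∨ n = 3
    · left
      apply Submodule.subset_span
      refine ⟨X n, ?_, rfl⟩
      rcases hn with rfl | rfl | rfl
      · exact Or.inl rfl
      · exact Or.inr (Or.inl rfl)
      · exact Or.inr (Or.inr rfl)
    · right; exact hn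
  have hX1 := (hX 1).resolve_right (by simp)
  have hX2 := (hX 2).resolve_right (by simp)
  have hX3 := (hX 3).resolve_right (by simp)
  have key := conj_relation N (x : Matrix I4 I4 F) hNN
  have m1 : (((X 1 : R) : GL I4 F) : Matrix I4 I4 F) =
      (1 + N) * (x : Matrix I4 I4 F) * (1 - N) := by
    show ((g ^ 1 * x * (g ^ 1)⁻¹ : GL I4 F) : Matrix I4 I4 F) = _
    rw [pow_one, Units.val_mul, Units.val_mul, e1, hg1]
  have m2 : (((X 2 : R) : GL I4 F) : Matrix I4 I4 F) =
      (1 + N) * ((1 + N) * (x : Matrix I4 I4 F) * (1 - N)) * (1 - N) := by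
    show ((g ^ 2 * x * (g ^ 2)⁻¹ : GL I4 F) : Matrix I4 I4 F) = _
    rw [pow_two, _root_.mul_inv_rev, show g * g * x * (g⁻¹ * g⁻¹) = g * (g * x * g⁻¹) * g⁻¹ by
      simp only [mul_assoc]]
    simp only [Units.val_mul]
    rw [e1, hg1]
  have m3 : (((X 3 : R) : GL I4 F) : Matrix I4 I4 F) =
      (1 + N) * ((1 + N) * ((1 + N) * (x : Matrix I4 I4 F) * (1 - N)) * (1 - N)) * (1 - N) := by
    show ((g ^ 3 * x * (g ^ 3)⁻¹ : GL I4 F) : Matrix I4 I4 F) = _
    rw [show g ^ 3 = g * g * g by rw [pow_succ, pow_two], _root_.mul_inv_rev, _root_.mul_inv_rev,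
      show g * g * g * x * (g⁻¹ * (g⁻¹ * g⁻¹)) = g * (g * (g * x * g⁻¹) * g⁻¹) * g⁻¹ by
      simp only [mul_assoc]]
    simp only [Units.val_mul]
    rw [e1, hg1]
  show (x : Matrix I4 I4 F) ∈ _
  rw [key, ← m3, ← m2, ← m1]
  exact Submodule.add_mem _ (Submodule.sub_mem _ hX3 (Submodule.smul_mem _ _ hX2))
    (Submodule.smul_mem _ _ hX1)

end Cfsg.Agent.H64.Sp4Seven
end

-- part: H909/Sp4Geom
section
/-!
# The geometric maximal subgroups of `Sp₄(q)`, `q` odd (helper909)
-/

set_option autoImplicit false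

namespace Cfsg.Agent.H909.Sp4Geom

open Cfsg Cfsg.Geo Matrix
open scoped commutatorElement
open Cfsg.Agent.H909.Sp4List Cfsg.Agent.H909.Sp4Arith

universe u

variable {F : Type u} [Field F]

theorem mem_stab_of_map {W : Submodule F (I4 → F)} {g : GL I4 F}
    (h : W.map (Matrix.toLin' (g : Matrix I4 I4 F)) = W) : g ∈ subspaceStabilizer W := by
  intro v
  constructor
  · intro hv
    rw [SetLike.mem_coe] at hv ⊢
    rw [← h]
    exact ⟨v, hv, by rw [Matrix.toLin'_apply]; rfl⟩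
  · intro hv
    rw [SetLike.mem_coe] at hv ⊢
    rw [← h] at hv
    obtain ⟨w, hw, hwv⟩ := hv
    rw [Matrix.toLin'_apply] at hwv
    have h1 : v = w := by
      have h2 : ((g⁻¹ : GL I4 F) : Matrix I4 I4 F) *ᵥ ((g : Matrix I4 I4 F) *ᵥ w) =
        ((g⁻¹ : GL I4 F) : Matrix I4 I4 F) *ᵥ ((g : Matrix I4 I4 F) *ᵥ v) := by
        rw [hwv]; rfl
      rw [Matrix.mulVec_mulVec, Matrix.mulVec_mulVec, ← Units.val_mul, inv_mul_cancel,
        Units.val_one, Matrix.one_mulVec, Matrix.one_mulVec] at h2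
      exact h2.symm
    rw [h1]; exact hw

theorem map_of_mem_stab {W : Submodule F (I4 → F)} {g : GL I4 F}
    (h : g ∈ subspaceStabilizer W) : W.map (Matrix.toLin' (g : Matrix I4 I4 F)) ≤ W := by
  rintro _ ⟨v, hv, rfl⟩
  rw [Matrix.toLin'_apply]
  exact (h v).1 hv

/-- A perfect group permuting two subspaces fixes both. -/
theorem perfect_fix {D : Fin 2 → Submodule F (I4 → F)} {P : Subgroup (GL I4 F)} (hP : ⁅P, P⁆ = P)
    (hle : P ≤ decompositionStabilizer D) (i : Fin 2) : P ≤ subspaceStabilizer (D i) := by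
  rw [← hP, Subgroup.commutator_le]
  intro g hg h hh
  obtain ⟨σ, hσ⟩ := hle hg
  obtain ⟨τ, hτ⟩ := hle hh
  obtain ⟨σ', hσ'⟩ := hle (P.inv_mem hg)
  obtain ⟨τ', hτ'⟩ := hle (P.inv_mem hh)
  have hcomm : ∀ a b : Equiv.Perm (Fin 2), a * b = b * a := by decide
  apply mem_stab_of_map
  have key : ∀ j, (D j).map (Matrix.toLin' ((⁅g, h⁆ : GL I4 F) : Matrix I4 I4 F)) =
      D (σ (τ (σ' (τ' j)))) := by
    intro j
    rw [commutatorElement_def, Units.val_mul, Units.val_mul, Units.val_mul, Matrix.toLin'_mul,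
      Matrix.toLin'_mul, Matrix.toLin'_mul, Submodule.map_comp, Submodule.map_comp,
      Submodule.map_comp, hτ', hσ', hτ, hσ]
  have h1 : ∀ j, D (σ (σ' j)) = D j := by
    intro j
    rw [← hσ, ← hσ', ← Submodule.map_comp, ← Matrix.toLin'_mul, ← Units.val_mul, mul_inv_cancel,
      Units.val_one, Matrix.toLin'_one, Submodule.map_id]
  have h2 : ∀ j, D (τ (τ' j)) = D j := by
    intro j
    rw [← hτ, ← hτ', ← Submodule.map_comp, ← Matrix.toLin'_mul, ← Units.val_mul, mul_inv_cancel,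
      Units.val_one, Matrix.toLin'_one, Submodule.map_id]
  have h3 : ∀ j, τ (σ' j) = σ' (τ j) := by
    intro j
    have := congrArg (fun x : Equiv.Perm (Fin 2) => x j) (hcomm τ σ')
    simpa using this
  rw [key, h3, h1, h2]

theorem not_fix_of_irr {D : Fin 2 → Submodule F (I4 → F)} (hD : IsMDecomposition 2 D)
    {P : Subgroup (GL I4 F)} (hirr : ActsAbsolutelyIrreducibly (matrixSet P)) (hP : ⁅P, P⁆ = P)
    (hle : P ≤ decompositionStabilizer D) : False := by
  have h1 := perfect_fix hP hle 0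
  have h2 := hD.finrank_eq 0
  rcases hirr.1 (D 0) (by
    rintro _ ⟨g, hg, rfl⟩
    exact map_of_mem_stab (h1 hg)) with h | h
  · rw [h, finrank_bot] at h2
    omega
  · rw [h, finrank_top, Module.finrank_fintype_fun_eq_card] at h2
    simp [I4] at h2

/-- A perfect group normalising a quadratic field of unitary type is not absolutely irreducible. -/
theorem not_norm_of_irr (h2 : (2 : F) ≠ 0) {K : Subalgebra F (Matrix I4 I4 F)}
    (hK : IsFieldSubalgebra 2 K) (hac : IsAdjointClosedFor (sympForm 2 F) K)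
    (hns : ¬ IsSelfAdjointFor (sympForm 2 F) K)
    {P : Subgroup (GL I4 F)} (hirr : ActsAbsolutelyIrreducibly (matrixSet P)) (hP : ⁅P, P⁆ = P)
    (hle : P ≤ subalgebraNormalizer K) : False := by
  obtain ⟨s, hsK, b, hs2, hb, -, hgen⟩ := Cfsg.Agent.H909.exists_skew_generator h2 hK hac hns
  have hb0 : b ≠ 0 := fun h => hb ⟨0, by rw [h, mul_zero]⟩
  -- conjugates of `s`
  have hconj : ∀ g ∈ P, (g : Matrix I4 I4 F) * s * ((g⁻¹ : GL I4 F) : Matrix I4 I4 F) = s ∨
      (g : Matrix I4 I4 F) * s * ((g⁻¹ : GL I4 F) : Matrix I4 I4 F) = -s := by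
    intro g hg
    set x := (g : Matrix I4 I4 F) * s * ((g⁻¹ : GL I4 F) : Matrix I4 I4 F) with hx
    have hxK : x ∈ K := ((hle hg) s).1 hsK
    have hgi : ((g⁻¹ : GL I4 F) : Matrix I4 I4 F) * (g : Matrix I4 I4 F) = 1 := by
      rw [← Units.val_mul, inv_mul_cancel, Units.val_one]
    have hgi' : (g : Matrix I4 I4 F) * ((g⁻¹ : GL I4 F) : Matrix I4 I4 F) = 1 := by
      rw [← Units.val_mul, mul_inv_cancel, Units.val_one]
    have hx2 : x * x = b • 1 := by
      calc x * x = (g : Matrix I4 I4 F) * s * (((g⁻¹ : GL I4 F) : Matrix I4 I4 F) *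
            (g : Matrix I4 I4 F)) * s * ((g⁻¹ : GL I4 F) : Matrix I4 I4 F) := by
            rw [hx]; simp only [Matrix.mul_assoc]
        _ = (g : Matrix I4 I4 F) * (s * s) * ((g⁻¹ : GL I4 F) : Matrix I4 I4 F) := by
            rw [hgi, Matrix.mul_one]; simp only [Matrix.mul_assoc]
        _ = b • 1 := by
            rw [hs2, Matrix.mul_smul, Matrix.mul_one, Matrix.smul_mul, hgi']
    have hprod : (x - s) * (x + s) = 0 := by
      rw [sub_mul, mul_add, mul_add, hx2, hs2, hK.comm x hxK s hsK]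
      abel
    by_cases h1 : x - s = 0
    · exact Or.inl (sub_eq_zero.1 h1)
    · right
      obtain ⟨y, hyK, hy⟩ := hK.inv (x - s) (K.sub_mem hxK hsK) h1
      have h3 : y * (x - s) = 1 := by rw [hK.comm y hyK _ (K.sub_mem hxK hsK), hy]
      have h4 : x + s = 0 := by
        calc x + s = y * (x - s) * (x + s) := by rw [h3, one_mul]
          _ = 0 := by rw [mul_assoc, hprod, mul_zero]
      exact eq_neg_of_add_eq_zero_left h4
  -- the centraliser of `s`
  let C : Subgroup (GL I4 F) :=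
    { carrier := {g | (g : Matrix I4 I4 F) * s * ((g⁻¹ : GL I4 F) : Matrix I4 I4 F) = s}
      mul_mem' := by
        intro g h hg hh
        rw [Set.mem_ofPred_eq] at hg hh ⊢
        calc ((g * h : GL I4 F) : Matrix I4 I4 F) * s * (((g * h)⁻¹ : GL I4 F) : Matrix I4 I4 F) =
            (g : Matrix I4 I4 F) * ((h : Matrix I4 I4 F) * s * ((h⁻¹ : GL I4 F) : Matrix I4 I4 F)) *
              ((g⁻¹ : GL I4 F) : Matrix I4 I4 F) := by
              rw [_root_.mul_inv_rev, Units.val_mul, Units.val_mul]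
              simp only [Matrix.mul_assoc]
          _ = s := by rw [hh, hg]
      one_mem' := by simp only [_root_.Matrix.coe_units_inv, _root_.Set.mem_ofPred_eq, _root_.Units.val_one, _root_.one_mul, _root_.inv_one, _root_.mul_one]
      inv_mem' := by
        intro g hg
        rw [Set.mem_ofPred_eq] at hg ⊢
        have hgi : ((g⁻¹ : GL I4 F) : Matrix I4 I4 F) * (g : Matrix I4 I4 F) = 1 := by
          rw [← Units.val_mul, inv_mul_cancel, Units.val_one]
        calc ((g⁻¹ : GL I4 F) : Matrix I4 I4 F) * s * (((g⁻¹)⁻¹ : GL I4 F) : Matrix I4 I4 F) =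
            ((g⁻¹ : GL I4 F) : Matrix I4 I4 F) * ((g : Matrix I4 I4 F) * s *
              ((g⁻¹ : GL I4 F) : Matrix I4 I4 F)) * (g : Matrix I4 I4 F) := by rw [hg, inv_inv]
          _ = (((g⁻¹ : GL I4 F) : Matrix I4 I4 F) * (g : Matrix I4 I4 F)) * s *
              (((g⁻¹ : GL I4 F) : Matrix I4 I4 F) * (g : Matrix I4 I4 F)) := by
              simp only [Matrix.mul_assoc]
          _ = s := by rw [hgi, one_mul, mul_one] }
  have hPC : P ≤ C := by
    rw [← hP, Subgroup.commutator_le]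
    intro g hg h hh
    change ((⁅g, h⁆ : GL I4 F) : Matrix I4 I4 F) * s * (((⁅g, h⁆)⁻¹ : GL I4 F) : Matrix I4 I4 F) = s
    have hact : ∀ a b : GL I4 F, ((a * b : GL I4 F) : Matrix I4 I4 F) * s *
        (((a * b)⁻¹ : GL I4 F) : Matrix I4 I4 F) =
        (a : Matrix I4 I4 F) * ((b : Matrix I4 I4 F) * s * ((b⁻¹ : GL I4 F) : Matrix I4 I4 F)) *
          ((a⁻¹ : GL I4 F) : Matrix I4 I4 F) := by
      intro a b
      rw [_root_.mul_inv_rev, Units.val_mul, Units.val_mul]
      simp only [Matrix.mul_assoc]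
    have hneg : ∀ a : GL I4 F, (a : Matrix I4 I4 F) * (-s) * ((a⁻¹ : GL I4 F) : Matrix I4 I4 F) =
        -((a : Matrix I4 I4 F) * s * ((a⁻¹ : GL I4 F) : Matrix I4 I4 F)) := by
      intro a; rw [mul_neg, neg_mul]
    -- signs
    have hsgn : ∀ a ∈ P, ∃ ε : F, ε * ε = 1 ∧ (a : Matrix I4 I4 F) * s *
        ((a⁻¹ : GL I4 F) : Matrix I4 I4 F) = ε • s := by
      intro a ha
      rcases hconj a ha with h1 | h1
      · exact ⟨1, by ring, by rw [h1, one_smul]⟩
      · exact ⟨-1, by ring, by rw [h1, neg_smul, one_smul]⟩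
    have hinv : ∀ (a : GL I4 F) (ε : F), ε * ε = 1 → (a : Matrix I4 I4 F) * s *
        ((a⁻¹ : GL I4 F) : Matrix I4 I4 F) = ε • s → ((a⁻¹ : GL I4 F) : Matrix I4 I4 F) * s *
        (((a⁻¹)⁻¹ : GL I4 F) : Matrix I4 I4 F) = ε • s := by
      intro a ε hε ha
      have h1 := hact a⁻¹ a
      rw [ha, inv_mul_cancel, Matrix.mul_smul, Matrix.smul_mul, inv_one, Units.val_one, one_mul,
        mul_one] at h1
      calc _ = (ε * ε) • (((a⁻¹ : GL I4 F) : Matrix I4 I4 F) * s *
          (((a⁻¹)⁻¹ : GL I4 F) : Matrix I4 I4 F)) := by rw [hε, one_smul]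
        _ = ε • (ε • (((a⁻¹ : GL I4 F) : Matrix I4 I4 F) * s *
          (((a⁻¹)⁻¹ : GL I4 F) : Matrix I4 I4 F))) := by rw [mul_smul]
        _ = ε • s := by rw [← h1]
    obtain ⟨ε, hε, he⟩ := hsgn g hg
    obtain ⟨δ, hδ, hd⟩ := hsgn h hh
    have he' := hinv g ε hε he
    have hd' := hinv h δ hδ hd
    have hsm : ∀ (a : GL I4 F) (c : F), (a : Matrix I4 I4 F) * (c • s) *
        ((a⁻¹ : GL I4 F) : Matrix I4 I4 F) = c • ((a : Matrix I4 I4 F) * s *
        ((a⁻¹ : GL I4 F) : Matrix I4 I4 F)) := by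
      intro a c; rw [Matrix.mul_smul, Matrix.smul_mul]
    rw [commutatorElement_def, hact, hd', hsm, hact, he', hsm, hact, hd, hsm, he, smul_smul,
      smul_smul, smul_smul]
    have : δ * ε * δ * ε = (δ * δ) * (ε * ε) := by ring
    rw [this, hδ, hε, one_mul, one_smul]
  obtain ⟨c, hc⟩ := hirr.2 s (by
    rintro _ ⟨g, hg, rfl⟩
    have h1 : (g : Matrix I4 I4 F) * s * ((g⁻¹ : GL I4 F) : Matrix I4 I4 F) = s := hPC hg
    have hgi : ((g⁻¹ : GL I4 F) : Matrix I4 I4 F) * (g : Matrix I4 I4 F) = 1 := by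
      rw [← Units.val_mul, inv_mul_cancel, Units.val_one]
    calc s * (g : Matrix I4 I4 F) = (g : Matrix I4 I4 F) * s *
          (((g⁻¹ : GL I4 F) : Matrix I4 I4 F) * (g : Matrix I4 I4 F)) := by
          rw [← Matrix.mul_assoc, h1]
      _ = (g : Matrix I4 I4 F) * s := by rw [hgi, mul_one])
  apply hb
  refine ⟨c, ?_⟩
  have h3 : (c * c) • (1 : Matrix I4 I4 F) = b • 1 := by
    rw [← hs2, hc, Matrix.smul_mul, one_mul, smul_smul]
  have h4 := congrFun (congrFun h3 (Sum.inl 0)) (Sum.inl 0)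
  simpa using h4.symm

/-! ### orders -/

section Orders

variable [Fintype F]

theorem three_le (hodd : Odd (Fintype.card F)) : 3 ≤ Nat.card F := by
  have h1 : 1 < Nat.card F := Finite.one_lt_card
  rw [← Nat.card_eq_fintype_card] at hodd
  obtain ⟨k, hk⟩ := hodd
  omega

theorem card_S : Nat.card (spGL 2 F) = aS (Nat.card F) := by
  rw [Cfsg.Agent.H955.card_spGL, aS]
  simp only [Finset.prod_range_succ, _root_.Nat.card_eq_fintype_card, _root_.Nat.reducePow, _root_.Finset.range_one, _root_.Finset.prod_singleton, _root_.zero_add, _root_.mul_one, _root_.Nat.reduceAdd, _root_.Nat.reduceMul]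

theorem card_of_T2 (h2 : (2 : F) ≠ 0) {L : Subgroup (GL I4 F)} (h : T2 L) :
    Nat.card L = a2 (Nat.card F) := by
  obtain ⟨D, hD, rfl⟩ := h
  exact Cfsg.Agent.H930.Sp4Ord.card_T2 h2 hD

theorem card_of_T3 (h2 : (2 : F) ≠ 0) {L : Subgroup (GL I4 F)} (h : T3 L) :
    Nat.card L = a3 (Nat.card F) := by
  obtain ⟨-, D, hD, hs, rfl⟩ := h
  exact Cfsg.Agent.H328.Sp4TI.card_T3 h2 hD hs

theorem card_of_T4 (h2 : (2 : F) ≠ 0) {L : Subgroup (GL I4 F)} (h : T4 L) :
    Nat.card L = a4 (Nat.card F) := by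
  obtain ⟨K, hK, hsa, hkv, rfl⟩ := h
  exact Cfsg.Agent.H930.Sp4Ord.card_T4 h2 hK hsa hkv

theorem card_of_T5 (h2 : (2 : F) ≠ 0) {L : Subgroup (GL I4 F)} (h : T5 L) :
    Nat.card L = a5 (Nat.card F) := by
  obtain ⟨-, K, hK, hac, hns, rfl⟩ := h
  exact Cfsg.Agent.H930.Sp4Ord.card_T5 h2 hK hac hns

theorem sub_of_T6 {L : Subgroup (GL I4 F)} (h : T6 L) (h2 : (2 : F) ≠ 0) :
    ∃ F₀ : Subfield F, Nat.card F₀ ^ 2 ≤ Nat.card F ∧ F₀ ≠ ⊤ ∧ 2 ≤ Nat.card F₀ ∧
      Nat.card L ∣ a6 (Nat.card F₀) ∧ ∀ g ∈ L, (g : Matrix I4 I4 F).trace ^ 2 ∈ F₀ := by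
  obtain ⟨F₀, r, P, ζ, hr, hc, hζ, hP, rfl⟩ := h
  have h1 : 1 < Nat.card F₀ := Finite.one_lt_card
  rw [← Nat.card_eq_fintype_card] at hc
  have h3 : Nat.card F₀ ^ 2 ≤ Nat.card F := by
    rw [hc]; exact Nat.pow_le_pow_right (by omega) hr.two_le
  refine ⟨F₀, h3, ?_, h1, Cfsg.Agent.H97.Sp4Sub.card_T6_dvd h2 hζ hP, fun g hg =>
    Cfsg.Agent.H97.Sp4Sub.T6_trace h2 hζ hP hg⟩
  rintro rfl
  have h4 : Nat.card (⊤ : Subfield F) = Nat.card F :=
    Nat.card_congr (Subfield.topEquiv (K := F)).toEquiv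
  rw [h4] at h3 h1
  nlinarith only [h1, h3]

/-- If all traces occur, the group is not in a subfield group. -/
theorem not_T6_of_trace (h2 : (2 : F) ≠ 0) {M L : Subgroup (GL I4 F)} (hML : M ≤ L) (h : T6 L)
    (ht : ∀ t : F, ∃ g ∈ M, (g : Matrix I4 I4 F).trace = t) : False := by
  obtain ⟨F₀, -, htop, -, -, htr⟩ := sub_of_T6 h h2
  have hsq : ∀ t : F, t ^ 2 ∈ F₀ := by
    intro t
    obtain ⟨g, hg, rfl⟩ := ht t
    exact htr g (hML hg)
  apply htop
  rw [eq_top_iff]
  intro t _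
  have h1 : t = ((t + 1) ^ 2 - t ^ 2 - 1) / 2 := by
    field_simp
    ring
  rw [h1]
  have h3 : (2 : F) ∈ F₀ := by
    have : (2 : F) = 1 + 1 := by norm_num
    rw [this]; exact F₀.add_mem F₀.one_mem F₀.one_mem
  exact F₀.div_mem (F₀.sub_mem (F₀.sub_mem (hsq _) (hsq _)) F₀.one_mem) h3

theorem resl_cases (hodd : Odd (Fintype.card F)) {L : Subgroup (GL I4 F)} (hL : L ≤ spGL 2 F)
    (h : ResL L) :
    (∃ P, IsResidualCore L P ∧ (Nat.card F).Prime ∧ 5 ≤ Nat.card F ∧ Nat.card L ∣ 2880) ∨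
    (Nat.card F = 7 ∧ Nat.card L ∣ 10080) ∨
    (∃ f, 0 < f ∧ f + 1 < Nat.card F ∧ Nat.card L ∣ a8 f (Nat.card F)) := by
  obtain ⟨P, p, hcore, hp, hchar, h | h | h⟩ := h
  · obtain ⟨⟨e⟩, h1, h5, -⟩ := h
    left
    rw [← Nat.card_eq_fintype_card] at h1
    refine ⟨P, hcore, by rw [h1]; exact hp, by omega, Cfsg.Agent.H753.ResCard.card_A6 hL hcore e⟩
  · obtain ⟨⟨e⟩, h1⟩ := h
    right; left
    exact ⟨by rw [Nat.card_eq_fintype_card]; exact h1, Cfsg.Agent.H753.ResCard.card_A7 hL hcore e⟩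
  · obtain ⟨⟨e⟩, h5, h7⟩ := h
    right; right
    obtain ⟨n, -, hn⟩ := FiniteField.card F p
    refine ⟨n, n.2, ?_, ?_⟩
    · rw [Nat.card_eq_fintype_card, hn]
      exact Sp4Arith.lt_pow_self h5 n.2
    · exact Cfsg.Agent.H753.ResCard.card_L2 hp hn hodd (by omega) hL hcore e

end Orders

end Cfsg.Agent.H909.Sp4Geom
end

-- part: H909/Sp4GeomB
section
/-!
# The geometric maximal subgroups of `Sp₄(q)`, `q` odd: parts (2)-(5) (helper909)
-/

set_option autoImplicit false

namespace Cfsg.Agent.H909.Sp4Geom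

open Cfsg Cfsg.Geo Matrix
open Cfsg.Agent.H909.Sp4List Cfsg.Agent.H909.Sp4Arith

universe u

variable {F : Type u} [Field F] [Fintype F]

/-- the order of `T7` -/
def CardT7 (F : Type u) [Field F] [Fintype F] : Prop :=
  ∀ H : Subgroup (GL I4 F), T7 H → Nat.card H ∣ 3840

theorem eq_of_card {M L : Subgroup (GL I4 F)} (hML : M ≤ L) (h : Nat.card L ≤ Nat.card M) : M = L :=
  Subgroup.eq_of_le_of_card_ge hML h

theorem prime_of_T7 {L : Subgroup (GL I4 F)} (h : T7 L) : (Nat.card F).Prime := by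
  obtain ⟨p, R, hp, hc, -⟩ := h
  rw [Nat.card_eq_fintype_card, hc]; exact hp

theorem two_ne (hodd : Odd (Fintype.card F)) : (2 : F) ≠ 0 := by
  intro h2
  have : CharP F 2 := CharTwo.of_one_ne_zero_of_two_eq_zero one_ne_zero h2
  obtain ⟨n, -, hn⟩ := FiniteField.card F 2
  rw [hn] at hodd
  exact (Nat.not_even_iff_odd.2 hodd) (Even.pow_of_ne_zero even_two n.2.ne')

/-- The large types `T2`, `T4`. -/
theorem big_maximal (hodd : Odd (Fintype.card F)) (h88 : Res88 F) (h7 : CardT7 F)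
    {M : Subgroup (GL I4 F)} (hM : M ≤ spGL 2 F) (hT : T2 M ∨ T4 M) : IsMaximalIn (spGL 2 F) M := by
  have h2 := two_ne hodd
  have hq := three_le hodd
  have hodd' : Odd (Nat.card F) := by rw [Nat.card_eq_fintype_card]; exact hodd
  have hc : Nat.card M = a2 (Nat.card F) ∨ Nat.card M = a4 (Nat.card F) := by
    rcases hT with h | h
    · exact Or.inl (card_of_T2 h2 h)
    · exact Or.inr (card_of_T4 h2 h)
  have hlt : a2 (Nat.card F) ≤ Nat.card M := by
    rcases hc with h | h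
    · exact h.ge
    · rw [h]; exact (lt_a24 hq).le
  have hdvd2 : (Nat.card F) ^ 2 ∣ Nat.card M := by
    rcases hc with h | h
    · rw [h]; exact dvd_a2 (Nat.card F)
    · rw [h]; exact dvd_a4 (Nat.card F)
  refine maximal_of hM ?_ (fun L hL hML => ?_)
  · intro h
    have h1 : Nat.card M = aS (Nat.card F) := by rw [h]; exact card_S
    rcases hc with h3 | h3
    · exact (lt_a2 hq).ne (h3.symm.trans h1)
    · exact (lt_a4S hq).ne (h3.symm.trans h1)
  · have hdvd : Nat.card M ∣ Nat.card L := Subgroup.card_dvd_of_le hML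
    have hle : Nat.card M ≤ Nat.card L := Nat.le_of_dvd Nat.card_pos hdvd
    rcases list hodd h88 hL with h | h | h | h | h | h | h | h
    · exfalso
      refine Cfsg.Agent.H64.Sp4Three.irr_T2 h2 ?_ h hML
      rcases hT with h1 | h1
      · exact Or.inl h1
      · exact Or.inr (Or.inr (Or.inl h1))
    · have h1 := card_of_T2 h2 h
      exact eq_of_card hML (by rw [h1]; exact hlt)
    · have h1 := card_of_T3 h2 h
      have := lt_a3 hq
      exfalso; rw [h1] at hle; omega
    · have h1 := card_of_T4 h2 h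
      rcases hc with h3 | h3
      · exfalso
        rw [h1, h3] at hdvd
        -- `(Nat.card F)² - 1 ∣ (Nat.card F)² + 1`
        obtain ⟨k, hk⟩ := Nat.exists_eq_add_of_le' hq
        rw [hk] at hdvd
        rw [a2, a4, sub2, sub4] at hdvd
        have h4 : 2 * ((k + 3) ^ 2 * ((k + 2) * (k + 4) * ((k + 3) ^ 2 + 1))) =
          2 * (k + 3) ^ 2 * ((k + 2) * (k + 4)) * ((k + 3) ^ 2 + 1) := by ring
        have h5 : 2 * ((k + 3) * ((k + 2) * (k + 4))) ^ 2 =
          2 * (k + 3) ^ 2 * ((k + 2) * (k + 4)) * ((k + 2) * (k + 4)) := by ring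
        rw [h4, h5] at hdvd
        have h6 := Nat.dvd_of_mul_dvd_mul_left (by (clear * -; positivity)) hdvd
        have h7 : (k + 3) ^ 2 + 1 = (k + 2) * (k + 4) + 2 := by ring
        rw [h7] at h6
        have h8 := (Nat.dvd_add_right (dvd_refl ((k + 2) * (k + 4)))).1 h6
        have h9 := Nat.le_of_dvd (by norm_num) h8
        nlinarith only [h9]
      · exact eq_of_card hML (by rw [h1, h3])
    · have h1 := card_of_T5 h2 h
      have := lt_a5 hq
      exfalso; rw [h1] at hle; omega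
    · exfalso
      obtain ⟨F₀, h3, -, h4, h5, -⟩ := sub_of_T6 h h2
      have h6 := lt_a6 h4 h3
      have h8 := Nat.le_of_dvd (by
        rw [a6]
        have := pos_sub2 h4
        have := pos_sub4 h4
        positivity) h5
      exact absurd ((hlt.trans hle).trans h8) (not_le.2 h6)
    · exfalso
      have h3 := prime_of_T7 h
      refine no_sq_3840 h3 ?_ (hdvd2.trans (hdvd.trans (h7 L h)))
      rintro h4
      omega
    · exfalso
      rcases resl_cases hodd hL.1.le h with ⟨P, -, h3, h5, h6⟩ | ⟨h3, h6⟩ | ⟨f, h3, h5, h6⟩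
      · have h8 := (hdvd2.trans (hdvd.trans h6))
        have h9 := five_of_2880 h3 h5 ((Dvd.intro_left ((Nat.card F) ^ 1) (by ring)).trans h8)
        rw [h9] at h8
        revert h8; decide
      · have h8 := (hdvd2.trans (hdvd.trans h6))
        rw [h3] at h8
        revert h8; decide
      · have h8 := lt_a8 (f := f) hq (by omega)
        have h9 := Nat.le_of_dvd (by
          rw [a8]
          have := pos_sub2 (q := Nat.card F) (by omega)
          (clear * - hq h3 this; positivity)) h6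
        exact absurd ((hlt.trans hle).trans h9) (not_le.2 h8)

/-- the small types -/
theorem index_le {M L P : Subgroup (GL I4 F)} (hML : M ≤ L) (hP : ⁅P, P⁆ = P) (hPL : P ≤ L)
    (h4 : Nat.card L ≤ 4 * Nat.card M) : P ≤ M := by
  have h1 : (M.subgroupOf L).index ≤ 4 := by
    have h2 := Subgroup.card_mul_index (M.subgroupOf L)
    rw [Nat.card_congr (Subgroup.subgroupOfEquivOfLe hML).toEquiv] at h2
    have h3 : 0 < Nat.card M := Nat.card_pos
    by_contra hcon
    push Not at hcon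
    nlinarith
  have hP' : ⁅P.subgroupOf L, P.subgroupOf L⁆ = P.subgroupOf L := by
    apply Subgroup.map_injective L.subtype_injective
    rw [Subgroup.map_commutator, Subgroup.map_subgroupOf_eq_of_le hPL, hP]
  have h5 := Cfsg.Agent.Schreier.ClassBase.le_of_index_le_four hP' (M.subgroupOf L)
    Subgroup.index_ne_zero_of_finite h1
  intro x hx
  exact h5 (show (⟨x, hPL hx⟩ : L) ∈ P.subgroupOf L from hx)

theorem part3 (hodd : Odd (Fintype.card F)) (h88 : Res88 F) (h7 : CardT7 F)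
    (h5 : 5 ≤ Fintype.card F) {D : Fin 2 → Submodule F (I4 → F)} (hD : IsMDecomposition 2 D)
    (hs : ∀ i, IsTotallySingularFor (sympForm 2 F) (D i)) :
    IsMaximalIn (spGL 2 F) (decompositionStabilizer D ⊓ spGL 2 F) := by
  have h2 := two_ne hodd
  have hq := three_le hodd
  have hq5 : 5 ≤ (Nat.card F) := by rw [Nat.card_eq_fintype_card]; exact h5
  set M := decompositionStabilizer D ⊓ spGL 2 F with hMd
  have hT : T3 M := ⟨h5, D, hD, hs, rfl⟩
  have hc : Nat.card M = a3 (Nat.card F) := card_of_T3 h2 hT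
  refine maximal_of inf_le_right ?_ (fun L hL hML => ?_)
  · intro h
    have h1 : Nat.card M = aS (Nat.card F) := by rw [h]; exact card_S
    have h3 := lt_a2 hq
    have h4 := lt_a3 hq
    omega
  · have hdvd : Nat.card M ∣ Nat.card L := Subgroup.card_dvd_of_le hML
    have hle : Nat.card M ≤ Nat.card L := Nat.le_of_dvd Nat.card_pos hdvd
    rw [hc] at hdvd hle
    rcases list hodd h88 hL with h | h | h | h | h | h | h | h
    · exact (Cfsg.Agent.H64.Sp4Three.irr_T2 h2 (Or.inr (Or.inl hT)) h hML).elim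
    · exact (Cfsg.Agent.H64.Sp4Three.T3_T2 h5 hodd hD hs h hML).elim
    · exact eq_of_card hML (by rw [card_of_T3 h2 h, hc])
    · exfalso
      rw [card_of_T4 h2 h] at hdvd
      exact not_dvd_34 hq5 hdvd
    · exfalso
      rw [card_of_T5 h2 h] at hdvd
      exact not_dvd_35 hq5 hdvd
    · exact (not_T6_of_trace h2 hML h (Cfsg.Agent.H328.Sp4TI.T3_trace h2 hD hs)).elim
    · exfalso
      have h3 := five_of_3840 (prime_of_T7 h) hq5 (((dvd_a3 (Nat.card F)).trans hdvd).trans (h7 L h))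
      rw [Nat.card_eq_fintype_card] at h3
      exact Cfsg.Agent.H64.Sp4Seven.T3_T7 h3 hD hs h hML
    · exfalso
      rcases resl_cases hodd hL.1.le h with ⟨P, hcore, h3, h5', h6⟩ | ⟨h3, h6⟩ | ⟨f, h3, h5', h6⟩
      · have h8 : (Nat.card F) = 5 := five_of_2880 h3 h5' (((dvd_a3 (Nat.card F)).trans hdvd).trans h6)
        rw [h8, a3_five] at hdvd hc
        have h9 : P ≤ M := index_le hML hcore.perfect hcore.le (by
          have := Nat.le_of_dvd (by norm_num) h6
          omega)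
        exact not_fix_of_irr hD hcore.absIrred hcore.perfect (h9.trans inf_le_left)
      · rw [h3, a3_seven] at hdvd
        have := hdvd.trans h6
        revert this; decide
      · exact not_dvd_38 hq h3 h5' (hdvd.trans h6)

theorem part5 (hodd : Odd (Fintype.card F)) (h88 : Res88 F) (h7 : CardT7 F)
    (h5 : 5 ≤ Fintype.card F) {K : Subalgebra F (Matrix I4 I4 F)} (hK : IsFieldSubalgebra 2 K)
    (hac : IsAdjointClosedFor (sympForm 2 F) K) (hns : ¬ IsSelfAdjointFor (sympForm 2 F) K) :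
    IsMaximalIn (spGL 2 F) (subalgebraNormalizer K ⊓ spGL 2 F) := by
  have h2 := two_ne hodd
  have hq := three_le hodd
  have hq5 : 5 ≤ (Nat.card F) := by rw [Nat.card_eq_fintype_card]; exact h5
  set M := subalgebraNormalizer K ⊓ spGL 2 F with hMd
  have hT : T5 M := ⟨h5, K, hK, hac, hns, rfl⟩
  have hc : Nat.card M = a5 (Nat.card F) := card_of_T5 h2 hT
  refine maximal_of inf_le_right ?_ (fun L hL hML => ?_)
  · intro h
    have h1 : Nat.card M = aS (Nat.card F) := by rw [h]; exact card_S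
    have h3 := lt_a2 hq
    have h4 := lt_a5 hq
    omega
  · have hdvd : Nat.card M ∣ Nat.card L := Subgroup.card_dvd_of_le hML
    have hle : Nat.card M ≤ Nat.card L := Nat.le_of_dvd Nat.card_pos hdvd
    rw [hc] at hdvd hle
    rcases list hodd h88 hL with h | h | h | h | h | h | h | h
    · exact (Cfsg.Agent.H64.Sp4Three.irr_T2 h2 (Or.inr (Or.inr (Or.inr hT))) h hML).elim
    · exact (Cfsg.Agent.H64.Sp4Types.T5_T2 h5 hodd hK hac hns h hML).elim
    · exfalso
      rw [card_of_T3 h2 h] at hle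
      have := lt_a53 hq
      omega
    · exfalso
      rw [card_of_T4 h2 h] at hdvd
      exact not_dvd_54 hq hdvd
    · exact eq_of_card hML (by rw [card_of_T5 h2 h, hc])
    · exact (not_T6_of_trace h2 hML h (Cfsg.Agent.H328.Sp4TI.T5_trace h2 hK hac hns)).elim
    · exfalso
      have h3 : (Nat.card F) = 5 := five_of_3840 (prime_of_T7 h) hq5 (((dvd_a5 (Nat.card F)).trans hdvd).trans (h7 L h))
      rw [h3, a5_five] at hdvd
      have := hdvd.trans (h7 L h)
      revert this; decide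
    · exfalso
      rcases resl_cases hodd hL.1.le h with ⟨P, hcore, h3, h5', h6⟩ | ⟨h3, h6⟩ | ⟨f, h3, h5', h6⟩
      · have h8 : (Nat.card F) = 5 := five_of_2880 h3 h5' (((dvd_a5 (Nat.card F)).trans hdvd).trans h6)
        rw [h8, a5_five] at hdvd hc
        have h9 : P ≤ M := index_le hML hcore.perfect hcore.le (by
          have := Nat.le_of_dvd (by norm_num) h6
          omega)
        exact not_norm_of_irr h2 hK hac hns hcore.absIrred hcore.perfect (h9.trans inf_le_left)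
      · rw [h3, a5_seven] at hdvd
        have := hdvd.trans h6
        revert this; decide
      · exact not_dvd_58 hq h3 h5' (hdvd.trans h6)

end Cfsg.Agent.H909.Sp4Geom
end

private theorem dce_82b74f1600f4 : _root_.True := by
  try have : _root_.True := by simp only [_root_.Cfsg.Agent.H909.Sp4Arith.a4.eq_1]
  try have : _root_.True := by simp only [_root_.Cfsg.Agent.H909.Sp4Arith.a3.eq_1]
  try have : _root_.True := by simp only [_root_.Cfsg.Agent.H909.Sp4Arith.a8.eq_1]
  try have : _root_.True := by simp only [_root_.Cfsg.Agent.H909.Sp4Arith.a5.eq_1]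
  try have : _root_.True := by simp only [_root_.Cfsg.Agent.H328.Sp4TI.tg.eq_1]
  try have : _root_.True := by simp only [_root_.Cfsg.Agent.H328.Sp4TI.sk.eq_1]
  try have : _root_.True := by simp only [_root_.Cfsg.Agent.H909.Sp4Arith.a6.eq_1]
  try have : _root_.True := by simp only [_root_.Cfsg.Agent.H909.Sp4Arith.aS.eq_1]
  try have : _root_.True := by simp only [_root_.Cfsg.Agent.H909.Sp4Arith.a2.eq_1]
  exact _root_.True.intro
end
end
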